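import Cfsg.Agent.Lib.QuadPair.Ring
import Cfsg.Agent.Lib.RootClass.UnipotentFamily

/-!
Two quadratic elements of least commutator rank: either they generate a unipotent group, or their
scalar families generate `SL₂` over a simple extension of the ground field, acting naturally on the
sum of the two commutator spaces and trivially on the intersection of the two fixed spaces.
-/

set_option autoImplicit false

namespace Cfsg.Agent.QuadPair

open UniFamily

variable {k : Type*} [Field k] {M : Type*} [AddCommGroup M] [Module k M]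

local notation "GLM" => LinearMap.GeneralLinearGroup k M
local notation "EndM" => M →ₗ[k] M

/-- The unit `1 + c x` for `x` of square zero. -/
def el (x : M →ₗ[k] M) (hx : x * x = 0) (c : k) : LinearMap.GeneralLinearGroup k M :=
  ⟨1 + c • x, 1 - c • x,
    by simp only [add_mul, mul_sub, one_mul, mul_one, smul_mul_assoc, mul_smul_comm, hx,
      smul_zero, sub_zero]; abel,
    by simp only [sub_mul, mul_add, one_mul, mul_one, smul_mul_assoc, mul_smul_comm, hx,
      smul_zero, add_zero]; abel⟩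

theorem el_val (x : M →ₗ[k] M) (hx : x * x = 0) (c : k) : ((el x hx c : GLM) : EndM) = 1 + c • x := rfl

theorem dev_el (x : M →ₗ[k] M) (hx : x * x = 0) (c : k) : dev (el x hx c : GLM) = c • x :=
  add_sub_cancel_left _ _

theorem coe_dev (g : GLM) : (g : EndM) = 1 + dev g := by simp [dev]

theorem dev_conj (g h : GLM) : dev (g * h * g⁻¹) = (g : EndM) * dev h * ((g⁻¹ : GLM) : EndM) := by
  simp [dev, Units.val_mul, mul_sub, sub_mul]

theorem dev_apply (g : GLM) (m : M) : dev g m = (g : EndM) m - m := rfl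

variable {G : Subgroup (LinearMap.GeneralLinearGroup k M)}

theorem sq_zero {σ : GLM} (hσ : σ ∈ Cfsg.minimalQuadraticElements G) : dev σ * dev σ = 0 :=
  hσ.1.2.1.1

theorem dev_ne_zero {σ : GLM} (hσ : σ ∈ Cfsg.minimalQuadraticElements G) : dev σ ≠ 0 := hσ.1.2.1.2

theorem el_mem {σ : GLM} (hσ : σ ∈ Cfsg.minimalQuadraticElements G) (c : k) :
    el (dev σ) (sq_zero hσ) c ∈ G := hσ.1.2.2 ⟨c, rfl⟩

theorem scalarFamily_eq {σ : GLM} (hσ : σ ∈ Cfsg.minimalQuadraticElements G) :
    Cfsg.scalarFamily σ = Set.range (el (dev σ) (sq_zero hσ)) := by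
  ext u
  exact ⟨fun ⟨c, hc⟩ => ⟨c, Units.ext hc.symm⟩, fun ⟨c, hc⟩ => ⟨c, hc ▸ rfl⟩⟩

theorem el_one {σ : GLM} (hσ : σ ∈ Cfsg.minimalQuadraticElements G) :
    el (dev σ) (sq_zero hσ) 1 = σ := Units.ext (by rw [el_val, one_smul, ← coe_dev])

theorem mem_quadratic {g : GLM} (hg : g ∈ G) (h2 : dev g * dev g = 0) (h0 : dev g ≠ 0)
    (hfam : ∀ c : k, ∃ u ∈ G, dev u = c • dev g) : g ∈ Cfsg.quadraticElements G := by
  refine ⟨hg, ⟨h2, h0⟩, ?_⟩
  rintro τ ⟨c, hc⟩
  obtain ⟨u, hu, hu'⟩ := hfam c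
  rwa [show τ = u from Units.ext (hc.trans (by rw [coe_dev u, hu']; rfl))]

theorem rank_le {σ : GLM} (hσ : σ ∈ Cfsg.minimalQuadraticElements G) {g : GLM} (hg : g ∈ G)
    (h2 : dev g * dev g = 0) (h0 : dev g ≠ 0) (hfam : ∀ c : k, ∃ u ∈ G, dev u = c • dev g) :
    Module.finrank k (LinearMap.range (dev σ)) ≤ Module.finrank k (LinearMap.range (dev g)) :=
  hσ.2 g (mem_quadratic hg h2 h0 hfam)

theorem rank_eq {σ τ : GLM} (hσ : σ ∈ Cfsg.minimalQuadraticElements G)
    (hτ : τ ∈ Cfsg.minimalQuadraticElements G) :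
    Module.finrank k (LinearMap.range (dev σ)) = Module.finrank k (LinearMap.range (dev τ)) :=
  le_antisymm (hσ.2 τ hτ.1) (hτ.2 σ hσ.1)

theorem range_conj (g : GLM) (x : EndM) :
    LinearMap.range ((g : EndM) * x * ((g⁻¹ : GLM) : EndM)) =
      (LinearMap.range x).map (g : EndM) := by
  ext y
  constructor
  · rintro ⟨m, rfl⟩; exact ⟨_, ⟨_, rfl⟩, rfl⟩
  · rintro ⟨_, ⟨m, rfl⟩, rfl⟩
    refine ⟨(g : EndM) m, ?_⟩
    have h : ((g⁻¹ : GLM) : EndM) ((g : EndM) m) = m := LinearMap.congr_fun g.inv_mul m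
    simp [Module.End.mul_apply, h]

theorem ker_conj (g : GLM) (x : EndM) :
    LinearMap.ker ((g : EndM) * x * ((g⁻¹ : GLM) : EndM)) = (LinearMap.ker x).map (g : EndM) := by
  ext y
  have h1 : ∀ m, ((g⁻¹ : GLM) : EndM) ((g : EndM) m) = m := fun m => LinearMap.congr_fun g.inv_mul m
  have h2 : ∀ m, (g : EndM) (((g⁻¹ : GLM) : EndM) m) = m := fun m => LinearMap.congr_fun g.mul_inv m
  constructor
  · intro hy
    refine ⟨((g⁻¹ : GLM) : EndM) y, ?_, h2 y⟩
    have := congrArg ((g⁻¹ : GLM) : EndM) (LinearMap.mem_ker.1 hy)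
    simpa [Module.End.mul_apply, h1] using this
  · rintro ⟨m, hm, rfl⟩
    simp [Module.End.mul_apply, h1, LinearMap.mem_ker.1 hm]

theorem gl_injective (g : GLM) : Function.Injective (g : EndM) :=
  Function.LeftInverse.injective (g := ((g⁻¹ : GLM) : EndM)) fun m => LinearMap.congr_fun g.inv_mul m

theorem conj_quadratic {g : GLM} (hg : g ∈ G) {σ : GLM} (hσ : σ ∈ Cfsg.quadraticElements G) :
    g * σ * g⁻¹ ∈ Cfsg.quadraticElements G := by
  obtain ⟨hσG, ⟨h2', h0⟩, hfam⟩ := hσ
  have h2 : dev σ * dev σ = 0 := h2'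
  have hd := dev_conj g σ
  refine mem_quadratic (mul_mem (mul_mem hg hσG) (inv_mem hg)) ?_ ?_ ?_
  · rw [hd]
    calc (g : EndM) * dev σ * ↑g⁻¹ * ((g : EndM) * dev σ * ↑g⁻¹)
        = (g : EndM) * (dev σ * (↑g⁻¹ * (g : EndM)) * dev σ) * ↑g⁻¹ := by simp only [mul_assoc]
      _ = 0 := by rw [Units.inv_mul, mul_one, show dev σ * dev σ = 0 from h2, mul_zero, zero_mul]
  · rw [hd]; intro h
    refine h0 ?_
    have := congrArg (fun x => ((g⁻¹ : GLM) : EndM) * x * (g : EndM)) h
    simpa [mul_assoc, dev] using this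
  · intro c
    have hu : el (dev σ) h2 c ∈ G := hfam ⟨c, rfl⟩
    refine ⟨g * el (dev σ) h2 c * g⁻¹, mul_mem (mul_mem hg hu) (inv_mem hg), ?_⟩
    rw [dev_conj, dev_el, hd, mul_smul_comm, smul_mul_assoc]

theorem rank_conj (g : GLM) (x : EndM) :
    Module.finrank k (LinearMap.range ((g : EndM) * x * ((g⁻¹ : GLM) : EndM))) =
      Module.finrank k (LinearMap.range x) := by
  rw [range_conj]
  exact ((Submodule.equivMapOfInjective _ (gl_injective g) _).finrank_eq).symm

theorem conj_minimal {g : GLM} (hg : g ∈ G) {σ : GLM} (hσ : σ ∈ Cfsg.minimalQuadraticElements G) :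
    g * σ * g⁻¹ ∈ Cfsg.minimalQuadraticElements G := by
  refine ⟨conj_quadratic hg hσ.1, fun τ hτ => ?_⟩
  refine le_of_eq_of_le ?_ (hσ.2 τ hτ)
  show Module.finrank k (LinearMap.range (dev (g * σ * g⁻¹))) = _
  rw [dev_conj, rank_conj]; rfl

theorem conj_class {g : GLM} (hg : g ∈ G) {σ x : GLM} (hx : x ∈ Cfsg.sameActionClass G σ) :
    g * x * g⁻¹ ∈ Cfsg.sameActionClass G (g * σ * g⁻¹) := by
  refine ⟨conj_minimal hg hx.1, ?_, ?_⟩
  · show LinearMap.ker (dev (g * x * g⁻¹)) = LinearMap.ker (dev (g * σ * g⁻¹))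
    rw [dev_conj, dev_conj, ker_conj, ker_conj]; congr 1; exact hx.2.1
  · show LinearMap.range (dev (g * x * g⁻¹)) = LinearMap.range (dev (g * σ * g⁻¹))
    rw [dev_conj, dev_conj, range_conj, range_conj]; congr 1; exact hx.2.2

theorem conj_sameAction {g : GLM} (hg : g ∈ G) (σ : GLM) :
    Cfsg.conjBy (Cfsg.sameActionSubgroup G σ) g = Cfsg.sameActionSubgroup G (g * σ * g⁻¹) := by
  rw [Cfsg.conjBy, Cfsg.sameActionSubgroup, Cfsg.sameActionSubgroup, MonoidHom.map_closure]
  congr 1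
  ext y
  constructor
  · rintro ⟨x, hx, rfl⟩
    exact conj_class hg hx
  · intro hy
    refine ⟨g⁻¹ * y * g, ?_, by simp [mul_assoc]⟩
    have := conj_class (inv_mem hg) hy
    simpa [mul_assoc] using this

theorem sameAction_eq {σ x : GLM} (hx : x ∈ Cfsg.sameActionClass G σ) :
    Cfsg.sameActionSubgroup G x = Cfsg.sameActionSubgroup G σ := by
  rw [Cfsg.sameActionSubgroup, Cfsg.sameActionSubgroup]
  congr 1
  ext y
  exact ⟨fun h => ⟨h.1, h.2.1.trans hx.2.1, h.2.2.trans hx.2.2⟩,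
    fun h => ⟨h.1, h.2.1.trans hx.2.1.symm, h.2.2.trans hx.2.2.symm⟩⟩

section Alg

variable (s t : M →ₗ[k] M)

/-- The central element `st + ts`. -/
def zz : M →ₗ[k] M := s * t + t * s

/-- The algebra generated by `s` and `t`. -/
def BB : Subalgebra k (M →ₗ[k] M) := Algebra.adjoin k ({s, t} : Set (M →ₗ[k] M))

/-- The multiples of `zz` in `BB`. -/
def Z0 : Submodule k (M →ₗ[k] M) :=
  (BB s t).toSubmodule.map (LinearMap.mulLeft k (zz s t))

/-- The algebra without unit generated by `s` and `t`, up to multiples of `zz`. -/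
def NN : Submodule k (M →ₗ[k] M) :=
  Submodule.span k {s, t} ⊔ (Submodule.span k {s * t, t * s} ⊔ Z0 s t)

variable {s t} (hs : s * s = 0) (ht : t * t = 0)
include hs ht

theorem z_left : zz s t * s = s * zz s t := by
  rw [zz, add_mul, mul_add, mul_assoc t s s, hs, mul_zero, add_zero, ← mul_assoc, ← mul_assoc, hs,
    zero_mul, zero_add]

theorem z_right : zz s t * t = t * zz s t := by
  rw [zz, add_mul, mul_add, mul_assoc s t t, ht, mul_zero, zero_add, ← mul_assoc, ← mul_assoc, ht,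
    zero_mul, add_zero]

theorem z_comm {b : EndM} (hb : b ∈ BB s t) : zz s t * b = b * zz s t := by
  induction hb using Algebra.adjoin_induction with
  | mem x hx =>
    rcases hx with rfl | rfl
    · exact z_left hs ht
    · exact z_right hs ht
  | algebraMap r => exact (Algebra.commutes r _).symm
  | add x y _ _ hx hy => rw [mul_add, add_mul, hx, hy]
  | mul x y _ _ hx hy => rw [← mul_assoc, hx, mul_assoc, hy, mul_assoc]

omit hs ht in
theorem zz_mem : zz s t ∈ BB s t :=
  add_mem (mul_mem (Algebra.subset_adjoin (Or.inl rfl)) (Algebra.subset_adjoin (Or.inr rfl)))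
    (mul_mem (Algebra.subset_adjoin (Or.inr rfl)) (Algebra.subset_adjoin (Or.inl rfl)))

omit hs ht in
theorem nn_le : NN s t ≤ (BB s t).toSubmodule := by
  have hsB : s ∈ BB s t := Algebra.subset_adjoin (Or.inl rfl)
  have htB : t ∈ BB s t := Algebra.subset_adjoin (Or.inr rfl)
  refine sup_le (Submodule.span_le.2 ?_) (sup_le (Submodule.span_le.2 ?_) ?_)
  · rintro x (rfl | rfl) <;> assumption
  · rintro x (rfl | rfl)
    exacts [(BB s t).mul_mem hsB htB, (BB s t).mul_mem htB hsB]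
  · rintro _ ⟨b, hb, rfl⟩
    exact (BB s t).mul_mem zz_mem hb

theorem z0_mul : Z0 s t * (BB s t).toSubmodule ≤ Z0 s t := by
  refine Submodule.mul_le.2 ?_
  rintro _ ⟨b, hb, rfl⟩ c hc
  exact ⟨b * c, (BB s t).mul_mem hb hc, (mul_assoc _ _ _).symm⟩

theorem mul_z0 : (BB s t).toSubmodule * Z0 s t ≤ Z0 s t := by
  refine Submodule.mul_le.2 ?_
  rintro c hc _ ⟨b, hb, rfl⟩
  refine ⟨c * b, (BB s t).mul_mem hc hb, ?_⟩
  show zz s t * (c * b) = c * (zz s t * b)
  rw [← mul_assoc, z_comm hs ht hc, mul_assoc]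

theorem nn_mul : NN s t * NN s t ≤ Submodule.span k {s * t, t * s} ⊔ Z0 s t := by
  have hsB : s ∈ BB s t := Algebra.subset_adjoin (Or.inl rfl)
  have htB : t ∈ BB s t := Algebra.subset_adjoin (Or.inr rfl)
  have h3 : Submodule.span k {s * t, t * s} * Submodule.span k {s, t} ≤ Z0 s t := by
    rw [Submodule.span_mul_span, Submodule.span_le]
    rintro _ ⟨a, ha, b, hb, rfl⟩
    simp only [Set.mem_insert_iff, Set.mem_singleton_iff] at ha hb
    rcases ha with ha | ha <;> rcases hb with hb | hb <;> rw [ha, hb] <;> beta_reduce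
    · refine ⟨s, hsB, ?_⟩
      show zz s t * s = _
      rw [zz, add_mul, mul_assoc t s s, hs, mul_zero, add_zero]
    · rw [mul_assoc, ht, mul_zero]; exact zero_mem _
    · rw [mul_assoc, hs, mul_zero]; exact zero_mem _
    · refine ⟨t, htB, ?_⟩
      show zz s t * t = _
      rw [zz, add_mul, mul_assoc s t t, ht, mul_zero, zero_add]
  have h3' : Submodule.span k {s, t} * Submodule.span k {s * t, t * s} ≤ Z0 s t := by
    rw [Submodule.span_mul_span, Submodule.span_le]
    rintro _ ⟨a, ha, b, hb, rfl⟩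
    simp only [Set.mem_insert_iff, Set.mem_singleton_iff] at ha hb
    rcases ha with ha | ha <;> rcases hb with hb | hb <;> rw [ha, hb] <;> beta_reduce
    · rw [← mul_assoc, hs, zero_mul]; exact zero_mem _
    · refine ⟨s, hsB, ?_⟩
      show zz s t * s = _
      rw [zz, add_mul, mul_assoc t s s, hs, mul_zero, add_zero, mul_assoc]
    · refine ⟨t, htB, ?_⟩
      show zz s t * t = _
      rw [zz, add_mul, mul_assoc s t t, ht, mul_zero, zero_add, mul_assoc]
    · rw [← mul_assoc, ht, zero_mul]; exact zero_mem _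
  have h2 : Submodule.span k {s, t} * Submodule.span k {s, t} ≤ Submodule.span k {s * t, t * s} := by
    rw [Submodule.span_mul_span, Submodule.span_le]
    rintro _ ⟨a, ha, b, hb, rfl⟩
    simp only [Set.mem_insert_iff, Set.mem_singleton_iff] at ha hb
    rcases ha with ha | ha <;> rcases hb with hb | hb <;> rw [ha, hb] <;> beta_reduce
    · rw [hs]; exact zero_mem _
    · exact Submodule.subset_span (Or.inl rfl)
    · exact Submodule.subset_span (Or.inr rfl)
    · rw [ht]; exact zero_mem _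
  have h4 : Submodule.span k {s * t, t * s} * Submodule.span k {s * t, t * s} ≤ Z0 s t := by
    have : Submodule.span k {s * t, t * s} ≤ Submodule.span k {s, t} * Submodule.span k {s, t} := by
      rw [Submodule.span_le]
      rintro _ (rfl | rfl) <;>
        exact Submodule.mul_mem_mul (Submodule.subset_span (by simp)) (Submodule.subset_span (by simp))
    refine (mul_le_mul_right this _).trans ?_
    rw [← mul_assoc]
    refine (mul_le_mul_left h3 _).trans ?_
    refine (mul_le_mul_right ((Submodule.span_le.2 ?_)) _).trans (z0_mul hs ht)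
    rintro x (rfl | rfl) <;> assumption
  have hB1 : Submodule.span k {s, t} ≤ (BB s t).toSubmodule := le_sup_left.trans nn_le
  have hB2 : Submodule.span k {s * t, t * s} ≤ (BB s t).toSubmodule :=
    (le_sup_left.trans le_sup_right).trans nn_le
  have hB0 : Z0 s t ≤ (BB s t).toSubmodule := (le_sup_right.trans le_sup_right).trans nn_le
  simp only [NN, Submodule.mul_sup, Submodule.sup_mul]
  refine sup_le (sup_le (h2.trans le_sup_left) (sup_le ?_ ?_)) (sup_le (sup_le ?_ (sup_le ?_ ?_))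
    (sup_le ?_ (sup_le ?_ ?_)))
  · exact h3.trans le_sup_right
  · exact ((mul_le_mul_right hB1 _).trans (z0_mul hs ht)).trans le_sup_right
  · exact h3'.trans le_sup_right
  · exact h4.trans le_sup_right
  · exact ((mul_le_mul_right hB2 _).trans (z0_mul hs ht)).trans le_sup_right
  · exact ((mul_le_mul_left hB1 _).trans (mul_z0 hs ht)).trans le_sup_right
  · exact ((mul_le_mul_left hB2 _).trans (mul_z0 hs ht)).trans le_sup_right
  · exact ((mul_le_mul_right hB0 _).trans (z0_mul hs ht)).trans le_sup_right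

theorem nn_mul_le : NN s t * NN s t ≤ NN s t := (nn_mul hs ht).trans le_sup_right

theorem nn_cube : NN s t * NN s t * NN s t ≤ Z0 s t := by
  have hsB : s ∈ BB s t := Algebra.subset_adjoin (Or.inl rfl)
  have htB : t ∈ BB s t := Algebra.subset_adjoin (Or.inr rfl)
  refine (mul_le_mul_left (nn_mul hs ht) _).trans ?_
  rw [Submodule.sup_mul]
  refine sup_le ?_ ((mul_le_mul_right nn_le _).trans (z0_mul hs ht))
  rw [NN, Submodule.mul_sup, Submodule.mul_sup]
  have h3 : Submodule.span k {s * t, t * s} * Submodule.span k {s, t} ≤ Z0 s t := by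
    rw [Submodule.span_mul_span, Submodule.span_le]
    rintro _ ⟨a, ha, b, hb, rfl⟩
    simp only [Set.mem_insert_iff, Set.mem_singleton_iff] at ha hb
    rcases ha with ha | ha <;> rcases hb with hb | hb <;> rw [ha, hb] <;> beta_reduce
    · refine ⟨s, hsB, ?_⟩
      show zz s t * s = _
      rw [zz, add_mul, mul_assoc t s s, hs, mul_zero, add_zero]
    · rw [mul_assoc, ht, mul_zero]; exact zero_mem _
    · rw [mul_assoc, hs, mul_zero]; exact zero_mem _
    · refine ⟨t, htB, ?_⟩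
      show zz s t * t = _
      rw [zz, add_mul, mul_assoc s t t, ht, mul_zero, zero_add]
  refine sup_le h3 (sup_le ?_ ((mul_le_mul_left ((le_sup_left.trans le_sup_right).trans nn_le) _).trans
    (mul_z0 hs ht)))
  rw [Submodule.span_mul_span, Submodule.span_le]
  rintro _ ⟨a, ha, b, hb, rfl⟩
  simp only [Set.mem_insert_iff, Set.mem_singleton_iff] at ha hb
  rcases ha with ha | ha <;> rcases hb with hb | hb <;> rw [ha, hb] <;> beta_reduce
  · refine ⟨s * t, (BB s t).mul_mem hsB htB, ?_⟩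
    show zz s t * (s * t) = _
    rw [zz, add_mul, ← mul_assoc (t * s), mul_assoc t s s, hs, mul_zero, zero_mul, add_zero]
  · rw [mul_assoc, ← mul_assoc t, ht, zero_mul, mul_zero]; exact zero_mem _
  · rw [mul_assoc, ← mul_assoc s, hs, zero_mul, mul_zero]; exact zero_mem _
  · refine ⟨t * s, (BB s t).mul_mem htB hsB, ?_⟩
    show zz s t * (t * s) = _
    rw [zz, add_mul, ← mul_assoc (s * t), mul_assoc s t t, ht, mul_zero, zero_mul, zero_add]

theorem nn_pow_le (j : ℕ) : NN s t ^ (3 * (j + 1)) ≤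
    (BB s t).toSubmodule.map (LinearMap.mulLeft k (zz s t ^ (j + 1))) := by
  induction j with
  | zero =>
    have : NN s t ^ 3 = NN s t * NN s t * NN s t := by rw [pow_succ, pow_two]
    rw [zero_add, mul_one, pow_one, this]
    exact nn_cube hs ht
  | succ j ih =>
    rw [show 3 * (j + 1 + 1) = 3 * (j + 1) + 3 by ring, pow_add,
      show NN s t ^ 3 = NN s t * NN s t * NN s t by rw [pow_succ, pow_two]]
    refine (mul_le_mul' ih (nn_cube hs ht)).trans (Submodule.mul_le.2 ?_)
    rintro _ ⟨b, hb, rfl⟩ _ ⟨c, hc, rfl⟩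
    refine ⟨b * c, (BB s t).mul_mem hb hc, ?_⟩
    show zz s t ^ (j + 1 + 1) * (b * c) = zz s t ^ (j + 1) * b * (zz s t * c)
    rw [pow_succ, mul_assoc, ← mul_assoc (zz s t) b, z_comm hs ht hb]
    simp only [mul_assoc]

omit hs ht in
theorem s_mem : s ∈ NN s t := Submodule.mem_sup_left (Submodule.subset_span (Or.inl rfl))

omit hs ht in
theorem t_mem : t ∈ NN s t := Submodule.mem_sup_left (Submodule.subset_span (Or.inr rfl))

theorem dev_mem_nn {g : GLM}
    (hg : g ∈ Subgroup.closure (Set.range (el s hs) ∪ Set.range (el t ht))) : dev g ∈ NN s t := by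
  let T : Subgroup GLM :=
    { carrier := {g | dev g ∈ NN s t ∧ dev g⁻¹ ∈ NN s t}
      one_mem' := by simp [dev_one]
      mul_mem' := fun {a b} ha hb => by
        refine ⟨?_, ?_⟩
        · rw [dev_mul]
          exact add_mem (add_mem (nn_mul_le hs ht (Submodule.mul_mem_mul ha.1 hb.1)) ha.1) hb.1
        · rw [mul_inv_rev, dev_mul]
          exact add_mem (add_mem (nn_mul_le hs ht (Submodule.mul_mem_mul hb.2 ha.2)) hb.2) ha.2
      inv_mem' := fun {a} ha => ⟨ha.2, by rw [inv_inv]; exact ha.1⟩ }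
  refine ((Subgroup.closure_le T).2 ?_ hg).1
  rintro _ (⟨c, rfl⟩ | ⟨c, rfl⟩)
  · refine ⟨by rw [dev_el]; exact Submodule.smul_mem _ _ s_mem, ?_⟩
    have e : (el s hs c : GLM)⁻¹ = el s hs (-c) := Units.ext (by
      show (1 : EndM) - c • s = 1 + (-c) • s
      rw [neg_smul, sub_eq_add_neg])
    rw [e, dev_el]; exact Submodule.smul_mem _ _ s_mem
  · refine ⟨by rw [dev_el]; exact Submodule.smul_mem _ _ t_mem, ?_⟩
    have e : (el t ht c : GLM)⁻¹ = el t ht (-c) := Units.ext (by
      show (1 : EndM) - c • t = 1 + (-c) • t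
      rw [neg_smul, sub_eq_add_neg])
    rw [e, dev_el]; exact Submodule.smul_mem _ _ t_mem

theorem isUnipotentOn_of_nilpotent (hz : IsNilpotent (zz s t)) :
    Cfsg.IsUnipotentOn (Subgroup.closure (Set.range (el s hs) ∪ Set.range (el t ht))) := by
  obtain ⟨m, hm⟩ := hz
  refine unipotent_of_algebra (N := NN s t) (m := 3 * (m + 1)) (le_bot_iff.1 ?_)
    fun g hg => dev_mem_nn hs ht hg
  refine (nn_pow_le hs ht m).trans ?_
  rintro _ ⟨b, -, rfl⟩
  show zz s t ^ (m + 1) * b ∈ (⊥ : Submodule k EndM)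
  rw [pow_succ, hm, zero_mul, zero_mul]
  exact zero_mem _

theorem dev_lcs {g : GLM} {n : ℕ} (hg : g ∈ Subgroup.lowerCentralSeries
    (Subgroup.closure (Set.range (el s hs) ∪ Set.range (el t ht))) n) :
    dev g ∈ NN s t ^ (n + 1) := by
  set H := Subgroup.closure (Set.range (el s hs) ∪ Set.range (el t ht))
  induction n generalizing g with
  | zero =>
    rw [Subgroup.lowerCentralSeries_zero] at hg
    rw [pow_one]; exact dev_mem_nn hs ht hg
  | succ n ih =>
    have hNN : NN s t ^ (n + 2) * NN s t ≤ NN s t ^ (n + 2) := by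
      rw [pow_succ, mul_assoc]
      exact mul_le_mul_right (nn_mul_le hs ht) _
    have hsq : NN s t ^ (n + 2) * NN s t ^ (n + 2) ≤ NN s t ^ (n + 2) := by
      refine (mul_le_mul_right ?_ _).trans hNN
      clear hg ih hNN
      induction n with
      | zero => rw [pow_two]; exact nn_mul_le hs ht
      | succ n ihn =>
        rw [pow_succ]
        exact (mul_le_mul_left ihn _).trans (nn_mul_le hs ht)
    let T : Subgroup GLM :=
      { carrier := {g | dev g ∈ NN s t ^ (n + 2) ∧ dev g⁻¹ ∈ NN s t ^ (n + 2)}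
        one_mem' := by simp [dev_one]
        mul_mem' := fun {a b} ha hb => by
          refine ⟨?_, ?_⟩
          · rw [dev_mul]
            exact add_mem (add_mem (hsq (Submodule.mul_mem_mul ha.1 hb.1)) ha.1) hb.1
          · rw [mul_inv_rev, dev_mul]
            exact add_mem (add_mem (hsq (Submodule.mul_mem_mul hb.2 ha.2)) hb.2) ha.2
        inv_mem' := fun {a} ha => ⟨ha.2, by rw [inv_inv]; exact ha.1⟩ }
    have hcomm : ∀ a b c d : GLM, dev a ∈ NN s t ^ (n + 1) → dev b ∈ NN s t → c * d ∈ H →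
        a * b = g → b * a = d → True := fun _ _ _ _ _ _ _ _ _ => trivial
    clear hcomm
    rw [Subgroup.lowerCentralSeries_succ] at hg
    refine ((Subgroup.commutator_le).2 (fun a ha b hb => ?_) hg : g ∈ T).1
    have haH : a ∈ H := lcs_le H n ha
    have hprod : ∀ a' b' : GLM, dev a' * dev b' - dev b' * dev a' ∈ NN s t ^ (n + 2) →
        a' ∈ H → b' ∈ H → dev (a' * b' * a'⁻¹ * b'⁻¹) ∈ NN s t ^ (n + 2) := by
      intro a' b' h ha' hb'
      have e : dev (a' * b' * a'⁻¹ * b'⁻¹) =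
          (dev a' * dev b' - dev b' * dev a') * (1 + dev (a'⁻¹ * b'⁻¹)) := by
        rw [← coe_dev]
        have e1 : dev a' * dev b' - dev b' * dev a' =
            ((a' * b' : GLM) : EndM) - ((b' * a' : GLM) : EndM) := by
          simp only [dev, Units.val_mul, sub_mul, mul_sub, one_mul, mul_one]; abel
        rw [e1, sub_mul, ← Units.val_mul, ← Units.val_mul, dev]
        simp [mul_assoc]
      rw [e, mul_add, mul_one]
      exact add_mem h (hNN (Submodule.mul_mem_mul h
        (dev_mem_nn hs ht (mul_mem (inv_mem ha') (inv_mem hb')))))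
    have h1 : dev a * dev b ∈ NN s t ^ (n + 2) := by
      rw [pow_succ]; exact Submodule.mul_mem_mul (ih ha) (dev_mem_nn hs ht hb)
    have h2 : dev b * dev a ∈ NN s t ^ (n + 2) := by
      rw [pow_succ']; exact Submodule.mul_mem_mul (dev_mem_nn hs ht hb) (ih ha)
    rw [commutatorElement_def]
    refine ⟨hprod a b (sub_mem h1 h2) haH hb, ?_⟩
    rw [show (a * b * a⁻¹ * b⁻¹)⁻¹ = b * a * b⁻¹ * a⁻¹ by group]
    exact hprod b a (sub_mem h2 h1) hb haH

end Alg

/-- The algebra generated by one element is commutative. -/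
instance singleAdjoinCommRing {A : Type*} [Ring A] [Algebra k A] (x : A) :
    CommRing (Algebra.adjoin k ({x} : Set A)) :=
  Algebra.adjoinCommRingOfComm k fun a ha b hb => by
    rw [Set.mem_singleton_iff] at ha hb; rw [ha, hb]

section Struct

variable [FiniteDimensional k M]

/-- `g` acts as the matrix `A` over the endomorphism algebra of `range s`, in the frame
`(w₁, w₂) ↦ w₁ + t ν w₂`. -/
def Rel (t : M →ₗ[k] M) {W : Submodule k M} (ν : Module.End k W)
    {R : Subalgebra k (Module.End k W)} [CommRing R] (g : LinearMap.GeneralLinearGroup k M)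
    (A : Matrix.SpecialLinearGroup (Fin 2) R) : Prop :=
  ∀ w₁ w₂ : W, (g : M →ₗ[k] M) ((w₁ : M) + t (ν w₂ : W)) =
    ((((A : Matrix (Fin 2) (Fin 2) R) 0 0 : R) : Module.End k W) w₁ +
      (((A : Matrix (Fin 2) (Fin 2) R) 0 1 : R) : Module.End k W) w₂ : W) +
    t (ν ((((A : Matrix (Fin 2) (Fin 2) R) 1 0 : R) : Module.End k W) w₁ +
      (((A : Matrix (Fin 2) (Fin 2) R) 1 1 : R) : Module.End k W) w₂) : W)

/-- The conclusion about a non-degenerate pair. -/
structure Split (s t : M →ₗ[k] M) : Prop where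
  left : LinearMap.range s ⊓ LinearMap.ker t = ⊥
  right : LinearMap.range t ⊓ LinearMap.ker s = ⊥
  ker_left : LinearMap.ker s = (LinearMap.ker s ⊓ LinearMap.ker t) ⊔ LinearMap.range s
  ker_right : LinearMap.ker t = (LinearMap.ker s ⊓ LinearMap.ker t) ⊔ LinearMap.range t
  compl : IsCompl (LinearMap.ker s ⊓ LinearMap.ker t) (LinearMap.range s ⊔ LinearMap.range t)

theorem not_nilpotent_of_left {s t : M →ₗ[k] M} (hs : s * s = 0) (hs0 : s ≠ 0)
    (h1 : LinearMap.range s ⊓ LinearMap.ker t = ⊥) (h2 : LinearMap.range t ⊓ LinearMap.ker s = ⊥) :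
    ¬ IsNilpotent (zz s t) := by
  rintro ⟨m, hm⟩
  obtain ⟨x, hx⟩ : ∃ x, s x ≠ 0 := by
    by_contra hno
    push Not at hno
    exact hs0 (LinearMap.ext hno)
  suffices h : ∀ j, (zz s t ^ j) (s x) ≠ 0 ∧ (zz s t ^ j) (s x) ∈ LinearMap.range s from
    (h m).1 (by rw [hm]; rfl)
  intro j
  induction j with
  | zero => exact ⟨by simpa using hx, ⟨x, rfl⟩⟩
  | succ j ih =>
    obtain ⟨hne, y, hy⟩ := ih
    rw [pow_succ', Module.End.mul_apply, ← hy]
    have hsy : s (s y) = 0 := LinearMap.congr_fun hs y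
    have e : zz s t (s y) = s (t (s y)) := by simp [zz, Module.End.mul_apply, hsy]
    rw [e]
    refine ⟨fun h0 => ?_, ⟨_, rfl⟩⟩
    have htsy : t (s y) = 0 := by
      rw [← Submodule.mem_bot k, ← h2]; exact ⟨⟨_, rfl⟩, h0⟩
    refine hne ?_
    rw [← hy, ← Submodule.mem_bot k, ← h1]
    exact ⟨⟨_, rfl⟩, htsy⟩

variable (hk2 : (2 : k) ≠ 0) (hk3 : Nat.card k ≠ 3)
include hk2 hk3

set_option maxHeartbeats 1600000 in
/-- The structure of a pair whose scalar families do not generate a unipotent group. -/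
theorem structure_theorem {σ τ : GLM} (hσ : σ ∈ Cfsg.minimalQuadraticElements G)
    (hτ : τ ∈ Cfsg.minimalQuadraticElements G) (hz : ¬ IsNilpotent (zz (dev σ) (dev τ))) :
    Split (dev σ) (dev τ) ∧
    ∃ (ν : Module.End k (LinearMap.range (dev σ)))
      (Λ : Module.End k (LinearMap.range (dev σ))) (H : Subgroup GLM),
      IsField (Algebra.adjoin k ({Λ} : Set (Module.End k (LinearMap.range (dev σ))))) ∧
      H = Subgroup.closure (Cfsg.scalarFamily σ ∪ Cfsg.scalarFamily τ) ∧
      H ≤ G ∧ Function.Bijective ν ∧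
      (∀ g ∈ H, ∀ m ∈ LinearMap.ker (dev σ) ⊓ LinearMap.ker (dev τ), (g : EndM) m = m) ∧
      (∀ A : Matrix.SpecialLinearGroup (Fin 2) (Algebra.adjoin k ({Λ} : Set _)),
        ∃ g ∈ H, Rel (dev τ) ν g A) ∧
      Rel (dev τ) ν σ (uR (1 : Algebra.adjoin k ({Λ} : Set _))) ∧
      (∀ (A B : Matrix.SpecialLinearGroup (Fin 2) (Algebra.adjoin k ({Λ} : Set _))) (g : GLM),
        Rel (dev τ) ν g A → Rel (dev τ) ν g B → A = B) ∧
      Nonempty (H ≃* Matrix.SpecialLinearGroup (Fin 2) (Algebra.adjoin k ({Λ} : Set _))) ∧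
      ∃ φ : Matrix.SpecialLinearGroup (Fin 2) (Algebra.adjoin k ({Λ} : Set _)) →* GLM,
        (∀ A, φ A ∈ H ∧ Rel (dev τ) ν (φ A) A) ∧
        φ (uR (1 : Algebra.adjoin k ({Λ} : Set _))) = σ ∧
        ∀ w : LinearMap.range (dev σ), (Λ w : M) = dev σ (dev τ w) := by
  classical
  have hs := sq_zero hσ
  have ht := sq_zero hτ
  set s := dev σ with hsd
  set t := dev τ with htd
  set z := zz s t with hzd
  set H := Subgroup.closure (Cfsg.scalarFamily σ ∪ Cfsg.scalarFamily τ) with hHd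
  have hH : H = Subgroup.closure (Set.range (el s hs) ∪ Set.range (el t ht)) := by
    rw [hHd, scalarFamily_eq hσ, scalarFamily_eq hτ]
  have hHG : H ≤ G := (Subgroup.closure_le G).2 (Set.union_subset hσ.1.2.2 hτ.1.2.2)
  obtain ⟨N, hN⟩ := Filter.eventually_atTop.1 (LinearMap.eventually_isCompl_ker_pow_range_pow z)
  have hcompl := hN (N + 1) (Nat.le_succ N)
  set M0 := LinearMap.ker (z ^ (N + 1)) with hM0
  set M1 := LinearMap.range (z ^ (N + 1)) with hM1
  have hzs : z * s = s * z := z_left hs ht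
  have hzt : z * t = t * z := z_right hs ht
  have hzps : ∀ m : M, (z ^ (N + 1)) (s m) = s ((z ^ (N + 1)) m) := fun m =>
    LinearMap.congr_fun (Commute.pow_left (show Commute z s from hzs) (N + 1)) m
  have hzpt : ∀ m : M, (z ^ (N + 1)) (t m) = t ((z ^ (N + 1)) m) := fun m =>
    LinearMap.congr_fun (Commute.pow_left (show Commute z t from hzt) (N + 1)) m
  have hsM1 : ∀ m ∈ M1, s m ∈ M1 := by rintro _ ⟨m, rfl⟩; exact ⟨s m, hzps m⟩
  have htM1 : ∀ m ∈ M1, t m ∈ M1 := by rintro _ ⟨m, rfl⟩; exact ⟨t m, hzpt m⟩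
  have hsM0 : ∀ m ∈ M0, s m ∈ M0 := fun m hm => by
    rw [hM0, LinearMap.mem_ker, hzps, LinearMap.mem_ker.1 hm, map_zero]
  have htM0 : ∀ m ∈ M0, t m ∈ M0 := fun m hm => by
    rw [hM0, LinearMap.mem_ker, hzpt, LinearMap.mem_ker.1 hm, map_zero]
  have hzinj : ∀ m ∈ M1, z m = 0 → m = 0 := fun m hm h => by
    refine (Submodule.disjoint_def.1 hcompl.disjoint) m ?_ hm
    rw [LinearMap.mem_ker, pow_succ, Module.End.mul_apply, h, map_zero]
  have hss : ∀ m, s (s m) = 0 := fun m => LinearMap.congr_fun hs m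
  have htt : ∀ m, t (t m) = 0 := fun m => LinearMap.congr_fun ht m
  have hzap : ∀ m, z m = s (t m) + t (s m) := fun m => rfl
  set V := LinearMap.range s with hV
  set W : Submodule k M := M1.map s with hW
  have hWV : W ≤ V := by rintro _ ⟨m, -, rfl⟩; exact ⟨m, rfl⟩
  have hWM1 : W ≤ M1 := by rintro _ ⟨m, hm, rfl⟩; exact hsM1 m hm
  have hWs : ∀ w ∈ W, s w = 0 := by rintro _ ⟨m, -, rfl⟩; exact hss m
  -- `z` restricted to `W`
  have hzW : ∀ w ∈ W, z w = s (t w) ∧ z w ∈ W := fun w hw => by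
    refine ⟨by rw [hzap, hWs w hw, map_zero, add_zero], ?_⟩
    rw [hzap, hWs w hw, map_zero, add_zero]
    exact ⟨t w, htM1 w (hWM1 hw), rfl⟩
  have hkerW : ∀ m ∈ M1, s m = 0 → m ∈ W := by
    intro m hm h
    have hinjz : Function.Injective ((z).restrict (p := M1) (q := M1) fun x hx => by
        obtain ⟨y, rfl⟩ := hx
        exact ⟨z y, by rw [← Module.End.mul_apply, ← Module.End.mul_apply, ← pow_succ, ← pow_succ']⟩) := by
      rw [injective_iff_map_eq_zero]
      intro x hx
      exact Subtype.ext (hzinj x x.2 (congrArg Subtype.val hx))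
    obtain ⟨⟨m', hm'⟩, hmm⟩ := (LinearMap.injective_iff_surjective.1 hinjz) ⟨m, hm⟩
    have hzm : z m' = m := congrArg Subtype.val hmm
    have hsm' : s m' = 0 := hzinj _ (hsM1 m' hm') (by
      rw [← Module.End.mul_apply, hzs, Module.End.mul_apply, hzm, h])
    exact ⟨t m', htM1 m' hm', by rw [← hzm, hzap, hsm', map_zero, add_zero]⟩
  let Λ : Module.End k W := (z.restrict fun w hw => (hzW w hw).2)
  have hΛ : ∀ w : W, (Λ w : M) = s (t w) := fun w => (hzW w w.2).1
  have hΛinj : Function.Injective Λ := by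
    rw [injective_iff_map_eq_zero]
    intro w hw
    exact Subtype.ext (hzinj w (hWM1 w.2) (congrArg Subtype.val hw))
  have hΛbij : Function.Bijective Λ := ⟨hΛinj, LinearMap.injective_iff_surjective.1 hΛinj⟩
  let ν : Module.End k W := (LinearEquiv.ofBijective Λ hΛbij).symm.toLinearMap
  have hΛν : ∀ w, Λ (ν w) = w := fun w => (LinearEquiv.ofBijective Λ hΛbij).apply_symm_apply w
  have hνΛ : ∀ w, ν (Λ w) = w := fun w => (LinearEquiv.ofBijective Λ hΛbij).symm_apply_apply w
  let e : W × W →ₗ[k] M := LinearMap.coprod W.subtype (t.comp (W.subtype.comp ν))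
  have he : ∀ w₁ w₂ : W, e (w₁, w₂) = (w₁ : M) + t (ν w₂ : W) := fun _ _ => rfl
  have hse : ∀ w₁ w₂ : W, s (e (w₁, w₂)) = (w₂ : M) := fun w₁ w₂ => by
    rw [he, map_add, hWs _ w₁.2, zero_add, ← hΛ, hΛν]
  have hte : ∀ w₁ w₂ : W, t (e (w₁, w₂)) = t (w₁ : M) := fun w₁ w₂ => by
    rw [he, map_add, htt, add_zero]
  have heinj : ∀ {p q : W × W}, e p = e q → p = q := by
    rintro ⟨a, b⟩ ⟨c, d⟩ h
    have h2 : b = d := Subtype.ext (by rw [← hse a b, h, hse])
    subst h2
    rw [he, he] at h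
    exact Prod.ext (Subtype.ext (add_right_cancel h)) rfl
  have hesurj : ∀ m ∈ M1, ∃ w₁ w₂, e (w₁, w₂) = m := by
    intro m hm
    set w₂ : W := ⟨s m, m, hm, rfl⟩ with hw₂
    have hd : m - t (ν w₂ : W) ∈ W := hkerW _ (M1.sub_mem hm (htM1 _ (hWM1 (ν w₂).2))) (by
      rw [map_sub, ← hΛ, hΛν, sub_self])
    exact ⟨⟨_, hd⟩, w₂, by rw [he]; simp⟩
  have hdimW : 0 < Module.finrank k W := by
    rw [Nat.pos_iff_ne_zero]
    intro h0
    have hWbot : W = ⊥ := Submodule.finrank_eq_zero.1 h0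
    refine hz ⟨N + 2, LinearMap.ext fun m => ?_⟩
    have hm' : (z ^ (N + 1)) m ∈ M1 := ⟨m, rfl⟩
    rw [pow_succ', Module.End.mul_apply]
    have hsW : ∀ x ∈ M1, s x = 0 := fun x hx => by
      rw [← Submodule.mem_bot k, ← hWbot]; exact ⟨x, hx, rfl⟩
    rw [hzap, hsW _ hm', hsW _ (htM1 _ hm'), map_zero, add_zero, LinearMap.zero_apply]
  haveI : Nontrivial W := Module.finrank_pos_iff.1 hdimW
  set R := Algebra.adjoin k ({Λ} : Set (Module.End k W)) with hR
  letI : CommRing R := singleAdjoinCommRing Λ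
  haveI : Nontrivial R := ⟨⟨0, 1, fun h => zero_ne_one (congrArg Subtype.val h)⟩⟩
  set lam : R := ⟨Λ, Algebra.subset_adjoin rfl⟩ with hlam
  have hgen : Algebra.adjoin k ({lam} : Set R) = ⊤ := by
    refine Subalgebra.map_injective (f := R.val) Subtype.val_injective ?_
    rw [← Algebra.adjoin_image, Set.image_singleton, Algebra.map_top, Subalgebra.range_val]
    rfl
  have hunit : ∀ r : R, Function.Injective (r : Module.End k W) → IsUnit r := by
    intro r hr
    have hinj : Function.Injective (LinearMap.mulLeft k r) := fun a b h => by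
      refine Subtype.ext (LinearMap.ext fun w => hr ?_)
      exact LinearMap.congr_fun (congrArg Subtype.val h) w
    obtain ⟨r', hr'⟩ := (LinearMap.injective_iff_surjective.1 hinj) 1
    exact IsUnit.of_mul_eq_one r' hr'
  have hlamu : IsUnit lam := hunit lam hΛinj
  have hcoe : ∀ (c : k) (w : W), ((algebraMap k R c : R) : Module.End k W) w = c • w :=
    fun c w => rfl
  -- the relation
  have hrel_mul : ∀ {g g' A A'}, Rel t ν g A → Rel t ν g' A' →
      Rel t ν (g * g') (A * (A' : Matrix.SpecialLinearGroup (Fin 2) R)) := by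
    intro g g' A A' h h' w₁ w₂
    rw [Units.val_mul, Module.End.mul_apply, h', h]
    simp only [mul_00, mul_01, mul_10, mul_11, Subalgebra.coe_add, Subalgebra.coe_mul,
      LinearMap.add_apply, Module.End.mul_apply, map_add]
    simp only [Submodule.coe_add, map_add]
    abel
  have hrel_one : Rel t ν (1 : GLM) (1 : Matrix.SpecialLinearGroup (Fin 2) R) := by
    intro w₁ w₂; simp
  have hrel_inv : ∀ {g A}, Rel t ν g (A : Matrix.SpecialLinearGroup (Fin 2) R) →
      Rel t ν g⁻¹ A⁻¹ := by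
    intro g A h w₁ w₂
    apply gl_injective g
    rw [h, ← Module.End.mul_apply, ← Units.val_mul, mul_inv_cancel, Units.val_one,
      Module.End.one_apply]
    have hmul := mul_inv_cancel A
    have e00 := congrArg (fun x : Matrix.SpecialLinearGroup (Fin 2) R =>
      (((x : Matrix (Fin 2) (Fin 2) R) 0 0 : R) : Module.End k W) w₁) hmul
    have e01 := congrArg (fun x : Matrix.SpecialLinearGroup (Fin 2) R =>
      (((x : Matrix (Fin 2) (Fin 2) R) 0 1 : R) : Module.End k W) w₂) hmul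
    have e10 := congrArg (fun x : Matrix.SpecialLinearGroup (Fin 2) R =>
      (((x : Matrix (Fin 2) (Fin 2) R) 1 0 : R) : Module.End k W) w₁) hmul
    have e11 := congrArg (fun x : Matrix.SpecialLinearGroup (Fin 2) R =>
      (((x : Matrix (Fin 2) (Fin 2) R) 1 1 : R) : Module.End k W) w₂) hmul
    simp only [mul_00, mul_01, mul_10, mul_11, Subalgebra.coe_add, Subalgebra.coe_mul,
      LinearMap.add_apply, Module.End.mul_apply, Matrix.SpecialLinearGroup.coe_one] at e00 e01 e10 e11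
    simp [-Matrix.SpecialLinearGroup.coe_inv] at e00 e01 e10 e11
    simp only [map_add]
    rw [show ∀ a b c d : W, a + b + (c + d) = (a + c) + (b + d) from fun a b c d => by abel]
    rw [e00, e01]
    rw [show ∀ a b c d : W, ν a + ν b + (ν c + ν d) = ν (a + c) + ν (b + d) from
      fun a b c d => by simp only [map_add]; abel]
    rw [e10, e11]
    simp
  set H1 := rootGrp k lam with hH1
  have hrelσ : ∀ c : k, Rel t ν (el s hs c) (uR (algebraMap k R c)) := by
    intro c w₁ w₂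
    rw [el_val, LinearMap.add_apply, Module.End.one_apply, LinearMap.smul_apply, ← he, hse]
    simp [uR_val, he, hcoe]
    abel
  have hrelτ : ∀ c : k, Rel t ν (el t ht c) (lR (algebraMap k R c * lam)) := by
    intro c w₁ w₂
    rw [el_val, LinearMap.add_apply, Module.End.one_apply, LinearMap.smul_apply, ← he, hte]
    simp [lR_val, he, hcoe, hlam, hνΛ]
    abel
  -- the graph
  let P : Subgroup (GLM × Matrix.SpecialLinearGroup (Fin 2) R) :=
    { carrier := {p | p.1 ∈ H ∧ p.2 ∈ H1 ∧ Rel t ν p.1 p.2}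
      one_mem' := ⟨one_mem _, one_mem _, hrel_one⟩
      mul_mem' := fun {p q} hp hq => ⟨mul_mem hp.1 hq.1, mul_mem hp.2.1 hq.2.1, hrel_mul hp.2.2 hq.2.2⟩
      inv_mem' := fun {p} hp => ⟨inv_mem hp.1, inv_mem hp.2.1, hrel_inv hp.2.2⟩ }
  have hP1 : P.map (MonoidHom.fst _ _) = H := by
    refine le_antisymm ?_ ((Subgroup.closure_le _).2 ?_)
    · rintro _ ⟨p, hp, rfl⟩; exact hp.1
    · rw [scalarFamily_eq hσ, scalarFamily_eq hτ]
      rintro _ (⟨c, rfl⟩ | ⟨c, rfl⟩)
      · exact ⟨(el s hs c, uR (algebraMap k R c)),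
          ⟨Subgroup.subset_closure (Or.inl (scalarFamily_eq hσ ▸ ⟨c, rfl⟩)), uR_mem_rootGrp _ c,
            hrelσ c⟩, rfl⟩
      · exact ⟨(el t ht c, lR (algebraMap k R c * lam)),
          ⟨Subgroup.subset_closure (Or.inr (scalarFamily_eq hτ ▸ ⟨c, rfl⟩)), lR_mem_rootGrp _ c,
            hrelτ c⟩, rfl⟩
  have hP2 : P.map (MonoidHom.snd _ _) = H1 := by
    refine le_antisymm ?_ ((Subgroup.closure_le _).2 ?_)
    · rintro _ ⟨p, hp, rfl⟩; exact hp.2.1
    · rintro _ (⟨c, rfl⟩ | ⟨c, rfl⟩)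
      · exact ⟨(el s hs c, uR (algebraMap k R c)),
          ⟨Subgroup.subset_closure (Or.inl (scalarFamily_eq hσ ▸ ⟨c, rfl⟩)), uR_mem_rootGrp _ c,
            hrelσ c⟩, rfl⟩
      · exact ⟨(el t ht c, lR (algebraMap k R c * lam)),
          ⟨Subgroup.subset_closure (Or.inr (scalarFamily_eq hτ ▸ ⟨c, rfl⟩)), lR_mem_rootGrp _ c,
            hrelτ c⟩, rfl⟩
  set n := 3 * (N + 1) with hn
  have hM0fix : ∀ g ∈ Subgroup.lowerCentralSeries H n, ∀ m ∈ M0, (g : EndM) m = m := by
    intro g hg m hm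
    rw [hH] at hg
    have h1 : dev g ∈ NN s t ^ n := by
      have h := dev_lcs hs ht hg
      rw [pow_succ] at h
      refine (?_ : NN s t ^ n * NN s t ≤ NN s t ^ n) h
      rw [hn, show 3 * (N + 1) = (3 * N + 2) + 1 by ring, pow_succ, mul_assoc]
      exact mul_le_mul_right (nn_mul_le hs ht) _
    obtain ⟨b, hb, hbe⟩ := nn_pow_le hs ht N h1
    have : dev g m = 0 := by
      rw [← hbe, LinearMap.mulLeft_apply]
      rw [show zz s t ^ (N + 1) * b = b * zz s t ^ (N + 1) from
        (Commute.pow_left (show Commute (zz s t) b from z_comm hs ht hb) _).eq]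
      rw [Module.End.mul_apply, show (zz s t ^ (N + 1)) m = 0 from hm, map_zero]
    rwa [dev_apply, sub_eq_zero] at this
  have hlift : ∀ A ∈ Subgroup.lowerCentralSeries H1 n,
      ∃ g ∈ Subgroup.lowerCentralSeries H n, Rel t ν g A := by
    intro A hA
    rw [← hP2, ← lcs_mono_map] at hA
    obtain ⟨p, hp, rfl⟩ := hA
    refine ⟨p.1, ?_, (lcs_le P n hp).2.2⟩
    rw [← hP1, ← lcs_mono_map]
    exact ⟨p, hp, rfl⟩
  -- elements acting as transvections
  have htrans : ∀ {g : GLM} {r : R}, (∀ m ∈ M0, (g : EndM) m = m) → Rel t ν g (uR r) →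
      (∀ m ∈ M0, dev g m = 0) ∧
      (∀ w₁ w₂, dev g (e (w₁, w₂)) = (((r : Module.End k W) w₂ : W) : M)) := by
    intro g r hg0 hg
    refine ⟨fun m hm => by rw [dev_apply, hg0 m hm, sub_self], fun w₁ w₂ => ?_⟩
    rw [dev_apply, he, hg]
    simp [uR_val]
  have hext : ∀ {f f' : EndM}, (∀ m ∈ M0, f m = f' m) →
      (∀ w₁ w₂, f (e (w₁, w₂)) = f' (e (w₁, w₂))) → f = f' := by
    intro f f' h0 h1
    refine LinearMap.ext fun m => ?_
    obtain ⟨a, b, ha, hb, rfl⟩ := Submodule.codisjoint_iff_exists_add_eq.1 hcompl.codisjoint m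
    obtain ⟨w₁, w₂, rfl⟩ := hesurj b hb
    rw [map_add, map_add, h0 a ha, h1]
  have hquad : ∀ {g : GLM} {r : R}, r ≠ 0 → g ∈ H → (∀ m ∈ M0, (g : EndM) m = m) →
      Rel t ν g (uR r) →
      (∀ c : k, ∃ u ∈ H, (∀ m ∈ M0, (u : EndM) m = m) ∧ Rel t ν u (uR (algebraMap k R c * r))) →
      Module.finrank k V ≤ Module.finrank k (LinearMap.range (r : Module.End k W)) := by
    intro g r hr hgH hg0 hg hfam
    obtain ⟨h0, h1⟩ := htrans hg0 hg
    have hrange : LinearMap.range (dev g) ≤ (LinearMap.range (r : Module.End k W)).map W.subtype := by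
      rintro _ ⟨m, rfl⟩
      obtain ⟨a, b, ha, hb, rfl⟩ := Submodule.codisjoint_iff_exists_add_eq.1 hcompl.codisjoint m
      obtain ⟨w₁, w₂, rfl⟩ := hesurj b hb
      rw [map_add, h0 a ha, h1, zero_add]
      exact ⟨_, ⟨w₂, rfl⟩, rfl⟩
    have hsq : dev g * dev g = 0 := by
      refine hext (fun m hm => by simp [Module.End.mul_apply, h0 m hm]) fun w₁ w₂ => ?_
      rw [Module.End.mul_apply, h1]
      have := h1 ((r : Module.End k W) w₂) 0
      rw [he, map_zero, map_zero, Submodule.coe_zero, map_zero, add_zero] at this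
      rw [this, LinearMap.zero_apply]
    have hne : dev g ≠ 0 := by
      intro h
      refine hr (Subtype.ext (LinearMap.ext fun w₂ => Subtype.ext ?_))
      have := h1 0 w₂
      rw [h, LinearMap.zero_apply] at this
      exact this.symm
    refine (rank_le hσ (hHG hgH) hsq hne fun c => ?_).trans
      ((Submodule.finrank_mono hrange).trans (le_of_eq
        (Submodule.equivMapOfInjective W.subtype Subtype.val_injective _).finrank_eq.symm))
    obtain ⟨u, hu, hu0, hur⟩ := hfam c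
    obtain ⟨h0', h1'⟩ := htrans hu0 hur
    refine ⟨u, hHG hu, hext (fun m hm => ?_) fun w₁ w₂ => ?_⟩
    · rw [LinearMap.smul_apply, h0' m hm, h0 m hm, smul_zero]
    · rw [LinearMap.smul_apply, h1', h1, Subalgebra.coe_mul, Module.End.mul_apply, hcoe]
      rfl
  have hfieldR : IsField R := by
    rcases field_or_transvection hk2 hk3 hlamu hgen n with h | ⟨r, hr0, hru, hr⟩
    · exact h
    exfalso
    obtain ⟨g, hg, hgr⟩ := hlift _ (by simpa using hr 1)
    have h := hquad hr0 (lcs_le _ _ hg) (hM0fix g hg) hgr fun c => by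
      obtain ⟨u, hu, hur⟩ := hlift _ (hr c)
      exact ⟨u, lcs_le _ _ hu, hM0fix u hu, hur⟩
    have hlt : Module.finrank k (LinearMap.range (r : Module.End k W)) < Module.finrank k W := by
      refine Submodule.finrank_lt fun htop => hru (hunit r ?_)
      exact LinearMap.injective_iff_surjective.2 (LinearMap.range_eq_top.1 htop)
    have := Submodule.finrank_mono hWV
    omega
  letI : Field R := hfieldR.toField
  obtain ⟨hH1top, hlcsTop⟩ := rootGrp_eq_top hk2 hk3 hlamu.ne_zero hgen n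
  have hWeq : W = V := by
    have hmem : ∀ x, uR x ∈ Subgroup.lowerCentralSeries H1 n := fun x => by
      rw [hlcsTop]; exact Subgroup.mem_top _
    obtain ⟨g, hg, hgr⟩ := hlift _ (hmem 1)
    have h := hquad (one_ne_zero (α := R)) (lcs_le _ _ hg) (hM0fix g hg) hgr fun c => by
      obtain ⟨u, hu, hur⟩ := hlift _ (hmem (algebraMap k R c * 1))
      exact ⟨u, lcs_le _ _ hu, hM0fix u hu, hur⟩
    exact Submodule.eq_of_le_of_finrank_le hWV (h.trans (Submodule.finrank_le _))
  -- both elements are trivial on `M0`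
  have hs0 : ∀ m ∈ M0, s m = 0 := fun m hm =>
    Submodule.disjoint_def.1 hcompl.disjoint _ (hsM0 m hm) (hWM1 (hWeq.ge ⟨m, rfl⟩))
  have ht0 : ∀ m ∈ M0, t m = 0 := by
    have hinjt : Function.Injective (t.comp W.subtype) := by
      rw [injective_iff_map_eq_zero]
      intro w hw
      refine hΛinj ((Subtype.ext ?_).trans (map_zero Λ).symm)
      show (Λ w : M) = 0
      rw [hΛ, show t (w : M) = 0 from hw, map_zero]
    have hle : LinearMap.range (t.comp W.subtype) ≤ LinearMap.range t :=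
      LinearMap.range_comp_le_range _ _
    have heq : LinearMap.range (t.comp W.subtype) = LinearMap.range t := by
      refine Submodule.eq_of_le_of_finrank_le hle ?_
      rw [LinearMap.finrank_range_of_inj hinjt, hWeq]
      exact (rank_eq hτ hσ).le
    intro m hm
    refine Submodule.disjoint_def.1 hcompl.disjoint _ (htM0 m hm) ?_
    obtain ⟨w, hw⟩ := heq.ge (⟨m, rfl⟩ : t m ∈ LinearMap.range t)
    rw [← hw]; exact htM1 _ (hWM1 w.2)
  have hC : LinearMap.ker s ⊓ LinearMap.ker t = M0 := by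
    refine le_antisymm (fun m hm => ?_) fun m hm => ⟨hs0 m hm, ht0 m hm⟩
    have hzm : z m = 0 := by
      rw [hzap, LinearMap.mem_ker.1 hm.1, LinearMap.mem_ker.1 hm.2, map_zero, map_zero, add_zero]
    rw [LinearMap.mem_ker, pow_succ, Module.End.mul_apply, hzm, map_zero]
  have hkers : ∀ m, s m = 0 → m ∈ M0 ⊔ V := by
    intro m hm
    obtain ⟨a, b, ha, hb, rfl⟩ := Submodule.codisjoint_iff_exists_add_eq.1 hcompl.codisjoint m
    obtain ⟨w₁, w₂, rfl⟩ := hesurj b hb
    rw [map_add, hs0 a ha, zero_add, hse] at hm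
    have hw : w₂ = 0 := Subtype.ext hm
    subst hw
    refine Submodule.add_mem_sup ha ?_
    rw [he]; simpa using hWV w₁.2
  have hkert : ∀ m, t m = 0 → m ∈ M0 ⊔ LinearMap.range t := by
    intro m hm
    obtain ⟨a, b, ha, hb, rfl⟩ := Submodule.codisjoint_iff_exists_add_eq.1 hcompl.codisjoint m
    obtain ⟨w₁, w₂, rfl⟩ := hesurj b hb
    rw [map_add, ht0 a ha, zero_add, hte] at hm
    have hw : (w₁ : M) = 0 := hzinj _ (hWM1 w₁.2) (by rw [hzap, hm, hWs _ w₁.2, map_zero, map_zero, add_zero])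
    refine Submodule.add_mem_sup ha ?_
    rw [he, hw, zero_add]; exact ⟨_, rfl⟩
  have hsplit : Split s t := by
    refine ⟨?_, ?_, ?_, ?_, ?_⟩
    · rw [eq_bot_iff]
      rintro v ⟨hv, htv⟩
      have hvW : v ∈ W := hWeq.ge hv
      exact hzinj v (hWM1 hvW) (by rw [hzap, LinearMap.mem_ker.1 htv, hWs v hvW, map_zero, map_zero, add_zero])
    · rw [eq_bot_iff]
      rintro v ⟨hv, hsv⟩
      obtain ⟨m, rfl⟩ := hv
      obtain ⟨a, b, ha, hb, rfl⟩ := Submodule.codisjoint_iff_exists_add_eq.1 hcompl.codisjoint m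
      rw [map_add, ht0 a ha, zero_add] at hsv ⊢
      refine hzinj _ (htM1 b hb) ?_
      rw [hzap, htt, map_zero, zero_add, LinearMap.mem_ker.1 hsv, map_zero]
    · rw [hC]
      refine le_antisymm (fun m hm => hkers m hm) (sup_le (fun m hm => hs0 m hm) ?_)
      rintro _ ⟨m, rfl⟩; exact hss m
    · rw [hC]
      refine le_antisymm (fun m hm => hkert m hm) (sup_le (fun m hm => ht0 m hm) ?_)
      rintro _ ⟨m, rfl⟩; exact htt m
    · rw [hC]
      have hM1eq : LinearMap.range s ⊔ LinearMap.range t = M1 := by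
        refine le_antisymm (sup_le (hWeq.ge.trans hWM1) ?_) fun m hm => ?_
        · rintro _ ⟨m, rfl⟩
          obtain ⟨a, b, ha, hb, rfl⟩ := Submodule.codisjoint_iff_exists_add_eq.1 hcompl.codisjoint m
          rw [map_add, ht0 a ha, zero_add]; exact htM1 b hb
        · obtain ⟨w₁, w₂, rfl⟩ := hesurj m hm
          rw [he]; exact Submodule.add_mem_sup (hWV w₁.2) ⟨_, rfl⟩
      rw [hM1eq]; exact hcompl
  have hfix : ∀ g ∈ H, ∀ m ∈ M0, (g : EndM) m = m := by
    intro g hg m hm
    rw [hH] at hg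
    induction hg using Subgroup.closure_induction with
    | mem x hx =>
      rcases hx with ⟨c, rfl⟩ | ⟨c, rfl⟩
      · simp [el_val, hs0 m hm]
      · simp [el_val, ht0 m hm]
    | one => simp
    | mul x y _ _ hx hy => rw [Units.val_mul, Module.End.mul_apply, hy, hx]
    | inv x _ hx =>
      conv_lhs => rw [← hx]
      exact LinearMap.congr_fun x.inv_mul m
  have huniq : ∀ A B g, Rel t ν g (A : Matrix.SpecialLinearGroup (Fin 2) R) → Rel t ν g B → A = B := by
    intro A B g hA hB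
    have key : ∀ w₁ w₂ : W, _ = _ := fun w₁ w₂ =>
      heinj (p := (_, _)) (q := (_, _)) ((he _ _).trans (((hA w₁ w₂).symm.trans (hB w₁ w₂)).trans (he _ _).symm))
    apply ext_sl <;> refine Subtype.ext (LinearMap.ext fun w => ?_)
    · simpa using congrArg Prod.fst (key w 0)
    · simpa using congrArg Prod.fst (key 0 w)
    · simpa using congrArg Prod.snd (key w 0)
    · simpa using congrArg Prod.snd (key 0 w)
  have huniq' : ∀ g g' : GLM, g ∈ H → g' ∈ H → ∀ A : Matrix.SpecialLinearGroup (Fin 2) R,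
      Rel t ν g A → Rel t ν g' A → g = g' := by
    intro g g' hg hg' A h h'
    refine Units.ext (hext (fun m hm => by rw [hfix g hg m hm, hfix g' hg' m hm]) fun w₁ w₂ => ?_)
    rw [he, h, h']
  have hall : ∀ A : Matrix.SpecialLinearGroup (Fin 2) R, ∃ g ∈ H, Rel t ν g A := by
    intro A
    obtain ⟨p, hp, rfl⟩ := hP2.ge (by rw [hH1, hH1top]; exact Subgroup.mem_top A : A ∈ H1)
    exact ⟨p.1, hp.1, hp.2.2⟩
  choose f hfH hf using hall
  let Φ : Matrix.SpecialLinearGroup (Fin 2) R →* H :=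
    MonoidHom.mk' (fun A => ⟨f A, hfH A⟩) fun A B => Subtype.ext
      (huniq' _ _ (hfH _) (mul_mem (hfH A) (hfH B)) _ (hf _) (hrel_mul (hf A) (hf B)))
  have hΦ : Function.Bijective Φ := by
    refine ⟨fun A B h => huniq A B (f A) (hf A) (by
      rw [show f A = f B from congrArg Subtype.val h]; exact hf B), ?_⟩
    rintro ⟨g, hg⟩
    obtain ⟨p, hp, hpg⟩ := hP1.ge hg
    exact ⟨p.2, Subtype.ext (huniq' _ _ (hfH _) hg _ (hf _) ((show p.1 = g from hpg) ▸ hp.2.2))⟩
  have hσrel : Rel t ν σ (uR (1 : R)) := by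
    have := hrelσ 1
    rwa [map_one, el_one hσ] at this
  have main : ∃ (ν : Module.End k W) (Λ : Module.End k W) (H : Subgroup GLM),
      IsField (Algebra.adjoin k ({Λ} : Set (Module.End k W))) ∧
      H = Subgroup.closure (Cfsg.scalarFamily σ ∪ Cfsg.scalarFamily τ) ∧
      H ≤ G ∧ Function.Bijective ν ∧
      (∀ g ∈ H, ∀ m ∈ LinearMap.ker s ⊓ LinearMap.ker t, (g : EndM) m = m) ∧
      (∀ A : Matrix.SpecialLinearGroup (Fin 2) (Algebra.adjoin k ({Λ} : Set _)),
        ∃ g ∈ H, Rel t ν g A) ∧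
      Rel t ν σ (uR (1 : Algebra.adjoin k ({Λ} : Set _))) ∧
      (∀ (A B : Matrix.SpecialLinearGroup (Fin 2) (Algebra.adjoin k ({Λ} : Set _))) (g : GLM),
        Rel t ν g A → Rel t ν g B → A = B) ∧
      Nonempty (H ≃* Matrix.SpecialLinearGroup (Fin 2) (Algebra.adjoin k ({Λ} : Set _))) ∧
      ∃ φ : Matrix.SpecialLinearGroup (Fin 2) (Algebra.adjoin k ({Λ} : Set _)) →* GLM,
        (∀ A, φ A ∈ H ∧ Rel t ν (φ A) A) ∧
        φ (uR (1 : Algebra.adjoin k ({Λ} : Set _))) = σ ∧
        ∀ w : W, (Λ w : M) = s (t w) :=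
    ⟨ν, Λ, H, hfieldR, rfl, hHG,
      (LinearEquiv.ofBijective Λ hΛbij).symm.bijective, by rw [hC]; exact hfix,
      fun A => ⟨f A, hfH A, hf A⟩, hσrel, huniq, ⟨(MulEquiv.ofBijective Φ hΦ).symm⟩,
      H.subtype.comp Φ, fun A => ⟨hfH A, hf A⟩,
      huniq' _ _ (hfH _) (Subgroup.subset_closure (Or.inl ⟨1, by rw [one_smul]; exact coe_dev σ⟩)) _
        (hf _) hσrel, hΛ⟩
  refine ⟨hsplit, ?_⟩
  rw [← hV] at *
  revert main
  rw [hWeq]
  exact fun main => main

omit hk2 hk3

end Struct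

end Cfsg.Agent.QuadPair
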