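import Cfsg.Agent.Lib.QuadPair.Commutator

/-!
The commutator subgroup of two root subgroups generating a unipotent group.
-/

set_option autoImplicit false

namespace Cfsg.Agent.QuadPair

open UniFamily

universe v

variable {k : Type v} [Field k] {M : Type v} [AddCommGroup M] [Module k M] [FiniteDimensional k M]

local notation "GLM" => LinearMap.GeneralLinearGroup k M

variable {G : Subgroup (LinearMap.GeneralLinearGroup k M)}
variable {σ τ : LinearMap.GeneralLinearGroup k M}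

theorem commute_of_zc {a b : GLM} (h : zc (dev a) (dev b) = 0) : a * b = b * a :=
  Units.ext (by
    have h' : dev a * dev b = dev b * dev a := sub_eq_zero.1 h
    rw [Units.val_mul, Units.val_mul, coe_dev a, coe_dev b, add_mul, mul_add, mul_add, add_mul,
      mul_add, mul_add, h']
    simp only [one_mul, mul_one]
    abel)

theorem zc_of_commute {a b : GLM} (h : a * b = b * a) : zc (dev a) (dev b) = 0 := by
  have h' : dev a * dev b + dev a + dev b = dev b * dev a + dev b + dev a := by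
    rw [← dev_mul, ← dev_mul, h]
  rw [zc, ← sub_eq_zero.2 h']
  abel

/-- A commuting pair is degenerate. -/
theorem nilpotent_of_commute (hσ : σ ∈ Cfsg.minimalQuadraticElements G) {b : GLM}
    (h : zc (dev σ) (dev b) = 0) : IsNilpotent (zz (dev σ) (dev b)) := by
  have hs := sq_zero hσ
  have e : dev σ * dev b = dev b * dev σ := sub_eq_zero.1 h
  refine ⟨2, ?_⟩
  rw [pow_two, zz, ← e, add_mul, mul_add]
  rw [show dev σ * dev b * (dev σ * dev b) = dev σ * (dev b * dev σ) * dev b by simp only [mul_assoc],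
    ← e, ← mul_assoc, hs, zero_mul, zero_mul, add_zero, add_zero]

/-- The group generated by two root subgroups whose cross commutators are central is of class two. -/
theorem commutator_le_of_central {H : Type*} [Group H] {A B L : Subgroup H}
    (hA : IsMulCommutative A) (hB : IsMulCommutative B)
    (hcA : A ≤ Subgroup.centralizer (L : Set H)) (hcB : B ≤ Subgroup.centralizer (L : Set H))
    (hAB : ∀ a ∈ A, ∀ b ∈ B, a * b * a⁻¹ * b⁻¹ ∈ L) : ⁅A ⊔ B, A ⊔ B⁆ ≤ L := by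
  let K : H → Subgroup H := fun y =>
    { carrier := {x | x ∈ Subgroup.centralizer (L : Set H) ∧ x * y * x⁻¹ * y⁻¹ ∈ L}
      one_mem' := ⟨one_mem _, by simp⟩
      mul_mem' := fun {x x'} hx hx' => by
        refine ⟨mul_mem hx.1 hx'.1, ?_⟩
        have hc := Subgroup.mem_centralizer_iff.1 hx.1 _ hx'.2
        have e : x * x' * y * (x * x')⁻¹ * y⁻¹ =
            (x' * y * x'⁻¹ * y⁻¹) * (x * y * x⁻¹ * y⁻¹) := by
          rw [show x * x' * y * (x * x')⁻¹ * y⁻¹ =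
            (x * (x' * y * x'⁻¹ * y⁻¹)) * (y * x⁻¹ * y⁻¹) by group, ← hc]
          group
        rw [e]
        exact mul_mem hx'.2 hx.2
      inv_mem' := fun {x} hx => by
        refine ⟨inv_mem hx.1, ?_⟩
        have hc := Subgroup.mem_centralizer_iff.1 (inv_mem hx.1) _ hx.2
        have e : x⁻¹ * y * x⁻¹⁻¹ * y⁻¹ = (x * y * x⁻¹ * y⁻¹)⁻¹ := by
          calc x⁻¹ * y * x⁻¹⁻¹ * y⁻¹ = x⁻¹ * (x * y * x⁻¹ * y⁻¹)⁻¹ * x := by group
            _ = (x * y * x⁻¹ * y⁻¹)⁻¹ * x⁻¹ * x := by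
              rw [Subgroup.mem_centralizer_iff.1 (inv_mem hx.1) _ (inv_mem hx.2)]
            _ = (x * y * x⁻¹ * y⁻¹)⁻¹ := by group
        rw [e]
        exact inv_mem hx.2 }
  have hswap : ∀ {x y : H}, x * y * x⁻¹ * y⁻¹ ∈ L → y * x * y⁻¹ * x⁻¹ ∈ L := fun {x y} h => by
    have := L.inv_mem h
    rwa [show (x * y * x⁻¹ * y⁻¹)⁻¹ = y * x * y⁻¹ * x⁻¹ by group] at this
  have hcomm : ∀ {C : Subgroup H}, IsMulCommutative C → ∀ x ∈ C, ∀ y ∈ C, x * y * x⁻¹ * y⁻¹ ∈ L :=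
    fun {C} hC x hx y hy => by
      have h : x * y = y * x := congrArg Subtype.val (hC.is_comm.comm ⟨x, hx⟩ ⟨y, hy⟩)
      rw [h]; simp
  have h1 : ∀ y ∈ A, A ⊔ B ≤ K y := fun y hy => sup_le
    (fun x hx => ⟨hcA hx, hcomm hA x hx y hy⟩) (fun x hx => ⟨hcB hx, hswap (hAB y hy x hx)⟩)
  have h2 : ∀ y ∈ B, A ⊔ B ≤ K y := fun y hy => sup_le
    (fun x hx => ⟨hcA hx, hAB x hx y hy⟩) (fun x hx => ⟨hcB hx, hcomm hB x hx y hy⟩)
  refine Subgroup.commutator_le.2 fun x hx y hy => ?_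
  have h3 : A ⊔ B ≤ K x := sup_le
    (fun z hz => ⟨hcA hz, hswap (h1 z hz hx).2⟩) (fun z hz => ⟨hcB hz, hswap (h2 z hz hx).2⟩)
  rw [commutatorElement_def]
  exact hswap (h3 hy).2

theorem comm_bot_of_forall {H : Type*} [Group H] {A B : Subgroup H}
    (h : ∀ a ∈ A, ∀ b ∈ B, a * b = b * a) : ⁅A, B⁆ = ⊥ := by
  rw [Subgroup.commutator_eq_bot_iff_le_centralizer]
  exact fun a ha => Subgroup.mem_centralizer_iff.2 fun b hb => (h a ha b hb).symm

theorem forall_of_comm_bot {H : Type*} [Group H] {A B : Subgroup H}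
    (h : ⁅A, B⁆ = ⊥) : ∀ a ∈ A, ∀ b ∈ B, a * b = b * a := by
  rw [Subgroup.commutator_eq_bot_iff_le_centralizer] at h
  exact fun a ha b hb => (Subgroup.mem_centralizer_iff.1 (h ha) b hb).symm

variable (hk2 : (2 : k) ≠ 0) (hk3 : Nat.card k ≠ 3)
  (hcl : ∀ ρ ∈ Cfsg.minimalQuadraticElements G, IsRootClass G ρ)
include hk2 hk3 hcl

/-- One commuting pair of non-identity elements makes the root subgroups commute. -/
theorem comm_bot_of_commute (hσ : σ ∈ Cfsg.minimalQuadraticElements G)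
    (hτ : τ ∈ Cfsg.minimalQuadraticElements G) {a b : GLM} (ha : a ∈ Cfsg.sameActionClass G σ)
    (hb : b ∈ Cfsg.sameActionClass G τ) (h : zc (dev a) (dev b) = 0) :
    ⁅Cfsg.sameActionSubgroup G σ, Cfsg.sameActionSubgroup G τ⁆ = ⊥ := by
  have hD : Deg G σ τ := by
    refine deg_of_unipotent ?_
    by_contra hu
    obtain ⟨-, hall⟩ := split_of_not_unipotent hk2 hk3 (hcl σ hσ) (hcl τ hτ) hu
    exact (hall a ha b hb).1 (nilpotent_of_commute ha.1 h)
  refine comm_bot_of_forall fun x hx y hy => ?_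
  rcases eq_or_ne x 1 with rfl | hx1
  · simp
  rcases eq_or_ne y 1 with rfl | hy1
  · simp
  refine commute_of_zc ?_
  by_contra h0
  exact zc_ne_zero_all hk2 hD (mem_class_of_mem (hcl σ hσ).2 hx hx1) ha
    (mem_class_of_mem (hcl τ hτ).2 hy hy1) hb h0 h

/-- The normalizer case. -/
theorem comm_bot_of_normalizes (hσ : σ ∈ Cfsg.minimalQuadraticElements G)
    (hτ : τ ∈ Cfsg.minimalQuadraticElements G) {a : GLM} (ha : a ∈ Cfsg.sameActionClass G σ)
    (hn : a ∈ Subgroup.normalizer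
      (Cfsg.sameActionSubgroup G τ : Set (LinearMap.GeneralLinearGroup k M))) :
    ⁅Cfsg.sameActionSubgroup G σ, Cfsg.sameActionSubgroup G τ⁆ = ⊥ := by
  have hmem : a * τ * a⁻¹ ∈ Cfsg.sameActionSubgroup G τ :=
    (Subgroup.mem_normalizer_iff.1 hn τ).1 (Subgroup.subset_closure (class_self hτ))
  have hc := mem_class_of_mem (hcl τ hτ).2 hmem (mem_ne_one (conj_minimal ha.1.1.1 hτ))
  by_cases hu : Cfsg.IsUnipotentOn (Cfsg.sameActionSubgroup G σ ⊔ Cfsg.sameActionSubgroup G τ)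
  · refine comm_bot_of_commute hk2 hk3 hcl hσ hτ ha (class_self hτ) ?_
    exact zc_zero_of_normalizes hk2 ha.1 hτ (deg_of_unipotent hu a ha τ (class_self hτ)) hc
  · exfalso
    obtain ⟨hS, -⟩ := split_of_not_unipotent hk2 hk3 (hcl σ hσ) (hcl τ hτ) hu
    exact mem_ne_one ha.1
      (eq_one_of_normalizes hτ hσ (hcl σ hσ).2 hS.right (Subgroup.subset_closure ha) hc)

/-- The unipotent case. -/
theorem commutator_case (hG : Cfsg.IsQuadraticPair G)
    (hab : ∀ ρ ∈ Cfsg.minimalQuadraticElements G, IsMulCommutative (Cfsg.sameActionSubgroup G ρ))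
    (hσ : σ ∈ Cfsg.minimalQuadraticElements G) (hτ : τ ∈ Cfsg.minimalQuadraticElements G)
    {E F : Subgroup GLM} (hE : E = Cfsg.sameActionSubgroup G σ)
    (hF : F = Cfsg.sameActionSubgroup G τ) (hu : Cfsg.IsUnipotentOn (E ⊔ F)) :
    ⁅E, F⁆ = ⊥ ∨
    (⁅E, F⁆ ∈ Cfsg.quadraticRootSubgroups G ∧
      (∀ e ∈ E, e ≠ 1 → Subgroup.closure ((fun f : GLM => e * f * e⁻¹ * f⁻¹) '' (F : Set GLM)) = ⁅E, F⁆) ∧
      (∀ f ∈ F, f ≠ 1 → Subgroup.closure ((fun e : GLM => e * f * e⁻¹ * f⁻¹) '' (E : Set GLM)) = ⁅E, F⁆) ∧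
      ⁅E ⊔ F, E ⊔ F⁆ ≠ ⊥ ∧ ⁅⁅E ⊔ F, E ⊔ F⁆, E ⊔ F⁆ = ⊥ ∧
      ((E ⊔ F : Subgroup GLM) : Set GLM) ⊆ Cfsg.quadraticUnipotentCore G ⁅E, F⁆) := by
  subst hE hF
  have hD := deg_of_unipotent hu
  by_cases h0 : zc (dev σ) (dev τ) = 0
  · exact Or.inl (comm_bot_of_commute hk2 hk3 hcl hσ hτ (class_self hσ) (class_self hτ) h0)
  refine Or.inr ?_
  obtain ⟨hδ, -, hV, hR, hK⟩ :=
    commutator_minimal hk2 hσ hτ (hD σ (class_self hσ) τ (class_self hτ)) h0
  obtain ⟨-, -, hT, -, -⟩ :=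
    commutator_minimal hk2 hτ hσ (hD.symm τ (class_self hτ) σ (class_self hσ))
      (by rw [zc_swap]; exact neg_ne_zero.2 h0)
  set δ := σ * τ * σ⁻¹ * τ⁻¹ with hδd
  set E := Cfsg.sameActionSubgroup G σ with hEd
  set F := Cfsg.sameActionSubgroup G τ with hFd
  set D := Cfsg.sameActionSubgroup G δ with hDd
  have hdδ : dev δ = zc (dev σ) (dev τ) :=
    dev_comm_pair hk2 hσ hτ (hD σ (class_self hσ) τ (class_self hτ))
  have hmem : ∀ a ∈ E, ∀ b ∈ F, a * b * a⁻¹ * b⁻¹ ∈ D := by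
    intro a ha b hb
    rcases eq_or_ne a 1 with rfl | ha1
    · simp
    rcases eq_or_ne b 1 with rfl | hb1
    · simp
    exact Subgroup.subset_closure (commutator_class hk2 hD (class_self hσ)
      (mem_class_of_mem (hcl σ hσ).2 ha ha1) (class_self hτ)
      (mem_class_of_mem (hcl τ hτ).2 hb hb1) h0)
  -- the right factor
  have hright : ∀ e ∈ E, e ≠ 1 → ∀ x ∈ D, ∃ f ∈ F, e * f * e⁻¹ * f⁻¹ = x := fun e he he1 x hx =>
    surj_right hk2 hk3 hcl hG hσ hτ hD h0 (mem_class_of_mem (hcl σ hσ).2 he he1) hx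
  have hleft : ∀ f ∈ F, f ≠ 1 → ∀ x ∈ D, ∃ e ∈ E, e * f * e⁻¹ * f⁻¹ = x := by
    intro f hf hf1 x hx
    have hsub : Cfsg.sameActionSubgroup G (τ * σ * τ⁻¹ * σ⁻¹) = D := by
      rw [show τ * σ * τ⁻¹ * σ⁻¹ = δ⁻¹ by rw [hδd]; group]
      exact sameAction_eq (mem_class_of_mem (hcl δ hδ).2
        (inv_mem (Subgroup.subset_closure (class_self hδ))) (inv_ne_one.2 (mem_ne_one hδ)))
    obtain ⟨e, he, hex⟩ := surj_right hk2 hk3 hcl hG hτ hσ hD.symm
      (by rw [zc_swap]; exact neg_ne_zero.2 h0) (mem_class_of_mem (hcl τ hτ).2 hf hf1)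
      (x := x⁻¹) (hsub ▸ inv_mem hx)
    refine ⟨e, he, ?_⟩
    rw [← inv_inv x, ← hex]; group
  have hEF : ⁅E, F⁆ = D := by
    refine le_antisymm (Subgroup.commutator_le.2 fun a ha b hb => ?_) fun x hx => ?_
    · rw [commutatorElement_def]; exact hmem a ha b hb
    · obtain ⟨f, hf, rfl⟩ := hright σ (Subgroup.subset_closure (class_self hσ)) (mem_ne_one hσ) x hx
      rw [← commutatorElement_def]
      exact Subgroup.commutator_mem_commutator (Subgroup.subset_closure (class_self hσ)) hf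
  -- subspaces of `δ`
  set Rz := zRange (dev σ) (dev τ) with hRz
  set Kz := zKer (dev σ) (dev τ) with hKz
  have hVK : LinearMap.range (dev σ) ≤ Kz := le_inf
    (le_sup_of_le_right fun x ⟨m, hm⟩ => by
      rw [LinearMap.mem_ker, ← hm]; exact LinearMap.congr_fun (sq_zero hσ) m) le_sup_left
  have hTK : LinearMap.range (dev τ) ≤ Kz := le_inf le_sup_left
    (le_sup_of_le_right fun x ⟨m, hm⟩ => by
      rw [LinearMap.mem_ker, ← hm]; exact LinearMap.congr_fun (sq_zero hτ) m)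
  have hRs : Rz ≤ LinearMap.ker (dev σ) := sup_le (fun x hx => by
      obtain ⟨m, hm⟩ := hx.2
      rw [LinearMap.mem_ker, ← hm]; exact LinearMap.congr_fun (sq_zero hσ) m) inf_le_left
  have hRt : Rz ≤ LinearMap.ker (dev τ) := sup_le inf_le_left (fun x hx => by
      obtain ⟨m, hm⟩ := hx.2
      rw [LinearMap.mem_ker, ← hm]; exact LinearMap.congr_fun (sq_zero hτ) m)
  have hRK : Rz ≤ Kz := sup_le (inf_le_right.trans hVK) (inf_le_right.trans hTK)
  -- the action of `E` and `F`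
  have hact : ∀ a ∈ E ⊔ F, (∀ m, dev a m ∈ Kz) ∧ (∀ m ∈ Kz, dev a m ∈ Rz) ∧
      (∀ m ∈ Rz, dev a m = 0) := by
    have hgen : ∀ a ∈ Cfsg.sameActionClass G σ,
        (∀ m, dev a m ∈ Kz) ∧ (∀ m ∈ Kz, dev a m ∈ Rz) ∧ (∀ m ∈ Rz, dev a m = 0) := by
      intro a ha
      have hak : LinearMap.ker (dev a) = LinearMap.ker (dev σ) := ha.2.1
      have har : LinearMap.range (dev a) = LinearMap.range (dev σ) := ha.2.2
      refine ⟨fun m => hVK (har.le ⟨m, rfl⟩), fun m hm => ?_, fun m hm => hak.ge (hRs hm)⟩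
      obtain ⟨_, ⟨x, rfl⟩, c, hc, rfl⟩ := Submodule.mem_sup.1 hm.1
      refine Submodule.mem_sup_left ⟨?_, har.le ⟨_, rfl⟩⟩
      rw [map_add, LinearMap.mem_ker.1 (hak.ge hc), add_zero]
      have := (sts_of_nilpotent hk2 ha.1 hτ (hD a ha τ (class_self hτ))).2
      exact LinearMap.congr_fun this x
    have hgen' : ∀ b ∈ Cfsg.sameActionClass G τ,
        (∀ m, dev b m ∈ Kz) ∧ (∀ m ∈ Kz, dev b m ∈ Rz) ∧ (∀ m ∈ Rz, dev b m = 0) := by
      intro b hb
      have hbk : LinearMap.ker (dev b) = LinearMap.ker (dev τ) := hb.2.1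
      have hbr : LinearMap.range (dev b) = LinearMap.range (dev τ) := hb.2.2
      refine ⟨fun m => hTK (hbr.le ⟨m, rfl⟩), fun m hm => ?_, fun m hm => hbk.ge (hRt hm)⟩
      obtain ⟨_, ⟨x, rfl⟩, c, hc, rfl⟩ := Submodule.mem_sup.1 hm.2
      refine Submodule.mem_sup_right ⟨?_, hbr.le ⟨_, rfl⟩⟩
      rw [map_add, LinearMap.mem_ker.1 (hbk.ge hc), add_zero]
      have := (sts_of_nilpotent hk2 hσ hb.1 (hD σ (class_self hσ) b hb)).1
      exact LinearMap.congr_fun this x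
    intro a ha
    refine Subgroup.closure_induction (k := Cfsg.sameActionClass G σ ∪ Cfsg.sameActionClass G τ)
      (p := fun a _ => (∀ m, dev a m ∈ Kz) ∧ (∀ m ∈ Kz, dev a m ∈ Rz) ∧ (∀ m ∈ Rz, dev a m = 0))
      ?_ ?_ ?_ ?_ (x := a) (by rw [Subgroup.closure_union]; exact ha)
    · exact fun x hx => hx.elim (hgen x) (hgen' x)
    · simp [dev_one]
    · intro x y _ _ hx hy
      refine ⟨fun m => ?_, fun m hm => ?_, fun m hm => ?_⟩ <;>
        rw [dev_mul, LinearMap.add_apply, LinearMap.add_apply, Module.End.mul_apply]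
      · exact add_mem (add_mem (hx.1 _) (hx.1 _)) (hy.1 _)
      · exact add_mem (add_mem (hx.2.1 _ (hy.1 m)) (hx.2.1 _ hm)) (hy.2.1 _ hm)
      · rw [hy.2.2 m hm, hx.2.2 m hm, map_zero, add_zero, add_zero]
    · intro x _ hx
      have e : ∀ m, dev x⁻¹ m = -dev x ((x⁻¹ : GLM).val m) := fun m => by
        have h : (x : M →ₗ[k] M) ((x⁻¹ : GLM).val m) = m := LinearMap.congr_fun x.mul_inv m
        rw [dev_apply, dev_apply, h, neg_sub]
      have hinv : ∀ m, (x⁻¹ : GLM).val m = m - dev x ((x⁻¹ : GLM).val m) := fun m => by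
        have h : (x : M →ₗ[k] M) ((x⁻¹ : GLM).val m) = m := LinearMap.congr_fun x.mul_inv m
        rw [dev_apply, h, sub_sub_cancel]
      refine ⟨fun m => by rw [e]; exact neg_mem (hx.1 _), fun m hm => ?_, fun m hm => ?_⟩
      · rw [e]; refine neg_mem (hx.2.1 _ ?_)
        rw [hinv]; exact sub_mem hm (hx.1 _)
      · have hfix : (x⁻¹ : GLM).val m = m := by
          have h : (x : M →ₗ[k] M) m = m := sub_eq_zero.1 (hx.2.2 m hm)
          conv_lhs => rw [← h]
          exact LinearMap.congr_fun x.inv_mul m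
        rw [dev_apply, hfix, sub_self]
  -- `D` is centralised
  have hcent : E ⊔ F ≤ Subgroup.centralizer (D : Set GLM) := by
    intro a ha
    refine Subgroup.mem_centralizer_iff.2 fun x hx => ?_
    rcases eq_or_ne x 1 with rfl | hx1
    · simp
    obtain ⟨-, hxk, hxr⟩ := mem_class_of_mem (hcl δ hδ).2 hx hx1
    change LinearMap.ker (dev x) = LinearMap.ker (dev δ) at hxk
    change LinearMap.range (dev x) = LinearMap.range (dev δ) at hxr
    rw [hdδ, hK] at hxk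
    rw [hdδ, hR] at hxr
    obtain ⟨hK1, -, hR0⟩ := hact a ha
    refine (commute_of_zc (a := a) (b := x) (LinearMap.ext fun m => ?_)).symm
    rw [zc_apply, hR0 _ (hxr.le ⟨m, rfl⟩), LinearMap.mem_ker.1 (hxk.ge (hK1 m)), sub_zero,
      LinearMap.zero_apply]
  have hfixD : Cfsg.fixedSubmodule D = Kz := by
    refine le_antisymm ?_ (le_iInf₂ fun x hx => ?_)
    · rw [← hK, ← hdδ]; exact iInf₂_le δ (Subgroup.subset_closure (class_self hδ))
    · rcases eq_or_ne x 1 with rfl | hx1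
      · simp
      · rw [← hK, ← hdδ]; exact (mem_class_of_mem (hcl δ hδ).2 hx hx1).2.1.ge
  have hcomD : Cfsg.commutatorSubmodule D = Rz := by
    refine le_antisymm (iSup₂_le fun x hx => ?_) ?_
    · rcases eq_or_ne x 1 with rfl | hx1
      · simp
      · rw [← hR, ← hdδ]; exact (mem_class_of_mem (hcl δ hδ).2 hx hx1).2.2.le
    · rw [← hR, ← hdδ]
      exact le_iSup₂_of_le δ (Subgroup.subset_closure (class_self hδ)) le_rfl
  have hXX : ⁅E ⊔ F, E ⊔ F⁆ ≤ D := commutator_le_of_central (hab σ hσ) (hab τ hτ)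
    (le_sup_left.trans hcent) (le_sup_right.trans hcent) hmem
  have hδXX : δ ∈ ⁅E ⊔ F, E ⊔ F⁆ := by
    rw [hδd, ← commutatorElement_def]
    exact Subgroup.commutator_mem_commutator ((le_sup_left : E ≤ E ⊔ F) (Subgroup.subset_closure (class_self hσ)))
      ((le_sup_right : F ≤ E ⊔ F) (Subgroup.subset_closure (class_self hτ)))
  rw [hEF]
  refine ⟨⟨δ, hδ, rfl⟩, fun e he he1 => ?_, fun f hf hf1 => ?_, ?_, ?_, ?_⟩
  · refine le_antisymm ((Subgroup.closure_le D).2 ?_) fun x hx => ?_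
    · rintro _ ⟨f, hf, rfl⟩; exact hmem e he f hf
    · obtain ⟨f, hf, rfl⟩ := hright e he he1 x hx
      exact Subgroup.subset_closure ⟨f, hf, rfl⟩
  · refine le_antisymm ((Subgroup.closure_le D).2 ?_) fun x hx => ?_
    · rintro _ ⟨e, he, rfl⟩; exact hmem e he f hf
    · obtain ⟨e, he, rfl⟩ := hleft f hf hf1 x hx
      exact Subgroup.subset_closure ⟨e, he, rfl⟩
  · intro h
    exact mem_ne_one hδ ((Subgroup.mem_bot).1 (h ▸ hδXX))
  · rw [Subgroup.commutator_eq_bot_iff_le_centralizer]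
    intro x hx
    refine Subgroup.mem_centralizer_iff.2 fun a ha => ?_
    exact (Subgroup.mem_centralizer_iff.1 (hcent ha) x (hXX hx)).symm
  · intro a ha
    refine ⟨(sup_le (sameAction_le_G G σ) (sameAction_le_G G τ) : E ⊔ F ≤ G) ha,
      Subgroup.mem_normalizer_iff.2 fun x => ?_, fun m => ?_, fun m hm => ?_, fun m hm => ?_⟩
    · constructor
      · intro hx
        have hc := Subgroup.mem_centralizer_iff.1 (hcent ha) x hx
        rwa [← hc, mul_inv_cancel_right]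
      · intro hx
        have hc := Subgroup.mem_centralizer_iff.1 (hcent (inv_mem ha)) _ hx
        have e : a * x * a⁻¹ = x := by
          calc a * x * a⁻¹ = a * x * a⁻¹ * a⁻¹ * a := by group
            _ = a⁻¹ * (a * x * a⁻¹) * a := by rw [hc]
            _ = x := by group
        rwa [e] at hx
    · rw [hfixD, ← dev_apply]; exact (hact a ha).1 m
    · rw [hcomD, ← dev_apply]; exact (hact a ha).2.1 m (hfixD ▸ hm)
    · exact sub_eq_zero.1 ((hact a ha).2.2 m (hcomD ▸ hm))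

/-- A pair of class two is degenerate. -/
theorem unipotent_of_class_two (hσ : σ ∈ Cfsg.minimalQuadraticElements G)
    (hτ : τ ∈ Cfsg.minimalQuadraticElements G)
    {E F : Subgroup GLM} (hE : E = Cfsg.sameActionSubgroup G σ)
    (hF : F = Cfsg.sameActionSubgroup G τ) (h2 : ⁅⁅E ⊔ F, E ⊔ F⁆, E ⊔ F⁆ = ⊥) :
    Cfsg.IsUnipotentOn (E ⊔ F) := by
  subst hE hF
  by_contra hu
  obtain ⟨hS, hall⟩ := split_of_not_unipotent hk2 hk3 (hcl σ hσ) (hcl τ hτ) hu
  set X := Cfsg.sameActionSubgroup G σ ⊔ Cfsg.sameActionSubgroup G τ with hX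
  obtain ⟨g, hg, hg1, hgeq, -⟩ := partner_conj hk2 hk3 (hcl σ hσ) (hcl τ hτ) (class_self hσ)
    (hall σ (class_self hσ) τ (class_self hτ)).1
  have hσX : σ ∈ X := (le_sup_left : _ ≤ X) (Subgroup.subset_closure (class_self hσ))
  have hgX : g ∈ X := (le_sup_right : _ ≤ X) hg
  set c := g⁻¹ * σ * g * σ⁻¹ with hc
  have hcm : c ∈ ⁅X, X⁆ := by
    have h := Subgroup.commutator_mem_commutator (inv_mem hgX) hσX
    rwa [commutatorElement_def, inv_inv] at h
  have hcc : c * σ = σ * c := forall_of_comm_bot h2 c hcm σ hσX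
  have e1 : g⁻¹ * σ * g = c * σ := by rw [hc]; group
  have e2 : σ⁻¹ * g⁻¹ * σ = c * σ := hgeq ▸ e1
  have e3 : g⁻¹ = σ * c := by
    calc g⁻¹ = σ * (σ⁻¹ * g⁻¹ * σ) * σ⁻¹ := by group
      _ = σ * c := by rw [e2]; group
  have hc1 : c = 1 := by
    rw [hc, e3]
    calc σ * c * σ * g * σ⁻¹ = σ * (c * σ) * g * σ⁻¹ := by group
      _ = σ * (σ * c) * g * σ⁻¹ := by rw [hcc]
      _ = 1 := by rw [← e3]; group
  rw [hc1, mul_one] at e3
  have hgc := mem_class_of_mem (hcl τ hτ).2 (inv_mem hg) (inv_ne_one.2 hg1)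
  rw [e3] at hgc
  refine dev_ne_zero hσ (LinearMap.range_eq_bot.1 (eq_bot_iff.2 fun v hv => ?_))
  rw [← hS.left]
  refine ⟨hv, ?_⟩
  obtain ⟨u, rfl⟩ := hgc.2.2.le hv
  exact LinearMap.congr_fun (sq_zero hτ) u

end Cfsg.Agent.QuadPair
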