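import Cfsg.Agent.Lib.QuadPair.Special

/-!
Two root subgroups generating a unipotent group: either they commute or their commutator subgroup
is again a root subgroup. The rank of `st - ts` is at most `d`, which forces its image and kernel;
equality of the dimensions of the three root subgroups comes from a common non-degenerate partner.
-/

set_option autoImplicit false

namespace Cfsg.Agent.QuadPair

open UniFamily

section Rank

variable {k : Type*} [Field k] {M : Type*} [AddCommGroup M] [Module k M]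

/-- The Lie bracket `st - ts`. -/
def zc (s t : M →ₗ[k] M) : M →ₗ[k] M := s * t - t * s

theorem zc_swap (s t : M →ₗ[k] M) : zc t s = -zc s t := (neg_sub _ _).symm

/-- The image of `st - ts` for a degenerate pair. -/
def zRange (s t : M →ₗ[k] M) : Submodule k M :=
  (LinearMap.ker t ⊓ LinearMap.range s) ⊔ (LinearMap.ker s ⊓ LinearMap.range t)

/-- The kernel of `st - ts` for a degenerate pair. -/
def zKer (s t : M →ₗ[k] M) : Submodule k M :=
  (LinearMap.range t ⊔ LinearMap.ker s) ⊓ (LinearMap.range s ⊔ LinearMap.ker t)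

theorem zRange_swap (s t : M →ₗ[k] M) : zRange t s = zRange s t := sup_comm _ _

theorem zKer_swap (s t : M →ₗ[k] M) : zKer t s = zKer s t := inf_comm _ _

variable {s t : M →ₗ[k] M}

theorem zc_apply (m : M) : zc s t m = s (t m) - t (s m) := rfl

theorem range_zc_le : LinearMap.range (zc s t) ≤
    (LinearMap.range t).map s ⊔ (LinearMap.range s).map t := by
  rintro _ ⟨m, rfl⟩
  exact Submodule.sub_mem _ (Submodule.mem_sup_left ⟨_, ⟨m, rfl⟩, rfl⟩)
    (Submodule.mem_sup_right ⟨_, ⟨m, rfl⟩, rfl⟩)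

variable [FiniteDimensional k M]

theorem rank_zc_aux (h : t * s * t = 0) (ht : t * t = 0) :
    Module.finrank k (LinearMap.range (zc s t)) ≤ Module.finrank k (LinearMap.range s) ∧
    (Module.finrank k (LinearMap.range s) ≤ Module.finrank k (LinearMap.range (zc s t)) →
      (LinearMap.range s).map t ⊓ LinearMap.range s = ⊥ ∧
      LinearMap.ker t ⊓ LinearMap.range s ≤ LinearMap.range (zc s t)) := by
  set V := LinearMap.range s with hV
  set R := LinearMap.range (zc s t) with hR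
  have hz : t * zc s t = 0 := by
    rw [zc, mul_sub, ← mul_assoc, ← mul_assoc, h, ht, zero_mul, sub_zero]
  have hsup : R ⊔ V ≤ V.map t ⊔ V := by
    refine sup_le (range_zc_le.trans (sup_le ?_ le_sup_left)) le_sup_right
    exact LinearMap.map_le_range.trans le_sup_right
  have hinf : R ⊓ V ≤ LinearMap.ker t ⊓ V := by
    rintro x ⟨⟨m, rfl⟩, hx⟩
    exact ⟨LinearMap.congr_fun hz m, hx⟩
  have e1 := Submodule.finrank_sup_add_finrank_inf_eq R V
  have e2 := Submodule.finrank_sup_add_finrank_inf_eq (V.map t) V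
  have e3 := finrank_map_add V t
  have i1 := Submodule.finrank_mono hsup
  have i2 := Submodule.finrank_mono hinf
  refine ⟨by omega, fun hle => ⟨Submodule.finrank_eq_zero.1 (by omega), ?_⟩⟩
  rw [← Submodule.eq_of_le_of_finrank_le hinf (by omega)]
  exact inf_le_left

theorem zc_data (hs : s * s = 0) (ht : t * t = 0) (h1 : s * t * s = 0) (h2 : t * s * t = 0)
    (hd1 : Module.finrank k (LinearMap.range s) ≤ Module.finrank k (LinearMap.range (zc s t)))
    (hd2 : Module.finrank k (LinearMap.range t) ≤ Module.finrank k (LinearMap.range (zc s t))) :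
    (LinearMap.range s).map t ⊓ LinearMap.range s = ⊥ ∧
    LinearMap.ker t ⊓ LinearMap.range s = (LinearMap.range t).map s ∧
    LinearMap.range (zc s t) = zRange s t ∧ LinearMap.ker (zc s t) = zKer s t := by
  have hneg : LinearMap.range (zc t s) = LinearMap.range (zc s t) := by
    rw [zc_swap, LinearMap.range_neg]
  obtain ⟨a1, a2⟩ := (rank_zc_aux h2 ht).2 hd1
  obtain ⟨b1, b2⟩ := (rank_zc_aux (s := t) (t := s) h1 hs).2 (by rw [hneg]; exact hd2)
  rw [hneg] at b2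
  have hts : (LinearMap.range t).map s ≤ LinearMap.ker t ⊓ LinearMap.range s := by
    rintro _ ⟨_, ⟨m, rfl⟩, rfl⟩
    exact ⟨LinearMap.congr_fun h2 m, _, rfl⟩
  have hst : (LinearMap.range s).map t ≤ LinearMap.ker s ⊓ LinearMap.range t := by
    rintro _ ⟨_, ⟨m, rfl⟩, rfl⟩
    exact ⟨LinearMap.congr_fun h1 m, _, rfl⟩
  have eV : LinearMap.ker t ⊓ LinearMap.range s = (LinearMap.range t).map s := by
    refine le_antisymm (fun x hx => ?_) hts
    obtain ⟨a, ha, b, hb, hab⟩ := Submodule.mem_sup.1 (range_zc_le (a2 hx))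
    have hbV : b ∈ LinearMap.range s := by
      rw [show b = x - a from eq_sub_of_add_eq' hab]
      exact Submodule.sub_mem _ hx.2 (LinearMap.map_le_range ha)
    have hb0 : b = 0 := by rw [← Submodule.mem_bot k, ← a1]; exact ⟨hb, hbV⟩
    rwa [← hab, hb0, add_zero]
  have eT : LinearMap.ker s ⊓ LinearMap.range t = (LinearMap.range s).map t := by
    refine le_antisymm (fun x hx => ?_) hst
    obtain ⟨a, ha, b, hb, hab⟩ := Submodule.mem_sup.1 (range_zc_le (b2 hx))
    have haT : a ∈ LinearMap.range t := by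
      rw [show a = x - b from eq_sub_of_add_eq hab]
      exact Submodule.sub_mem _ hx.2 (LinearMap.map_le_range hb)
    have ha0 : a = 0 := by rw [← Submodule.mem_bot k, ← b1]; exact ⟨ha, haT⟩
    rwa [← hab, ha0, zero_add]
  refine ⟨a1, eV, le_antisymm ?_ (sup_le a2 b2), le_antisymm (fun m hm => ?_) ?_⟩
  · rw [zRange, eV, eT]; exact range_zc_le
  · rw [LinearMap.mem_ker, zc_apply, sub_eq_zero] at hm
    have h0 : t (s m) = 0 := by
      rw [← Submodule.mem_bot k, ← a1]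
      exact ⟨⟨_, ⟨m, rfl⟩, rfl⟩, by rw [← hm]; exact ⟨_, rfl⟩⟩
    have h0' : s (t m) = 0 := hm.trans h0
    constructor
    · obtain ⟨_, ⟨x, rfl⟩, hx⟩ := eV.le (⟨h0, m, rfl⟩ : s m ∈ LinearMap.ker t ⊓ LinearMap.range s)
      refine Submodule.mem_sup.2 ⟨t x, ⟨x, rfl⟩, m - t x, ?_, by abel⟩
      rw [LinearMap.mem_ker, map_sub, hx, sub_self]
    · obtain ⟨_, ⟨x, rfl⟩, hx⟩ := eT.le (⟨h0', m, rfl⟩ : t m ∈ LinearMap.ker s ⊓ LinearMap.range t)
      refine Submodule.mem_sup.2 ⟨s x, ⟨x, rfl⟩, m - s x, ?_, by abel⟩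
      rw [LinearMap.mem_ker, map_sub, hx, sub_self]
  · rintro m ⟨hm1, hm2⟩
    obtain ⟨_, ⟨x, rfl⟩, a, ha, hxa⟩ := Submodule.mem_sup.1 hm1
    obtain ⟨_, ⟨y, rfl⟩, b, hb, hyb⟩ := Submodule.mem_sup.1 hm2
    have q1 : t (s m) = 0 := by
      rw [← hxa, map_add, LinearMap.mem_ker.1 ha, add_zero]; exact LinearMap.congr_fun h2 x
    have q2 : s (t m) = 0 := by
      rw [← hyb, map_add, LinearMap.mem_ker.1 hb, add_zero]; exact LinearMap.congr_fun h1 y
    rw [LinearMap.mem_ker, zc_apply, q1, q2, sub_zero]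

end Rank

universe v

variable {k : Type v} [Field k] {M : Type v} [AddCommGroup M] [Module k M]

local notation "GLM" => LinearMap.GeneralLinearGroup k M
local notation "EndM" => M →ₗ[k] M

variable {G : Subgroup (LinearMap.GeneralLinearGroup k M)}
variable {σ τ : LinearMap.GeneralLinearGroup k M}

theorem sameAction_le_G (G : Subgroup (LinearMap.GeneralLinearGroup k M))
    (σ : LinearMap.GeneralLinearGroup k M) : Cfsg.sameActionSubgroup G σ ≤ G :=
  (Subgroup.closure_le G).2 fun _ hx => hx.1.1.1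

theorem coe_inv_of_sq {a : GLM} (ha : dev a * dev a = 0) :
    ((a⁻¹ : GLM) : EndM) = 1 - dev a := by
  refine Units.inv_eq_of_mul_eq_one_right ?_
  rw [coe_dev a, add_mul, one_mul, mul_sub, mul_one, ha, sub_zero, sub_add_cancel]

theorem dev_commutator {a b : GLM} (ha : dev a * dev a = 0) (hb : dev b * dev b = 0)
    (h1 : dev a * dev b * dev a = 0) (h2 : dev b * dev a * dev b = 0) :
    dev (a * b * a⁻¹ * b⁻¹) = zc (dev a) (dev b) := by
  set x := dev a with hx
  set y := dev b with hy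
  rw [dev, Units.val_mul, Units.val_mul, Units.val_mul, coe_inv_of_sq ha, coe_inv_of_sq hb,
    coe_dev a, coe_dev b, ← hx, ← hy]
  have e : (1 + x) * (1 + y) * (1 - x) * (1 - y) - 1 =
      zc x y - x * x - y * y + x * x * y - x * (y * y) + y * x * y - x * y * x + x * y * x * y := by
    simp only [zc, add_mul, mul_add, mul_sub, sub_mul, one_mul, mul_one, mul_assoc]
    abel
  rw [e, ha, hb, h1, h2]
  simp

variable [FiniteDimensional k M]

/-- All pairs from the two classes have nilpotent `st + ts`. -/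
def Deg (G : Subgroup (LinearMap.GeneralLinearGroup k M))
    (σ τ : LinearMap.GeneralLinearGroup k M) : Prop :=
  ∀ a ∈ Cfsg.sameActionClass G σ, ∀ b ∈ Cfsg.sameActionClass G τ,
    IsNilpotent (zz (dev a) (dev b))

theorem Deg.symm (h : Deg G σ τ) : Deg G τ σ := fun a ha b hb => by
  rw [show zz (dev a) (dev b) = zz (dev b) (dev a) from add_comm _ _]; exact h b hb a ha

theorem deg_of_unipotent
    (h : Cfsg.IsUnipotentOn (Cfsg.sameActionSubgroup G σ ⊔ Cfsg.sameActionSubgroup G τ)) :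
    Deg G σ τ := by
  intro a ha b hb
  set X := Cfsg.sameActionSubgroup G σ ⊔ Cfsg.sameActionSubgroup G τ
  obtain ⟨n, hn, hb'⟩ := exists_pwr_eq_bot h
  have hA : dev a ∈ pwr X 1 := dev_mem_pwr ((le_sup_left : _ ≤ X) (Subgroup.subset_closure ha))
  have hB : dev b ∈ pwr X 1 := dev_mem_pwr ((le_sup_right : _ ≤ X) (Subgroup.subset_closure hb))
  refine ⟨n, (Submodule.mem_bot k).1 (hb' ▸ pwr_one_pow X n hn (Submodule.pow_mem_pow _ ?_ n))⟩
  exact add_mem (pwr_one_mul X (Submodule.mul_mem_mul hA hB)) (pwr_one_mul X (Submodule.mul_mem_mul hB hA))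

variable (hk2 : (2 : k) ≠ 0)
include hk2

theorem sts_of_nilpotent (hσ : σ ∈ Cfsg.minimalQuadraticElements G)
    (hτ : τ ∈ Cfsg.minimalQuadraticElements G) (hz : IsNilpotent (zz (dev σ) (dev τ))) :
    dev σ * dev τ * dev σ = 0 ∧ dev τ * dev σ * dev τ = 0 :=
  let ⟨m, hm⟩ := hz; sts_eq_zero hk2 m hσ hτ hm

theorem dev_comm_pair (hσ : σ ∈ Cfsg.minimalQuadraticElements G)
    (hτ : τ ∈ Cfsg.minimalQuadraticElements G) (hz : IsNilpotent (zz (dev σ) (dev τ))) :
    dev (σ * τ * σ⁻¹ * τ⁻¹) = zc (dev σ) (dev τ) :=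
  dev_commutator (sq_zero hσ) (sq_zero hτ) (sts_of_nilpotent hk2 hσ hτ hz).1
    (sts_of_nilpotent hk2 hσ hτ hz).2

/-- A nonzero `st - ts` is the deviation of an element of least rank. -/
theorem commutator_minimal (hσ : σ ∈ Cfsg.minimalQuadraticElements G)
    (hτ : τ ∈ Cfsg.minimalQuadraticElements G) (hz : IsNilpotent (zz (dev σ) (dev τ)))
    (h0 : zc (dev σ) (dev τ) ≠ 0) :
    σ * τ * σ⁻¹ * τ⁻¹ ∈ Cfsg.minimalQuadraticElements G ∧
      (LinearMap.range (dev σ)).map (dev τ) ⊓ LinearMap.range (dev σ) = ⊥ ∧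
      LinearMap.ker (dev τ) ⊓ LinearMap.range (dev σ) = (LinearMap.range (dev τ)).map (dev σ) ∧
      LinearMap.range (zc (dev σ) (dev τ)) = zRange (dev σ) (dev τ) ∧
      LinearMap.ker (zc (dev σ) (dev τ)) = zKer (dev σ) (dev τ) := by
  have hd := dev_comm_pair hk2 hσ hτ hz
  obtain ⟨h1, h2⟩ := sts_of_nilpotent hk2 hσ hτ hz
  have hs := sq_zero hσ
  have ht := sq_zero hτ
  have hu : σ * τ * σ⁻¹ * τ⁻¹ ∈ Cfsg.quadraticElements G := by
    refine mem_quadratic (mul_mem (mul_mem (mul_mem hσ.1.1 hτ.1.1) (inv_mem hσ.1.1)) (inv_mem hτ.1.1))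
      ?_ (by rwa [hd]) fun c => ?_
    · rw [hd]
      simp only [zc, mul_sub, sub_mul, ← mul_assoc, h1, h2, zero_mul]
      rw [mul_assoc (dev σ) (dev τ) (dev τ), ht, mul_assoc (dev τ) (dev σ) (dev σ), hs]
      simp
    · refine ⟨el (dev σ) hs c * τ * (el (dev σ) hs c)⁻¹ * τ⁻¹,
        mul_mem (mul_mem (mul_mem (el_mem hσ c) hτ.1.1) (inv_mem (el_mem hσ c))) (inv_mem hτ.1.1), ?_⟩
      rw [dev_commutator (a := el (dev σ) hs c) ?_ ht ?_ ?_, hd, dev_el]
      · simp only [zc, smul_sub, smul_mul_assoc, mul_smul_comm]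
      · rw [dev_el, smul_mul_smul_comm, hs, smul_zero]
      · simp only [dev_el, smul_mul_assoc, mul_smul_comm, h1, smul_zero]
      · simp only [dev_el, smul_mul_assoc, mul_smul_comm, h2, smul_zero]
  have hr1 : Module.finrank k (LinearMap.range (dev σ)) ≤
      Module.finrank k (LinearMap.range (zc (dev σ) (dev τ))) := by
    rw [← hd]; exact hσ.2 _ hu
  have hr2 : Module.finrank k (LinearMap.range (dev τ)) ≤
      Module.finrank k (LinearMap.range (zc (dev σ) (dev τ))) := by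
    rw [← hd]; exact hτ.2 _ hu
  refine ⟨⟨hu, fun x hx => le_trans ?_ (hσ.2 x hx)⟩, zc_data hs ht h1 h2 hr1 hr2⟩
  show Module.finrank k (LinearMap.range (dev (σ * τ * σ⁻¹ * τ⁻¹))) ≤ _
  rw [hd]
  exact (rank_zc_aux h2 ht).1

theorem zc_ne_zero_left {a a' b : GLM} (ha : a ∈ Cfsg.minimalQuadraticElements G)
    (hb : b ∈ Cfsg.minimalQuadraticElements G) (ha' : a' ∈ Cfsg.sameActionClass G a)
    (hz : IsNilpotent (zz (dev a) (dev b))) (h0 : zc (dev a) (dev b) ≠ 0) :
    zc (dev a') (dev b) ≠ 0 := by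
  obtain ⟨-, hVb, hV, -, -⟩ := commutator_minimal hk2 ha hb hz h0
  intro h
  have hk : LinearMap.ker (dev a') = LinearMap.ker (dev a) := ha'.2.1
  have hr : LinearMap.range (dev a') = LinearMap.range (dev a) := ha'.2.2
  have e : ∀ m, dev a' (dev b m) = dev b (dev a' m) := fun m =>
    sub_eq_zero.1 (LinearMap.congr_fun h m)
  have key : ∀ m, dev a' (dev b m) = 0 := by
    intro m
    rw [← Submodule.mem_bot k, ← hVb]
    refine ⟨?_, hr.le ⟨_, rfl⟩⟩
    rw [e]; exact ⟨_, hr.le ⟨m, rfl⟩, rfl⟩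
  have hba : ∀ v ∈ LinearMap.range (dev a), dev b v = 0 := by
    intro v hv
    obtain ⟨m, rfl⟩ := hr.ge hv
    rw [← e]; exact key m
  refine dev_ne_zero ha (LinearMap.range_eq_bot.1 (eq_bot_iff.2 fun v hv => ?_))
  obtain ⟨_, ⟨m, rfl⟩, rfl⟩ := hV.le ⟨hba v hv, hv⟩
  exact hk.le (key m)

/-- Commuting is all or nothing. -/
theorem zc_ne_zero_all {a a' b b' : GLM} (hD : Deg G σ τ)
    (ha : a ∈ Cfsg.sameActionClass G σ) (ha' : a' ∈ Cfsg.sameActionClass G σ)
    (hb : b ∈ Cfsg.sameActionClass G τ) (hb' : b' ∈ Cfsg.sameActionClass G τ)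
    (h0 : zc (dev a) (dev b) ≠ 0) : zc (dev a') (dev b') ≠ 0 := by
  have h1 := zc_ne_zero_left hk2 (a' := a') ha.1 hb.1
    ⟨ha'.1, ha'.2.1.trans ha.2.1.symm, ha'.2.2.trans ha.2.2.symm⟩ (hD a ha b hb) h0
  have h2 := zc_ne_zero_left hk2 (a' := b') hb.1 ha'.1
    ⟨hb'.1, hb'.2.1.trans hb.2.1.symm, hb'.2.2.trans hb.2.2.symm⟩ (hD.symm b hb a' ha')
    (by rw [zc_swap]; exact neg_ne_zero.2 h1)
  rw [zc_swap]; exact neg_ne_zero.2 h2

/-- All the non-trivial commutators lie in one class. -/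
theorem commutator_class {a a' b b' : GLM} (hD : Deg G σ τ)
    (ha : a ∈ Cfsg.sameActionClass G σ) (ha' : a' ∈ Cfsg.sameActionClass G σ)
    (hb : b ∈ Cfsg.sameActionClass G τ) (hb' : b' ∈ Cfsg.sameActionClass G τ)
    (h0 : zc (dev a) (dev b) ≠ 0) :
    a' * b' * a'⁻¹ * b'⁻¹ ∈ Cfsg.sameActionClass G (a * b * a⁻¹ * b⁻¹) := by
  obtain ⟨-, -, -, hR, hK⟩ := commutator_minimal hk2 ha.1 hb.1 (hD a ha b hb) h0
  obtain ⟨hm, -, -, hR', hK'⟩ := commutator_minimal hk2 ha'.1 hb'.1 (hD a' ha' b' hb')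
    (zc_ne_zero_all hk2 hD ha ha' hb hb' h0)
  have e1 : LinearMap.ker (dev a') = LinearMap.ker (dev a) := ha'.2.1.trans ha.2.1.symm
  have e2 : LinearMap.range (dev a') = LinearMap.range (dev a) := ha'.2.2.trans ha.2.2.symm
  have e3 : LinearMap.ker (dev b') = LinearMap.ker (dev b) := hb'.2.1.trans hb.2.1.symm
  have e4 : LinearMap.range (dev b') = LinearMap.range (dev b) := hb'.2.2.trans hb.2.2.symm
  refine ⟨hm, ?_, ?_⟩
  · show LinearMap.ker (dev (a' * b' * a'⁻¹ * b'⁻¹)) = LinearMap.ker (dev (a * b * a⁻¹ * b⁻¹))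
    rw [dev_comm_pair hk2 ha'.1 hb'.1 (hD a' ha' b' hb'), dev_comm_pair hk2 ha.1 hb.1 (hD a ha b hb),
      hK, hK', zKer, zKer, e1, e2, e3, e4]
  · show LinearMap.range (dev (a' * b' * a'⁻¹ * b'⁻¹)) = LinearMap.range (dev (a * b * a⁻¹ * b⁻¹))
    rw [dev_comm_pair hk2 ha'.1 hb'.1 (hD a' ha' b' hb'), dev_comm_pair hk2 ha.1 hb.1 (hD a ha b hb),
      hR, hR', zRange, zRange, e1, e2, e3, e4]

omit hk2

/-- The deviations of `E(σ)`. -/
def devSpace (hA : IsRootClass G σ) : Submodule k (M →ₗ[k] M) where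
  carrier := dev '' (Cfsg.sameActionSubgroup G σ : Set (LinearMap.GeneralLinearGroup k M))
  zero_mem' := ⟨1, one_mem _, dev_one⟩
  add_mem' := by
    rintro _ _ ⟨a, ha, rfl⟩ ⟨b, hb, rfl⟩
    exact ⟨a * b, mul_mem ha hb, by
      rw [dev_mul, class_mul hA.1 (hA.2 ▸ ha) (hA.2 ▸ hb), zero_add]⟩
  smul_mem' := by
    rintro c _ ⟨a, ha, rfl⟩
    rcases eq_or_ne a 1 with rfl | h1
    · exact ⟨1, one_mem _, by rw [dev_one, smul_zero]⟩
    · have hac := mem_class_of_mem hA.2 ha h1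
      refine ⟨el (dev a) (sq_zero hac.1) c, ?_, dev_el _ _ _⟩
      have := el_mem_sameAction hac.1 c
      rwa [sameAction_eq hac] at this

theorem conjBy_le_finrank (hA : IsRootClass G σ) (hB : IsRootClass G τ) (g : GLM)
    (h : Cfsg.conjBy (Cfsg.sameActionSubgroup G σ) g ≤ Cfsg.sameActionSubgroup G τ) :
    Module.finrank k (devSpace hA) ≤ Module.finrank k (devSpace hB) := by
  let L : EndM →ₗ[k] EndM :=
    (LinearMap.mulLeft k (g : EndM)).comp (LinearMap.mulRight k ((g⁻¹ : GLM) : EndM))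
  have hinj : Function.Injective L := by
    intro x y hxy
    have := congrArg (fun z => ((g⁻¹ : GLM) : EndM) * z * (g : EndM)) hxy
    simpa [L, mul_assoc] using this
  rw [(Submodule.equivMapOfInjective L hinj (devSpace hA)).finrank_eq]
  refine Submodule.finrank_mono ?_
  rintro _ ⟨_, ⟨a, ha, rfl⟩, rfl⟩
  refine ⟨g * a * g⁻¹, h ⟨a, ha, rfl⟩, ?_⟩
  rw [dev_conj]; simp [L, mul_assoc]

variable (hk3 : Nat.card k ≠ 3)
  (hcl : ∀ ρ ∈ Cfsg.minimalQuadraticElements G, IsRootClass G ρ)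
include hk2 hk3 hcl

theorem finrank_eq_of_split {a b : GLM} (ha : a ∈ Cfsg.minimalQuadraticElements G)
    (hb : b ∈ Cfsg.minimalQuadraticElements G) (hz : ¬ IsNilpotent (zz (dev a) (dev b))) :
    Module.finrank k (devSpace (hcl a ha)) = Module.finrank k (devSpace (hcl b hb)) := by
  obtain ⟨g, -, -, -, h⟩ := partner_conj hk2 hk3 (hcl a ha) (hcl b hb) (class_self ha) hz
  have key : ∀ (A B : Subgroup GLM) (x y : GLM), Cfsg.conjBy A x = Cfsg.conjBy B y →
      Cfsg.conjBy A (y⁻¹ * x) ≤ B := by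
    rintro A B x y hxy _ ⟨u, hu, rfl⟩
    obtain ⟨v, hv, hvx⟩ := hxy.le ⟨u, hu, rfl⟩
    have e : y * v * y⁻¹ = x * u * x⁻¹ := hvx
    show y⁻¹ * x * u * (y⁻¹ * x)⁻¹ ∈ B
    rw [show y⁻¹ * x * u * (y⁻¹ * x)⁻¹ = y⁻¹ * (x * u * x⁻¹) * y by group, ← e,
      show y⁻¹ * (y * v * y⁻¹) * y = v by group]
    exact hv
  exact le_antisymm (conjBy_le_finrank _ _ _ (key _ _ _ _ h))
    (conjBy_le_finrank _ _ _ (key _ _ _ _ h.symm))

/-- Every element of least rank has a non-degenerate partner. -/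
theorem exists_partner (hG : Cfsg.IsQuadraticPair G) {a : GLM}
    (ha : a ∈ Cfsg.minimalQuadraticElements G) :
    ∃ b ∈ Cfsg.minimalQuadraticElements G, ¬ IsNilpotent (zz (dev a) (dev b)) := by
  by_contra hno
  push Not at hno
  let W : Set (Subgroup GLM) := {A | ∃ g ∈ G, A = Cfsg.sameActionSubgroup G (g * a * g⁻¹)}
  have hWW : ∀ A ∈ W, ∀ B ∈ W, Cfsg.IsUnipotentOn (A ⊔ B) := by
    rintro _ ⟨g, hg, rfl⟩ _ ⟨h, hh, rfl⟩
    have hga := conj_minimal hg ha
    have hha := conj_minimal hh ha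
    by_contra hu
    obtain ⟨-, hall⟩ := split_of_not_unipotent hk2 hk3 (hcl _ hga) (hcl _ hha) hu
    refine (hall _ (class_self hga) _ (class_self hha)).1 ?_
    obtain ⟨n, hn⟩ := hno _ (conj_minimal (mul_mem (inv_mem hg) hh) ha)
    refine ⟨n, ?_⟩
    have e : zz (dev (g * a * g⁻¹)) (dev (h * a * h⁻¹)) = (g : EndM) *
        zz (dev a) (dev (g⁻¹ * h * a * (g⁻¹ * h)⁻¹)) * ((g⁻¹ : GLM) : EndM) := by
      have e2 : h * a * h⁻¹ = g * (g⁻¹ * h * a * (g⁻¹ * h)⁻¹) * g⁻¹ := by group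
      conv_lhs => rw [e2, dev_conj, dev_conj]
      simp only [zz, mul_add, add_mul, mul_assoc]
      congr 1 <;> simp only [← mul_assoc ((g⁻¹ : GLM) : EndM), Units.inv_mul, one_mul]
    have epow : ∀ (x : EndM) (j : ℕ), ((g : EndM) * x * ((g⁻¹ : GLM) : EndM)) ^ j =
        (g : EndM) * x ^ j * ((g⁻¹ : GLM) : EndM) := by
      intro x j
      induction j with
      | zero => simp
      | succ j ih => rw [pow_succ, pow_succ, ih]; simp [mul_assoc]
    rw [e, epow, hn, mul_zero, zero_mul]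
  have hconj : ∀ A ∈ W, ∀ B ∈ W, ∀ g ∈ A, Cfsg.conjBy B g ∈ W := by
    rintro _ ⟨g, hg, rfl⟩ _ ⟨h, hh, rfl⟩ x hx
    have hxG := sameAction_le_G G _ hx
    exact ⟨x * h, mul_mem hxG hh, by
      rw [conj_sameAction hxG, show x * (h * a * h⁻¹) * x⁻¹ = x * h * a * (x * h)⁻¹ by group]⟩
  obtain ⟨n, hn⟩ := unipotent_iSup hWW hconj
  set U := ⨆ A ∈ W, A with hU
  obtain ⟨m₀, hm₀⟩ := hG.1.1
  obtain ⟨v, hv0, hv⟩ : ∃ v : M, v ≠ 0 ∧ ∀ g ∈ U, dev g v = 0 := by
    by_contra hne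
    push Not at hne
    have : ∀ j, ∃ l : List GLM, (∀ g ∈ l, g ∈ U) ∧ l.length = j ∧ (l.map dev).prod m₀ ≠ 0 := by
      intro j
      induction j with
      | zero => exact ⟨[], by simp, rfl, by simpa using hm₀⟩
      | succ j ih =>
        obtain ⟨l, hl, hlen, hl0⟩ := ih
        obtain ⟨g, hg, hg0⟩ := hne _ hl0
        exact ⟨g :: l, by simpa [hg] using hl, by simp [hlen],
          by rw [List.map_cons, List.prod_cons, Module.End.mul_apply]; exact hg0⟩
    obtain ⟨l, hl, hlen, hl0⟩ := this n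
    have h := hn l hl hlen
    refine hl0 ?_
    rw [show (l.map dev).prod = 0 from (prod_dev l).symm.trans h]
    rfl
  have hinv : ∀ g ∈ G, ∀ w ∈ Cfsg.fixedSubmodule U, (g : EndM) w ∈ Cfsg.fixedSubmodule U := by
    intro g hg w hw
    have hle : U ≤ U.comap (MulAut.conj g⁻¹).toMonoidHom := by
      refine iSup₂_le fun A hA x hx => ?_
      obtain ⟨h, hh, rfl⟩ := hA
      have hmem : Cfsg.sameActionSubgroup G (g⁻¹ * h * a * (g⁻¹ * h)⁻¹) ∈ W :=
        ⟨_, mul_mem (inv_mem hg) hh, rfl⟩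
      refine le_iSup₂_of_le (f := fun (A : Subgroup GLM) (_ : A ∈ W) => A) _ hmem le_rfl ?_
      rw [show g⁻¹ * h * a * (g⁻¹ * h)⁻¹ = g⁻¹ * (h * a * h⁻¹) * g⁻¹⁻¹ by group,
        ← conj_sameAction (inv_mem hg)]
      exact ⟨x, hx, rfl⟩
    simp only [Cfsg.fixedSubmodule, Submodule.mem_iInf, LinearMap.mem_ker] at hw ⊢
    intro x hx
    have h : dev (g⁻¹ * x * g⁻¹⁻¹) w = 0 := hw _ (hle hx)
    rw [dev_conj, inv_inv, Module.End.mul_apply, Module.End.mul_apply] at h
    exact (injective_iff_map_eq_zero _).1 (gl_injective g⁻¹) _ h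
  have hvmem : v ∈ Cfsg.fixedSubmodule U := by
    simp only [Cfsg.fixedSubmodule, Submodule.mem_iInf, LinearMap.mem_ker]
    exact hv
  rcases hG.1.2 _ hinv with h | h
  · exact hv0 ((Submodule.mem_bot k).1 (h ▸ hvmem))
  · refine dev_ne_zero ha (LinearMap.ext fun m => ?_)
    have hm : m ∈ Cfsg.fixedSubmodule U := h ▸ Submodule.mem_top
    simp only [Cfsg.fixedSubmodule, Submodule.mem_iInf, LinearMap.mem_ker] at hm
    refine hm a (le_iSup₂_of_le (f := fun (A : Subgroup GLM) (_ : A ∈ W) => A) _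
      ⟨1, one_mem G, rfl⟩ le_rfl ?_)
    rw [show (1 : GLM) * a * (1 : GLM)⁻¹ = a by group]
    exact Subgroup.subset_closure (class_self ha)

/-- The commutator class and the left class have the same dimension. -/
theorem finrank_commutator_eq (hG : Cfsg.IsQuadraticPair G)
    (hσ : σ ∈ Cfsg.minimalQuadraticElements G) (hτ : τ ∈ Cfsg.minimalQuadraticElements G)
    {δ : GLM} (hδ : δ ∈ Cfsg.minimalQuadraticElements G)
    (hz : IsNilpotent (zz (dev σ) (dev τ)))
    (hd : dev δ = zc (dev σ) (dev τ) ∨ dev δ = -zc (dev σ) (dev τ)) :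
    Module.finrank k (devSpace (hcl δ hδ)) = Module.finrank k (devSpace (hcl σ hσ)) := by
  obtain ⟨π, hπ, hπδ⟩ := exists_partner hk2 hk3 hcl hG hδ
  refine (finrank_eq_of_split hk2 hk3 hcl hδ hπ hπδ).trans ?_
  by_cases h : IsNilpotent (zz (dev σ) (dev π))
  swap
  · exact (finrank_eq_of_split hk2 hk3 hcl hσ hπ h).symm
  have hσ₁ := conj_minimal hτ.1.1 hσ
  by_cases h' : IsNilpotent (zz (dev (τ * σ * τ⁻¹)) (dev π))
  · exfalso
    refine hπδ ⟨2, ?_⟩
    have p1 := (sts_of_nilpotent hk2 hσ hπ h).2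
    have p2 := (sts_of_nilpotent hk2 hσ₁ hπ h').2
    have e : dev (τ * σ * τ⁻¹) = dev σ - zc (dev σ) (dev τ) := by
      rw [dev_conj, coe_inv_of_sq (sq_zero hτ), coe_dev τ]
      simp only [add_mul, mul_sub, one_mul, mul_one, zc, (sts_of_nilpotent hk2 hσ hτ hz).2]
      abel
    rw [e, mul_sub, sub_mul, p1, zero_sub, neg_eq_zero] at p2
    have p3 : dev π * dev δ * dev π = 0 := by
      rcases hd with hd | hd <;> rw [hd] <;> simp [p2]
    rw [pow_two, zz_sq (sq_zero hδ) (sq_zero hπ), p3, zero_mul,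
      show dev δ * dev π * dev δ * dev π = dev δ * (dev π * dev δ * dev π) by simp only [mul_assoc],
      p3, mul_zero, add_zero]
  · refine (finrank_eq_of_split hk2 hk3 hcl hσ₁ hπ h').symm.trans ?_
    refine le_antisymm (conjBy_le_finrank _ _ τ⁻¹ ?_) (conjBy_le_finrank _ _ τ ?_)
    · rw [conj_sameAction (inv_mem hτ.1.1),
        show τ⁻¹ * (τ * σ * τ⁻¹) * τ⁻¹⁻¹ = σ by group]
    · rw [conj_sameAction hτ.1.1]

/-- With a fixed left factor every element of the commutator class is a commutator. -/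
theorem surj_right (hG : Cfsg.IsQuadraticPair G)
    (hσ : σ ∈ Cfsg.minimalQuadraticElements G) (hτ : τ ∈ Cfsg.minimalQuadraticElements G)
    (hD : Deg G σ τ) (h0 : zc (dev σ) (dev τ) ≠ 0) {a : GLM}
    (ha : a ∈ Cfsg.sameActionClass G σ)
    {x : GLM} (hx : x ∈ Cfsg.sameActionSubgroup G (σ * τ * σ⁻¹ * τ⁻¹)) :
    ∃ b ∈ Cfsg.sameActionSubgroup G τ, a * b * a⁻¹ * b⁻¹ = x := by
  have hz := hD σ (class_self hσ) τ (class_self hτ)
  obtain ⟨hδ, -⟩ := commutator_minimal hk2 hσ hτ hz h0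
  set δ := σ * τ * σ⁻¹ * τ⁻¹ with hδd
  let L : EndM →ₗ[k] EndM := LinearMap.mulLeft k (dev a) - LinearMap.mulRight k (dev a)
  have hL : ∀ b ∈ Cfsg.sameActionSubgroup G τ, L (dev b) = dev (a * b * a⁻¹ * b⁻¹) := by
    intro b hb
    rcases eq_or_ne b 1 with rfl | hb1
    · simp [L, dev_one]
    · have hbc := mem_class_of_mem (hcl τ hτ).2 hb hb1
      rw [dev_comm_pair hk2 ha.1 hbc.1 (hD a ha b hbc)]; rfl
  have hmaps : ∀ y ∈ devSpace (hcl τ hτ), L y ∈ devSpace (hcl δ hδ) := by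
    rintro _ ⟨b, hb, rfl⟩
    rw [hL b hb]
    rcases eq_or_ne b 1 with rfl | hb1
    · exact ⟨1, one_mem _, by simp⟩
    · exact ⟨_, Subgroup.subset_closure (commutator_class hk2 hD (class_self hσ) ha (class_self hτ)
        (mem_class_of_mem (hcl τ hτ).2 hb hb1) h0), rfl⟩
  have hinj : Function.Injective (L.restrict hmaps) := by
    rw [injective_iff_map_eq_zero]
    rintro ⟨_, b, hb, rfl⟩ h
    by_contra hne
    have hb1 : b ≠ 1 := by
      rintro rfl
      exact hne (Subtype.ext dev_one)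
    exact zc_ne_zero_all hk2 hD (class_self hσ) ha (class_self hτ)
      (mem_class_of_mem (hcl τ hτ).2 hb hb1) h0 (congrArg Subtype.val h)
  have hdim : Module.finrank k (devSpace (hcl τ hτ)) = Module.finrank k (devSpace (hcl δ hδ)) :=
    (finrank_commutator_eq hk2 hk3 hcl hG hτ hσ hδ (hD.symm τ (class_self hτ) σ (class_self hσ))
      (Or.inr (by rw [zc_swap, neg_neg]; exact dev_comm_pair hk2 hσ hτ hz))).symm
  obtain ⟨⟨_, b, hb, rfl⟩, hb'⟩ :=
    (LinearMap.injective_iff_surjective_of_finrank_eq_finrank hdim).1 hinj ⟨dev x, x, hx, rfl⟩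
  refine ⟨b, hb, Units.ext ?_⟩
  have h : L (dev b) = dev x := congrArg Subtype.val hb'
  rw [hL b hb] at h
  rw [coe_dev (a * b * a⁻¹ * b⁻¹), coe_dev x, h]

omit hk3 hcl

/-- An element normalizing a root subgroup commutes with it, for a degenerate pair. -/
theorem zc_zero_of_normalizes (hσ : σ ∈ Cfsg.minimalQuadraticElements G)
    (hτ : τ ∈ Cfsg.minimalQuadraticElements G) (hz : IsNilpotent (zz (dev σ) (dev τ)))
    (hc : σ * τ * σ⁻¹ ∈ Cfsg.sameActionClass G τ) : zc (dev σ) (dev τ) = 0 := by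
  by_contra h0
  obtain ⟨-, -, hV, -, -⟩ := commutator_minimal hk2 hσ hτ hz h0
  obtain ⟨-, hTs, -⟩ := commutator_minimal hk2 hτ hσ
    (by rw [show zz (dev τ) (dev σ) = zz (dev σ) (dev τ) from add_comm _ _]; exact hz)
    (by rw [zc_swap]; exact neg_ne_zero.2 h0)
  have hr : (LinearMap.range (dev τ)).map (σ : EndM) = LinearMap.range (dev τ) := by
    rw [← range_conj, ← dev_conj]; exact hc.2.2
  have hk : (LinearMap.ker (dev τ)).map (σ : EndM) = LinearMap.ker (dev τ) := by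
    rw [← ker_conj, ← dev_conj]; exact hc.2.1
  have h1 : ∀ m, dev σ (dev τ m) = 0 := fun m => by
    rw [← Submodule.mem_bot k, ← hTs]
    refine ⟨⟨_, ⟨m, rfl⟩, rfl⟩, ?_⟩
    rw [dev_apply]
    exact Submodule.sub_mem _ (hr.le ⟨_, ⟨m, rfl⟩, rfl⟩) ⟨m, rfl⟩
  have h2 : LinearMap.ker (dev τ) ≤ LinearMap.ker (dev σ) := by
    intro m hm
    have hmem : dev σ m ∈ LinearMap.ker (dev τ) := by
      rw [dev_apply]; exact Submodule.sub_mem _ (hk.le ⟨m, hm, rfl⟩) hm
    obtain ⟨_, ⟨x, rfl⟩, hx⟩ := hV.le ⟨hmem, m, rfl⟩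
    rw [LinearMap.mem_ker, ← hx, h1]
  have h3 : LinearMap.ker (dev τ) = LinearMap.ker (dev σ) := by
    refine Submodule.eq_of_le_of_finrank_le h2 ?_
    have a1 := (dev σ).finrank_range_add_finrank_ker
    have a2 := (dev τ).finrank_range_add_finrank_ker
    have a3 := rank_eq hσ hτ
    omega
  refine h0 (LinearMap.ext fun m => ?_)
  have h4 : dev τ (dev σ m) = 0 := h3.ge (LinearMap.congr_fun (sq_zero hσ) m)
  rw [zc_apply, h1, h4, sub_zero, LinearMap.zero_apply]

end Cfsg.Agent.QuadPair
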