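import Cfsg.Agent.Lib.QuadPair.Kernel
import Cfsg.Agent.Lib.QuadPair.Simple

/-!
The connected components of the root subgroups of a quadratic pair: they commute with each other
and each generates a quasisimple group.
-/

set_option autoImplicit false

namespace Cfsg.Agent.QuadPair

open UniFamily

section Lift

variable {H : Type*} [Group H] {G₀ : Subgroup H}

theorem map_rankOne {A B : Subgroup G₀} (h : Cfsg.IsRankOnePair A B) :
    Cfsg.IsRankOnePair (A.map G₀.subtype) (B.map G₀.subtype) := by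
  haveI := h.nilpotent_left
  haveI := h.nilpotent_right
  have hc : ∀ {A B : Subgroup G₀}, Cfsg.RankOneCondition A B →
      Cfsg.RankOneCondition (A.map G₀.subtype) (B.map G₀.subtype) := by
    rintro A B h _ ⟨a, ha, rfl⟩ ha1
    obtain ⟨b, hb, hb1, he⟩ := h a ha fun e => ha1 (by rw [e]; rfl)
    refine ⟨b, ⟨b, hb, rfl⟩, fun e => hb1 (Subtype.ext e), ?_⟩
    have := congrArg (Subgroup.map G₀.subtype) he
    rwa [map_conjBy, map_conjBy] at this
  exact ⟨fun e => h.ne (Subgroup.map_injective G₀.subtype_injective e),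
    Group.nilpotent_of_mulEquiv (Subgroup.equivMapOfInjective A _ G₀.subtype_injective),
    Group.nilpotent_of_mulEquiv (Subgroup.equivMapOfInjective B _ G₀.subtype_injective),
    hc h.cond_left, hc h.cond_right⟩

theorem subgroupOf_special {A B : Subgroup H} (hA : A ≤ G₀) (hB : B ≤ G₀)
    (h : Cfsg.IsSpecialRankOnePair A B) :
    Cfsg.IsSpecialRankOnePair (A.subgroupOf G₀) (B.subgroupOf G₀) := by
  refine ⟨subgroupOf_rankOne hA hB h.1, fun a ha ha1 b hb hb1 he => Subtype.ext ?_⟩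
  have he' := congrArg (Subgroup.map G₀.subtype) he
  rw [map_conjBy, map_conjBy, map_subgroupOf' hA, map_subgroupOf' hB] at he'
  exact h.2 (a : H) ha (fun e => ha1 (Subtype.ext e)) (b : H) hb (fun e => hb1 (Subtype.ext e)) he'

end Lift

universe v

variable {k : Type v} [Field k] {M : Type v} [AddCommGroup M] [Module k M] [FiniteDimensional k M]

local notation "GLM" => LinearMap.GeneralLinearGroup k M
local notation "EndM" => M →ₗ[k] M

variable {G : Subgroup (LinearMap.GeneralLinearGroup k M)}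

/-- The component of `A` in the graph of rank one pairs of root subgroups. -/
def comp (G : Subgroup (LinearMap.GeneralLinearGroup k M))
    (A : Subgroup (LinearMap.GeneralLinearGroup k M)) :
    Set (Subgroup (LinearMap.GeneralLinearGroup k M)) :=
  Cfsg.componentOf (Cfsg.FAdj (Cfsg.quadraticRootSubgroups G)) (Cfsg.quadraticRootSubgroups G) A

/-- The subgroup generated by the component of `A`. -/
def compGroup (G : Subgroup (LinearMap.GeneralLinearGroup k M))
    (A : Subgroup (LinearMap.GeneralLinearGroup k M)) :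
    Subgroup (LinearMap.GeneralLinearGroup k M) :=
  ⨆ B ∈ comp G A, B

theorem mem_comp_self {A : Subgroup GLM} (hA : A ∈ Cfsg.quadraticRootSubgroups G) :
    A ∈ comp G A := ⟨hA, .refl⟩

theorem le_compGroup {A B : Subgroup GLM} (hB : B ∈ comp G A) : B ≤ compGroup G A :=
  le_iSup₂_of_le (f := fun (B : Subgroup GLM) (_ : B ∈ comp G A) => B) B hB le_rfl

theorem reach_comm {A B : Subgroup GLM}
    (h : Timmesfeld.Reach (Cfsg.quadraticRootSubgroups G) A B) :
    Timmesfeld.Reach (Cfsg.quadraticRootSubgroups G) B A := Timmesfeld.reach_symm h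

theorem comp_eq {A B : Subgroup GLM} (hB : B ∈ comp G A) : comp G B = comp G A :=
  Set.ext fun _ => ⟨fun hC => ⟨hC.1, hB.2.trans hC.2⟩, fun hC => ⟨hC.1, (reach_comm hB.2).trans hC.2⟩⟩

theorem fadj_conj {A B : Subgroup GLM} {g : GLM} (hg : g ∈ G)
    (h : Cfsg.FAdj (Cfsg.quadraticRootSubgroups G) A B) :
    Cfsg.FAdj (Cfsg.quadraticRootSubgroups G) (Cfsg.conjBy A g) (Cfsg.conjBy B g) :=
  ⟨conj_mem_sigma h.1 hg, conj_mem_sigma h.2.1 hg, Timmesfeld.rankPair_conj h.2.2 g⟩

theorem reach_conj {A B : Subgroup GLM} {g : GLM} (hg : g ∈ G)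
    (h : Timmesfeld.Reach (Cfsg.quadraticRootSubgroups G) A B) :
    Timmesfeld.Reach (Cfsg.quadraticRootSubgroups G) (Cfsg.conjBy A g) (Cfsg.conjBy B g) := by
  induction h with
  | refl => exact .refl
  | tail _ hs ih => exact ih.tail (fadj_conj hg hs)

/-- The elements of the group generated by a component preserve it. -/
theorem conj_mem_comp {A B : Subgroup GLM} (hB : B ∈ comp G A) {g : GLM}
    (hg : g ∈ compGroup G A) : Cfsg.conjBy B g ∈ comp G A := by
  have hle : compGroup G A ≤ G := iSup₂_le fun C hC => by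
    obtain ⟨σ, -, rfl⟩ := hC.1
    exact sameAction_le_G G σ
  suffices h : ∀ X ∈ comp G A, Cfsg.conjBy X g ∈ comp G A from h B hB
  refine Subgroup.closure_induction (k := {x | ∃ C ∈ comp G A, x ∈ C})
    (p := fun g _ => ∀ X ∈ comp G A, Cfsg.conjBy X g ∈ comp G A) ?_ ?_ ?_ ?_ (x := g) ?_
  · rintro c ⟨C, hC, hc⟩ X hX
    have hcG : c ∈ G := hle (le_compGroup hC hc)
    have h1 : Timmesfeld.Reach (Cfsg.quadraticRootSubgroups G) X C := (reach_comm hX.2).trans hC.2
    have h2 := reach_conj hcG h1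
    rw [Timmesfeld.conjBy_self hc] at h2
    exact ⟨conj_mem_sigma hX.1 hcG, hC.2.trans (reach_comm h2)⟩
  · intro X hX; rwa [Timmesfeld.conjBy_one]
  · intro x y _ _ hx hy X hX
    rw [← Timmesfeld.conjBy_conjBy]; exact hx _ (hy X hX)
  · intro x hx hx' X hX
    have hxG : x ∈ G := by
      refine ((Subgroup.closure_le G).2 ?_) hx
      rintro c ⟨C, hC, hc⟩
      exact hle (le_compGroup hC hc)
    have h1 := reach_conj (inv_mem hxG) ((reach_comm hX.2).trans (hx' X hX).2)
    rw [Timmesfeld.conjBy_conjBy, inv_mul_cancel, Timmesfeld.conjBy_one] at h1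
    exact ⟨conj_mem_sigma hX.1 (inv_mem hxG), hX.2.trans (reach_comm h1)⟩
  · exact (iSup₂_le fun C hC c hc => Subgroup.subset_closure ⟨C, hC, hc⟩ :
      compGroup G A ≤ Subgroup.closure {x | ∃ C ∈ comp G A, x ∈ C}) hg

variable (hk2 : ringChar k ≠ 2) (hk3 : Nat.card k ≠ 3) (hG : Cfsg.IsQuadraticPair G)
include hk2 hk3 hG

theorem reach_bracket {A B : Subgroup GLM} (hA : A ∈ Cfsg.quadraticRootSubgroups G)
    (hB : B ∈ Cfsg.quadraticRootSubgroups G)
    (h : Cfsg.RootCommutatorCase (Cfsg.quadraticRootSubgroups G) A B) :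
    Timmesfeld.Reach (Cfsg.quadraticRootSubgroups G) A ⁅A, B⁆ := by
  set G₀ := ⨆ C ∈ Cfsg.quadraticRootSubgroups G, C with hG₀
  have hle : ∀ C ∈ Cfsg.quadraticRootSubgroups G, C ≤ G₀ := fun C hC => le_iSup₂_of_le C hC le_rfl
  have hS := rootSubgroupSet_of hk2 hk3 hG (S := Cfsg.quadraticRootSubgroups G) subset_rfl
    (fun A hA g hg => conj_mem_sigma hA (sigma_le_G hk2 hk3 hG hg)) (fun _ _ _ _ h => h)
  set S := (fun A : Subgroup GLM => A.subgroupOf G₀) '' Cfsg.quadraticRootSubgroups G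
  have hpart : ∀ C ∈ S, ∃ D ∈ S, Cfsg.IsRankOnePair C D := by
    rintro _ ⟨C, hC, rfl⟩
    obtain ⟨D, hD, hp⟩ := exists_rankOne hk2 hk3 hG hC
    exact ⟨_, ⟨D, hD, rfl⟩, subgroupOf_rankOne (hle C hC) (hle D hD) hp⟩
  have h' := subgroupOf_commCase (hle A hA) (hle B hB) h
  have hAS : A.subgroupOf G₀ ∈ S := ⟨A, hA, rfl⟩
  obtain ⟨D, hD, hXD⟩ := hpart _ hAS
  obtain ⟨E, hE, hZE⟩ := hpart _ h'.1
  have hr := Timmesfeld.reach_of_line hS hAS h'.1 hD hE hXD hZE (Timmesfeld.commCase_comm h').1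
    fun x hx hx1 z hz _ => by
      obtain ⟨b, -, he⟩ := Timmesfeld.commCase_line hS hAS h' hx hx1 hz
      rw [← he]
      exact Timmesfeld.rootElements_conj hS (Timmesfeld.mem_rootElements hAS hx hx1) b
  have key : ∀ {X Y : Subgroup G₀}, Timmesfeld.Reach S X Y →
      Timmesfeld.Reach (Cfsg.quadraticRootSubgroups G) (X.map G₀.subtype) (Y.map G₀.subtype) := by
    intro X Y hXY
    induction hXY with
    | refl => exact .refl
    | tail _ hs ih =>
      refine ih.tail ⟨?_, ?_, map_rankOne hs.2.2⟩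
      · obtain ⟨C, hC, hCe⟩ := hs.1
        rw [← hCe, map_subgroupOf' (hle C hC)]; exact hC
      · obtain ⟨C, hC, hCe⟩ := hs.2.1
        rw [← hCe, map_subgroupOf' (hle C hC)]; exact hC
  have := key hr
  rwa [Subgroup.map_commutator, map_subgroupOf' (hle A hA), map_subgroupOf' (hle B hB)] at this

/-- Members of different components commute. -/
theorem comm_of_not_reach {A B : Subgroup GLM} (hA : A ∈ Cfsg.quadraticRootSubgroups G)
    (hB : B ∈ Cfsg.quadraticRootSubgroups G)
    (h : ¬ Timmesfeld.Reach (Cfsg.quadraticRootSubgroups G) A B) : ⁅A, B⁆ = ⊥ := by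
  rcases trichotomy hk2 hk3 hG hA hB with e | e | e
  · exact e
  · exact absurd (Relation.ReflTransGen.single ⟨hA, hB, e⟩) h
  · exfalso
    rcases trichotomy hk2 hk3 hG hB hA with e' | e' | e'
    · obtain ⟨σ, hσ, hCe⟩ := e.1
      have hbot : ⁅A, B⁆ = ⊥ := by rw [Subgroup.commutator_comm]; exact e'
      exact mem_ne_one hσ (Subgroup.mem_bot.1 (hbot ▸ hCe ▸ Subgroup.subset_closure (class_self hσ)))
    · exact h (reach_comm (Relation.ReflTransGen.single ⟨hB, hA, e'⟩))
    · have h1 := reach_bracket hk2 hk3 hG hA hB e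
      have h2 := reach_bracket hk2 hk3 hG hB hA e'
      rw [Subgroup.commutator_comm] at h2
      exact h (h1.trans (reach_comm h2))

theorem le_centralizer_of_ne {A B C : Subgroup GLM} (hB : B ∈ Cfsg.quadraticRootSubgroups G)
    (hC : C ∈ comp G A) (hBA : B ∉ comp G A) : B ≤ Subgroup.centralizer (C : Set GLM) := by
  rw [← Subgroup.commutator_eq_bot_iff_le_centralizer]
  exact comm_of_not_reach hk2 hk3 hG hB hC.1 fun h => hBA ⟨hB, hC.2.trans (reach_comm h)⟩

/-- The groups of two different components commute. -/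
theorem compGroup_comm {A B : Subgroup GLM} (hne : comp G A ≠ comp G B) :
    ⁅compGroup G A, compGroup G B⁆ = ⊥ := by
  rw [Subgroup.commutator_eq_bot_iff_le_centralizer]
  refine iSup₂_le fun C hC => Subgroup.le_centralizer_iff.1 (iSup₂_le fun D hD => ?_)
  exact le_centralizer_of_ne hk2 hk3 hG hD.1 hC fun h => hne ((comp_eq h).symm.trans (comp_eq hD))

theorem commutator_mem_comp {A B C : Subgroup GLM} (hB : B ∈ comp G A) (hC : C ∈ comp G A)
    (h : ⁅B, C⁆ ∈ Cfsg.quadraticRootSubgroups G) : ⁅B, C⁆ ∈ comp G A := by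
  refine ⟨h, ?_⟩
  rcases trichotomy hk2 hk3 hG hB.1 hC.1 with e | e | e
  · obtain ⟨σ, hσ, hσe⟩ := h
    exact absurd (Subgroup.mem_bot.1 (e ▸ hσe ▸ Subgroup.subset_closure (class_self hσ))) (mem_ne_one hσ)
  · obtain ⟨σ, hσ, hBσ⟩ := hB.1
    obtain ⟨τ, hτ, hCτ⟩ := hC.1
    have hu := not_unipotent_of_rankOne hk2 hk3 hG hσ hτ (hBσ ▸ hCτ ▸ e)
    obtain ⟨ρ, hρ, hρe⟩ := h
    by_contra hr
    have h1 : ¬ Timmesfeld.Reach (Cfsg.quadraticRootSubgroups G) B ⁅B, C⁆ := fun h => hr (hB.2.trans h)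
    have h2 : ¬ Timmesfeld.Reach (Cfsg.quadraticRootSubgroups G) C ⁅B, C⁆ := fun h => hr (hC.2.trans h)
    have c1 := comm_of_not_reach hk2 hk3 hG hB.1 ⟨ρ, hρ, hρe⟩ h1
    have c2 := comm_of_not_reach hk2 hk3 hG hC.1 ⟨ρ, hρ, hρe⟩ h2
    refine hu (hBσ ▸ hCτ ▸ unipotent_of_class_two (Ring.two_ne_zero hk2) hk3
      (fun _ h => rootClass hk2 hk3 hG h) hσ hτ hBσ hCτ ?_)
    have hcent : B ⊔ C ≤ Subgroup.centralizer ((⁅B, C⁆ : Subgroup GLM) : Set GLM) :=
      sup_le (Subgroup.commutator_eq_bot_iff_le_centralizer.1 c1)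
        (Subgroup.commutator_eq_bot_iff_le_centralizer.1 c2)
    have hXX : ⁅B ⊔ C, B ⊔ C⁆ ≤ ⁅B, C⁆ :=
      commutator_le_of_central (hBσ ▸ rootClass_comm hk2 hk3 hG hσ) (hCτ ▸ rootClass_comm hk2 hk3 hG hτ)
        (le_sup_left.trans hcent) (le_sup_right.trans hcent) fun b hb c hc => by
          rw [← commutatorElement_def]; exact Subgroup.commutator_mem_commutator hb hc
    rw [Subgroup.commutator_eq_bot_iff_le_centralizer]
    exact hXX.trans (Subgroup.le_centralizer_iff.1 hcent)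
  · exact hB.2.trans (reach_bracket hk2 hk3 hG hB.1 hC.1 e)

theorem compGroup_rootSet (A : Subgroup GLM) :
    Cfsg.IsRootSubgroupSet ((fun B : Subgroup GLM => B.subgroupOf (compGroup G A)) '' comp G A) :=
  rootSubgroupSet_of hk2 hk3 hG (S := comp G A) (fun _ h => h.1) (fun _ hB _ hg => conj_mem_comp hB hg)
    (fun _ hB _ hC h => commutator_mem_comp hk2 hk3 hG hB hC h)

theorem special_of_rankOne {A B : Subgroup GLM} (hA : A ∈ Cfsg.quadraticRootSubgroups G)
    (hB : B ∈ Cfsg.quadraticRootSubgroups G) (h : Cfsg.IsRankOnePair A B) :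
    Cfsg.IsSpecialRankOnePair A B := by
  obtain ⟨σ, hσ, rfl⟩ := hA
  obtain ⟨τ, hτ, rfl⟩ := hB
  obtain ⟨hS, hall⟩ := split_of_not_unipotent (Ring.two_ne_zero hk2) hk3 (rootClass hk2 hk3 hG hσ)
    (rootClass hk2 hk3 hG hτ) (not_unipotent_of_rankOne hk2 hk3 hG hσ hτ h)
  exact rankOne_of_split (Ring.two_ne_zero hk2) hk3 (rootClass hk2 hk3 hG hσ) (rootClass hk2 hk3 hG hτ)
    hS (rootClass_comm hk2 hk3 hG hσ) (rootClass_comm hk2 hk3 hG hτ)
    (fun _ h => rootClass hk2 hk3 hG h) hall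

theorem three_lt_member {A : Subgroup GLM} (hA : A ∈ Cfsg.quadraticRootSubgroups G) :
    3 < ENat.card A := by
  obtain ⟨σ, hσ, rfl⟩ := hA
  refine (three_lt_card k (Ring.two_ne_zero hk2) hk3).trans_le
    (ENat.card_le_card_of_injective (f := fun c : k => (⟨_, el_mem_sameAction hσ c⟩ :
      Cfsg.sameActionSubgroup G σ)) ?_)
  intro c d h
  have h' : c • dev σ = d • dev σ := by
    have := congrArg (fun x : Cfsg.sameActionSubgroup G σ => dev (x : GLM)) h
    simpa [dev_el] using this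
  exact smul_left_injective k (dev_ne_zero hσ) h'

/-- A component generates a quasisimple group, in which it is a class of root subgroups. -/
theorem compGroup_quasisimple {A : Subgroup GLM} (hA : A ∈ Cfsg.quadraticRootSubgroups G) :
    Cfsg.IsQuasisimple ↥(compGroup G A) ∧
      Cfsg.IsRootSubgroupClass ((fun B : Subgroup GLM => B.subgroupOf (compGroup G A)) '' comp G A) := by
  set Q := compGroup G A with hQ
  set S := (fun B : Subgroup GLM => B.subgroupOf Q) '' comp G A with hSd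
  have hS : Cfsg.IsRootSubgroupSet S := compGroup_rootSet hk2 hk3 hG A
  have hle : ∀ B ∈ comp G A, B ≤ Q := fun B hB => le_compGroup hB
  have hQG : Q ≤ G := iSup₂_le fun B hB => by
    obtain ⟨σ, -, rfl⟩ := hB.1
    exact sameAction_le_G G σ
  obtain ⟨B, hB, hAB⟩ := exists_rankOne hk2 hk3 hG hA
  have hBc : B ∈ comp G A := ⟨hB, Relation.ReflTransGen.single ⟨hA, hB, hAB⟩⟩
  have hAB' := subgroupOf_rankOne (hle A (mem_comp_self hA)) (hle B hBc) hAB
  have h2 : ∃ X ∈ S, ∃ Y ∈ S, X ≠ Y :=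
    ⟨_, ⟨A, mem_comp_self hA, rfl⟩, _, ⟨B, hBc, rfl⟩, hAB'.ne⟩
  have hconn : Cfsg.IsConnectedFamily (Cfsg.FAdj S) S := by
    have key : ∀ {X Y : Subgroup GLM}, Timmesfeld.Reach (Cfsg.quadraticRootSubgroups G) X Y →
        X ∈ comp G A → Timmesfeld.Reach S (X.subgroupOf Q) (Y.subgroupOf Q) ∧ Y ∈ comp G A := by
      intro X Y hXY hX
      induction hXY with
      | refl => exact ⟨.refl, hX⟩
      | @tail Y Z _ hs ih =>
        have hZ : Z ∈ comp G A := ⟨hs.2.1, ih.2.2.tail hs⟩
        exact ⟨ih.1.tail ⟨⟨Y, ih.2, rfl⟩, ⟨Z, hZ, rfl⟩,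
          subgroupOf_rankOne (hle Y ih.2) (hle Z hZ) hs.2.2⟩, hZ⟩
    rintro _ ⟨X, hX, rfl⟩ _ ⟨Y, hY, rfl⟩
    exact (key ((reach_comm hX.2).trans hY.2) hX).1
  refine ⟨(Timmesfeld.root_quasisimple_of_fixes hS h2 hconn ?_ ?_ ?_).2, hS,
    ((Timmesfeld.connected_iff hS h2).1 hconn).1⟩
  · -- an element fixing the centralising sets fixes everything
    rintro n hn _ ⟨C, hC, rfl⟩
    have hfix : ∀ X ∈ Cfsg.quadraticRootSubgroups G,
        Cfsg.centralizingMembers (Cfsg.quadraticRootSubgroups G) (Cfsg.conjBy X (n : GLM)) =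
          Cfsg.centralizingMembers (Cfsg.quadraticRootSubgroups G) X := by
      intro X hX
      by_cases hXc : X ∈ comp G A
      · have hXn : Cfsg.conjBy X (n : GLM) ∈ comp G A := conj_mem_comp hXc n.2
        have he := hn _ ⟨X, hXc, rfl⟩
        have hconjX : Cfsg.conjBy (X.subgroupOf Q) n = (Cfsg.conjBy X (n : GLM)).subgroupOf Q := by
          apply Subgroup.map_injective Q.subtype_injective
          rw [map_conjBy, map_subgroupOf' (hle X hXc), map_subgroupOf' (hle _ hXn)]
        rw [hconjX] at he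
        have hiff : ∀ {Y Z : Subgroup GLM}, Y ∈ comp G A → Z ∈ comp G A →
            (Y.subgroupOf Q ≤ Subgroup.centralizer ((Z.subgroupOf Q : Subgroup Q) : Set Q) ↔
              Y ≤ Subgroup.centralizer (Z : Set GLM)) := by
          intro Y Z hY hZ
          constructor
          · intro h y hy
            refine Subgroup.mem_centralizer_iff.2 fun z hz => ?_
            exact congrArg Subtype.val
              (Subgroup.mem_centralizer_iff.1 (h (x := ⟨y, hle Y hY hy⟩) hy) ⟨z, hle Z hZ hz⟩ hz)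
          · intro h y hy
            exact Subgroup.mem_centralizer_iff.2 fun z hz =>
              Subtype.ext (Subgroup.mem_centralizer_iff.1 (h hy) _ hz)
        ext Y
        by_cases hY : Y ∈ comp G A
        · have hY' := (Set.ext_iff.1 he) (Y.subgroupOf Q)
          simp only [Cfsg.centralizingMembers, Set.mem_setOf_eq] at hY' ⊢
          rw [hiff hY hXn, hiff hY hXc] at hY'
          have hYS : Y.subgroupOf Q ∈ S := ⟨Y, hY, rfl⟩
          constructor
          · exact fun h => ⟨h.1, (hY'.1 ⟨hYS, h.2⟩).2⟩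
          · exact fun h => ⟨h.1, (hY'.2 ⟨hYS, h.2⟩).2⟩
        · simp only [Cfsg.centralizingMembers, Set.mem_setOf_eq]
          exact ⟨fun h => ⟨h.1, le_centralizer_of_ne hk2 hk3 hG h.1 hXc hY⟩,
            fun h => ⟨h.1, le_centralizer_of_ne hk2 hk3 hG h.1 hXn hY⟩⟩
      · have hcom : Q ≤ Subgroup.centralizer (X : Set GLM) := iSup₂_le fun D hD =>
          Subgroup.le_centralizer_iff.1 (le_centralizer_of_ne hk2 hk3 hG hX hD hXc)
        rw [Timmesfeld.conjBy_of_centralizes fun x hx =>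
          (Subgroup.mem_centralizer_iff.1 (hcom n.2) x hx).symm]
    have hcomm := commute_of_fixes_centralizing hk2 hk3 hG (hQG n.2) hfix C hC.1
    exact Timmesfeld.conjBy_of_centralizes fun x hx =>
      Subtype.ext (hcomm (x : GLM) (Subgroup.mem_subgroupOf.1 hx))
  · rintro - _ ⟨C, hC, rfl⟩
    rw [ENat.card_congr (Subgroup.subgroupOfEquivOfLe (hle C hC)).toEquiv]
    exact three_lt_member hk2 hk3 hG hC.1
  · rintro _ ⟨X, hX, rfl⟩ _ ⟨⟨Y, hY, rfl⟩, hp⟩
    have hp' := map_rankOne hp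
    rw [map_subgroupOf' (hle X hX), map_subgroupOf' (hle Y hY)] at hp'
    exact subgroupOf_special (hle X hX) (hle Y hY) (special_of_rankOne hk2 hk3 hG hX.1 hY.1 hp')

/-- There are only finitely many components. -/
theorem finite_components : (comp G '' Cfsg.quadraticRootSubgroups G).Finite := by
  classical
  set P := comp G '' Cfsg.quadraticRootSubgroups G with hP
  have hch : ∀ p : P, ∃ σ, σ ∈ Cfsg.minimalQuadraticElements G ∧
      comp G (Cfsg.sameActionSubgroup G σ) = p.1 := by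
    rintro ⟨p, A, ⟨σ, hσ, rfl⟩, rfl⟩
    exact ⟨σ, hσ, rfl⟩
  choose f hf hfp using hch
  have hli : LinearIndependent k (fun p : P => dev (f p)) := by
    rw [linearIndependent_iff_notMem_span]
    intro p hp
    obtain ⟨π, hπ, hz⟩ := exists_partner (Ring.two_ne_zero hk2) hk3
      (fun _ h => rootClass hk2 hk3 hG h) hG (hf p)
    have hsub : Cfsg.sameActionSubgroup G π ∈ comp G (Cfsg.sameActionSubgroup G (f p)) := by
      refine ⟨⟨π, hπ, rfl⟩, ?_⟩
      by_contra hr
      have h := comm_of_not_reach hk2 hk3 hG ⟨f p, hf p, rfl⟩ ⟨π, hπ, rfl⟩ hr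
      exact hz (nilpotent_of_commute (hf p) (zc_of_commute (forall_of_comm_bot h _
        (Subgroup.subset_closure (class_self (hf p))) _ (Subgroup.subset_closure (class_self hπ)))))
    have hker : ∀ x ∈ Submodule.span k ((fun p : P => dev (f p)) '' (Set.univ \ {p})),
        zc x (dev π) = 0 := by
      intro x hx
      induction hx using Submodule.span_induction with
      | mem y hy =>
        obtain ⟨q, hq, rfl⟩ := hy
        refine zc_of_commute (forall_of_comm_bot (comm_of_not_reach hk2 hk3 hG ⟨f q, hf q, rfl⟩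
          ⟨π, hπ, rfl⟩ fun hr => hq.2 (Set.mem_singleton_iff.2 (Subtype.ext ?_))) _
          (Subgroup.subset_closure (class_self (hf q))) _ (Subgroup.subset_closure (class_self hπ)))
        rw [← hfp q, ← hfp p, ← comp_eq (⟨⟨π, hπ, rfl⟩, hr⟩ :
          Cfsg.sameActionSubgroup G π ∈ comp G (Cfsg.sameActionSubgroup G (f q))), comp_eq hsub]
      | zero => simp [zc]
      | add y z _ _ hy hz' =>
        rw [zc, add_mul, mul_add, show y * dev π + z * dev π - (dev π * y + dev π * z) =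
          zc y (dev π) + zc z (dev π) by simp only [zc]; abel, hy, hz', add_zero]
      | smul c y _ hy =>
        rw [zc, smul_mul_assoc, mul_smul_comm, ← smul_sub, show y * dev π - dev π * y = 0 from hy,
          smul_zero]
    refine hz (nilpotent_of_commute (hf p) (hker _ ?_))
    exact hp
  exact Set.finite_coe_iff.1 hli.finite

end Cfsg.Agent.QuadPair
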