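import Cfsg.Agent.Lib.QuadPair.Inner

/-!
A quadratic pair is a central product of quasisimple groups generated by quadratic elements.
-/

set_option autoImplicit false

namespace Cfsg.Agent.QuadPair

open UniFamily
open scoped Pointwise

universe v

variable {k : Type v} [Field k] {M : Type v} [AddCommGroup M] [Module k M] [FiniteDimensional k M]

local notation "GLM" => LinearMap.GeneralLinearGroup k M
local notation "EndM" => M →ₗ[k] M

/-- Pairwise commuting quasisimple subgroups generating `G`, each generated by quadratic elements,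
and covering all quadratic elements. -/
def IsDecomp (G : Subgroup (LinearMap.GeneralLinearGroup k M)) {ι : Type}
    (Gi : ι → Subgroup (LinearMap.GeneralLinearGroup k M)) : Prop :=
  (∀ i j, i ≠ j → ⁅Gi i, Gi j⁆ = ⊥) ∧ (⨆ i, Gi i) = G ∧
    (∀ i, Cfsg.IsQuasisimple ↥(Gi i) ∧
      Subgroup.closure (Cfsg.quadraticElements G ∩ (Gi i : Set (LinearMap.GeneralLinearGroup k M))) = Gi i) ∧
    Cfsg.quadraticElements G ⊆ ⋃ i, (Gi i : Set (LinearMap.GeneralLinearGroup k M))

/-- A decomposition with finitely many factors. -/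
def HasDecomp (G : Subgroup (LinearMap.GeneralLinearGroup k M)) : Prop :=
  ∃ (s : ℕ) (Gi : Fin s → Subgroup (LinearMap.GeneralLinearGroup k M)), IsDecomp G Gi

variable {G : Subgroup (LinearMap.GeneralLinearGroup k M)}

theorem IsDecomp.conj_eq {ι : Type} {Gi : ι → Subgroup GLM} (h : IsDecomp G Gi) (i : ι) {g : GLM}
    (hg : g ∈ G) : Cfsg.conjBy (Gi i) g = Gi i := by
  obtain ⟨hc, hsup, -, -⟩ := h
  rw [← hsup] at hg
  induction hg using Subgroup.iSup_induction' with
  | hp j x hx =>
    rcases eq_or_ne j i with rfl | hne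
    · exact Timmesfeld.conjBy_self hx
    · exact Timmesfeld.conjBy_of_centralizes fun y hy => forall_of_comm_bot (hc j i hne) x hx y hy
  | h1 => exact Timmesfeld.conjBy_one _
  | hmul x y _ _ hx hy => rw [← Timmesfeld.conjBy_conjBy, hy, hx]

theorem quadratic_el {z : EndM} (hz : z * z = 0) (h0 : z ≠ 0) (hf : ∀ c : k, el z hz c ∈ G) :
    el z hz 1 ∈ Cfsg.quadraticElements G := by
  have hd : dev (el z hz 1 : GLM) = z := by rw [dev_el, one_smul]
  refine mem_quadratic (hf 1) (by rw [hd, hz]) (by rwa [hd]) fun c => ⟨_, hf c, ?_⟩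
  rw [dev_el, hd]

theorem quad_sq {y : GLM} (hy : y ∈ Cfsg.quadraticElements G) : dev y * dev y = 0 := hy.2.1.1

theorem family_mem {y : GLM} (hy : y ∈ Cfsg.quadraticElements G) (c : k) :
    el (dev y) (quad_sq hy) c ∈ G := hy.2.2 ⟨c, rfl⟩

theorem el_one' {y : GLM} (hy : y ∈ Cfsg.quadraticElements G) :
    el (dev y) (quad_sq hy) (1 : k) = y := Units.ext (by rw [el_val, one_smul, ← coe_dev])

/-- A quadratic element is not centralised by the whole group. -/
theorem eq_zero_of_central (hirr : Cfsg.IsIrreducibleFor G) {z : EndM} (hz : z * z = 0)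
    (hc : ∀ g ∈ G, z * (g : EndM) = (g : EndM) * z) : z = 0 := by
  rcases hirr.2 (LinearMap.ker z) (fun g hg w hw => by
    rw [LinearMap.mem_ker, ← Module.End.mul_apply, hc g hg, Module.End.mul_apply,
      LinearMap.mem_ker.1 hw, map_zero]) with h | h
  · refine LinearMap.ext fun m => ?_
    have hm : z m ∈ LinearMap.ker z := LinearMap.congr_fun hz m
    rw [h] at hm
    exact (Submodule.mem_bot k).1 hm
  · exact LinearMap.ker_eq_top.1 h

theorem commute_coe {g h : GLM} (e : g * h = h * g) :
    (g : EndM) * (h : EndM) = (h : EndM) * (g : EndM) := by rw [← Units.val_mul, e, Units.val_mul]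

theorem dev_commute_coe {g h : GLM} (e : g * h = h * g) :
    dev g * (h : EndM) = (h : EndM) * dev g := by
  rw [dev, sub_mul, mul_sub, commute_coe e, one_mul, mul_one]

theorem mem_invariant {Q : Subgroup GLM} {b : EndM} :
    ∀ q ∈ Q, ∀ w ∈ (⨆ q ∈ Q, (LinearMap.range b).map (q : EndM) : Submodule k M),
      (q : EndM) w ∈ (⨆ q ∈ Q, (LinearMap.range b).map (q : EndM) : Submodule k M) := by
  intro q hq w hw
  refine Submodule.mem_comap.1 ((iSup₂_le fun q' hq' => ?_ :
    (⨆ q ∈ Q, (LinearMap.range b).map (q : EndM) : Submodule k M) ≤ Submodule.comap (q : EndM) _) hw)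
  rintro _ ⟨_, ⟨x, rfl⟩, rfl⟩
  exact le_iSup₂_of_le (f := fun (q : GLM) (_ : q ∈ Q) => (LinearMap.range b).map (q : EndM))
    (q * q') (mul_mem hq hq') le_rfl ⟨b x, ⟨x, rfl⟩, rfl⟩

theorem invariant_of_generators {P Q : Subgroup GLM} (hsup : P ⊔ Q = G) {W : Submodule k M}
    (hP : ∀ p ∈ P, ∀ w ∈ W, (p : EndM) w ∈ W) (hQ : ∀ q ∈ Q, ∀ w ∈ W, (q : EndM) w ∈ W) :
    ∀ g ∈ G, ∀ w ∈ W, (g : EndM) w ∈ W := by
  intro g hg
  rw [← hsup, ← Subgroup.closure_eq P, ← Subgroup.closure_eq Q, ← Subgroup.closure_union] at hg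
  induction hg using Subgroup.closure_induction'' with
  | mem x hx => exact hx.elim (hP x) (hQ x)
  | inv_mem x hx => exact hx.elim (fun h => hP _ (inv_mem h)) (fun h => hQ _ (inv_mem h))
  | one => simp
  | mul x y _ _ hx hy =>
    intro w hw
    rw [Units.val_mul, Module.End.mul_apply]
    exact hx _ (hy w hw)

/-- Two commuting endomorphism algebras of an irreducible central product have no zero divisors
between them. -/
theorem eq_zero_or_of_mul (hirr : Cfsg.IsIrreducibleFor G) {P Q : Subgroup GLM} (hsup : P ⊔ Q = G)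
    (hPQ : ∀ p ∈ P, ∀ q ∈ Q, p * q = q * p) {a b : EndM}
    (ha : ∀ q ∈ Q, a * (q : EndM) = (q : EndM) * a) (hb : ∀ p ∈ P, b * (p : EndM) = (p : EndM) * b)
    (hab : a * b = 0) : a = 0 ∨ b = 0 := by
  set W : Submodule k M := ⨆ q ∈ Q, (LinearMap.range b).map (q : EndM) with hW
  have hinvP : ∀ p ∈ P, ∀ w ∈ W, (p : EndM) w ∈ W := by
    intro p hp w hw
    refine Submodule.mem_comap.1 ((iSup₂_le fun q hq => ?_ : W ≤ Submodule.comap (p : EndM) W) hw)
    rintro _ ⟨_, ⟨x, rfl⟩, rfl⟩
    refine le_iSup₂_of_le (f := fun (q : GLM) (_ : q ∈ Q) => (LinearMap.range b).map (q : EndM)) q hq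
      le_rfl ⟨b ((p : EndM) x), ⟨_, rfl⟩, ?_⟩
    rw [← Module.End.mul_apply b, hb p hp, Module.End.mul_apply]
    exact LinearMap.congr_fun (commute_coe (hPQ p hp q hq)).symm (b x)
  rcases hirr.2 W (invariant_of_generators hsup hinvP mem_invariant) with h | h
  · refine Or.inr (LinearMap.ext fun m => ?_)
    have : b m ∈ W := le_iSup₂_of_le (f := fun (q : GLM) (_ : q ∈ Q) => (LinearMap.range b).map (q : EndM))
      (1 : GLM) (one_mem Q) le_rfl ⟨b m, ⟨m, rfl⟩, rfl⟩
    rw [h] at this
    exact (Submodule.mem_bot k).1 this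
  · refine Or.inl (LinearMap.ext fun m => ?_)
    have hm : m ∈ W := h ▸ Submodule.mem_top
    refine LinearMap.mem_ker.1 ((iSup₂_le fun q hq => ?_ : W ≤ LinearMap.ker a) hm)
    rintro _ ⟨_, ⟨x, rfl⟩, rfl⟩
    rw [LinearMap.mem_ker, ← Module.End.mul_apply a, ha q hq, Module.End.mul_apply,
      ← Module.End.mul_apply a, hab, LinearMap.zero_apply, map_zero]

/-- A quadratic element centralises one of two commuting factors. -/
theorem centralizes_factor (hk2 : (2 : k) ≠ 0) (hirr : Cfsg.IsIrreducibleFor G) {P Q : Subgroup GLM}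
    (hsup : P ⊔ Q = G) (hPQ : ∀ p ∈ P, ∀ q ∈ Q, p * q = q * p) {y : GLM}
    (hy : y ∈ Cfsg.quadraticElements G) :
    (∀ p ∈ P, y * p = p * y) ∨ (∀ q ∈ Q, y * q = q * y) := by
  by_contra hno
  push Not at hno
  obtain ⟨⟨p₀, hp₀, hp₀ne⟩, q₀, hq₀, hq₀ne⟩ := hno
  have hz : dev y * dev y = 0 := (quad_sq hy)
  set z := dev y with hzd
  have hnorm : ∀ {R S : Subgroup GLM}, R ⊔ S = G → (∀ r ∈ R, ∀ s ∈ S, r * s = s * r) →
      ∀ g ∈ G, ∀ r ∈ R, g * r * g⁻¹ ∈ R := by
    intro R S hRS hcom g hg r hr
    have hle : G ≤ Subgroup.normalizer (R : Set GLM) := by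
      rw [← hRS]
      exact sup_le Subgroup.le_normalizer fun s hs => Subgroup.centralizer_le_normalizer _
        (Subgroup.mem_centralizer_iff.2 fun r hr => hcom r hr s hs)
    exact (Subgroup.mem_normalizer_iff.1 (hle hg) r).1 hr
  -- derivatives commute with the opposite factor
  have key : ∀ {R S : Subgroup GLM}, R ⊔ S = G → (∀ r ∈ R, ∀ s ∈ S, r * s = s * r) →
      ∀ r ∈ R, ∀ s ∈ S, (z * dev r - dev r * z) * (s : EndM) = (s : EndM) * (z * dev r - dev r * z) ∧
        (z * dev r * z) * (s : EndM) = (s : EndM) * (z * dev r * z) := by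
    intro R S hRS hcom r hr s hs
    have hφ : ∀ c : k, conjDev (dev r) z c * (s : EndM) = (s : EndM) * conjDev (dev r) z c := by
      intro c
      have hd : dev (el z hz c * r * (el z hz c)⁻¹ : GLM) = conjDev (dev r) z c := by
        rw [dev_conj, el_val, inv_el, conjDev]
        simp only [add_mul, mul_add, mul_sub, sub_mul, one_mul, mul_one, smul_mul_assoc,
          mul_smul_comm, smul_sub, smul_smul]
        module
      rw [← hd]
      exact dev_commute_coe (hcom _ (hnorm hRS hcom _ (family_mem hy c) r hr) s hs)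
    have hr0 : dev r * (s : EndM) = (s : EndM) * dev r := dev_commute_coe (hcom r hr s hs)
    have h1 := hφ 1
    have h2 := hφ (-1)
    simp only [conjDev, add_mul, mul_add, sub_mul, mul_sub, smul_mul_assoc, mul_smul_comm,
      one_smul, neg_smul, one_mul, neg_mul, mul_neg, neg_neg, hr0] at h1 h2
    constructor
    · have e : (2 : k) • ((z * dev r - dev r * z) * (s : EndM) -
          (s : EndM) * (z * dev r - dev r * z)) = 0 := by
        simp only [sub_mul, mul_sub]
        linear_combination (norm := module) h1 - h2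
      exact sub_eq_zero.1 ((smul_eq_zero.1 e).resolve_left hk2)
    · have e : (2 : k) • ((z * dev r * z) * (s : EndM) - (s : EndM) * (z * dev r * z)) = 0 := by
        linear_combination (norm := module) -(h1 + h2)
      exact sub_eq_zero.1 ((smul_eq_zero.1 e).resolve_left hk2)
  have hQP : ∀ q ∈ Q, ∀ p ∈ P, q * p = p * q := fun q hq p hp => (hPQ p hp q hq).symm
  have hsup' : Q ⊔ P = G := by rw [sup_comm]; exact hsup
  set s := dev p₀ with hs
  set r := dev q₀ with hr
  set ws := z * s - s * z with hws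
  set wr := z * r - r * z with hwr
  have hws0 : ws ≠ 0 := fun h => hp₀ne (commute_of_zc (show zc (dev y) (dev p₀) = 0 from h))
  have hwr0 : wr ≠ 0 := fun h => hq₀ne (commute_of_zc (show zc (dev y) (dev q₀) = 0 from h))
  have hP' : ∀ p ∈ P, wr * (p : EndM) = (p : EndM) * wr ∧
      (z * r * z) * (p : EndM) = (p : EndM) * (z * r * z) := fun p hp => key hsup' hQP q₀ hq₀ p hp
  have hQ' : ∀ q ∈ Q, ws * (q : EndM) = (q : EndM) * ws ∧
      (z * s * z) * (q : EndM) = (q : EndM) * (z * s * z) := fun q hq => key hsup hPQ p₀ hp₀ q hq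
  have cs : ∀ {x : EndM}, x * (p₀ : EndM) = (p₀ : EndM) * x → x * s = s * x := fun {x} h => by
    rw [hs, dev, mul_sub, sub_mul, h, mul_one, one_mul]
  have cr : ∀ {x : EndM}, x * (q₀ : EndM) = (q₀ : EndM) * x → x * r = r * x := fun {x} h => by
    rw [hr, dev, mul_sub, sub_mul, h, mul_one, one_mul]
  have hzz : ∀ x : EndM, z * (z * x) = 0 := fun x => by rw [← mul_assoc, hz, zero_mul]
  have hpr : z * r * z = 0 := by
    have h : ws * (z * r * z) = 0 := by
      have h1 : s * z * (z * r * z) = 0 := by simp only [mul_assoc, hzz, mul_zero]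
      rw [hws, sub_mul, h1, sub_zero, mul_assoc, ← cs (hP' p₀ hp₀).2]
      simp only [mul_assoc, hzz]
    exact (eq_zero_or_of_mul hirr hsup hPQ (fun q hq => (hQ' q hq).1) (fun p hp => (hP' p hp).2) h).resolve_left hws0
  have hps : z * s * z = 0 := by
    have h : wr * (z * s * z) = 0 := by
      have h1 : r * z * (z * s * z) = 0 := by simp only [mul_assoc, hzz, mul_zero]
      rw [hwr, sub_mul, h1, sub_zero, mul_assoc, ← cr (hQ' q₀ hq₀).2]
      simp only [mul_assoc, hzz]
    exact (eq_zero_or_of_mul hirr hsup' hQP (fun p hp => (hP' p hp).1) (fun q hq => (hQ' q hq).2) h).resolve_left hwr0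
  have hzw : z * wr = 0 := by
    rw [hwr, mul_sub, ← mul_assoc, hz, zero_mul, ← mul_assoc, hpr, sub_zero]
  have h : ws * wr = 0 := by
    rw [hws, sub_mul, mul_assoc s z wr, hzw, mul_zero, sub_zero, mul_assoc, ← cs (hP' p₀ hp₀).1,
      ← mul_assoc, hzw, zero_mul]
  exact (eq_zero_or_of_mul hirr hsup hPQ (fun q hq => (hQ' q hq).1) (fun p hp => (hP' p hp).1) h).elim hws0 hwr0

variable (hk2 : ringChar k ≠ 2) (hk3 : Nat.card k ≠ 3) (hG : Cfsg.IsQuadraticPair G)
include hk2 hk3 hG

/-- When no quadratic element centralises the root group, it contains all of them. -/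
theorem quadratic_mem_root
    (hno : ∀ y ∈ Cfsg.quadraticElements G, ¬ ∀ x ∈ rootGroup G, y * x = x * y) :
    ∀ (n : ℕ) {z : EndM} (hz : z * z = 0), Module.finrank k (LinearMap.range z) ≤ n →
      (∀ c : k, el z hz c ∈ G) → ∀ c : k, el z hz c ∈ rootGroup G := by
  intro n
  induction n using Nat.strong_induction_on with
  | _ n ih =>
    intro z hz hn hf c
    rcases eq_or_ne z 0 with rfl | h0
    · rw [show el (0 : EndM) hz c = (1 : GLM) from Units.ext (by simp [el_val])]; exact one_mem _
    have h2 : (2 : k) ≠ 0 := Ring.two_ne_zero hk2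
    obtain ⟨σ, hσ, hne⟩ : ∃ σ ∈ Cfsg.minimalQuadraticElements G, zc z (dev σ) ≠ 0 := by
      by_contra hall
      push Not at hall
      have hd : dev (el z hz 1 : GLM) = z := by rw [dev_el, one_smul]
      refine hno _ (quadratic_el hz h0 hf) fun x hx => ?_
      have hle : rootGroup G ≤ Subgroup.centralizer ({el z hz 1} : Set GLM) := by
        refine iSup₂_le ?_
        rintro _ ⟨σ, -, rfl⟩
        rw [Cfsg.sameActionSubgroup, Subgroup.closure_le]
        intro a ha
        exact Subgroup.mem_centralizer_singleton_iff.2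
          (commute_of_zc (by rw [hd]; exact hall a ha.1)).symm
      exact (Subgroup.mem_centralizer_singleton_iff.1 (hle hx)).symm
    have hcl : ∀ ρ ∈ Cfsg.minimalQuadraticElements G, IsRootClass G ρ :=
      fun _ h => rootClass hk2 hk3 hG h
    have hred : Reduces G z hz := by
      by_cases hq : dev σ * z * dev σ = 0
      · exact reduce_zero h2 hk3 hcl hG hz hf hσ hne hq
      · exact reduce_nonzero h2 hk3 hz hf (hcl σ hσ) hq
    obtain ⟨z', hz', hlt, hh⟩ := hred
    have hf' : ∀ d : k, el z' hz' d ∈ G := fun d => by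
      obtain ⟨h, hh', e⟩ := hh d
      rw [eq_inv_mul_of_mul_eq e.symm]
      exact mul_mem (inv_mem (rootGroup_le hh')) (hf d)
    obtain ⟨h, hh', e⟩ := hh c
    rw [e]
    exact mul_mem hh' (ih _ (by omega) hz' le_rfl hf' c)

omit hk2 hk3 hG

/-- Restriction of a group of automorphisms to an invariant subspace. -/
def restrictHom (X : Subgroup (LinearMap.GeneralLinearGroup k M)) (U : Submodule k M)
    (hU : ∀ x ∈ X, ∀ u ∈ U, (x : M →ₗ[k] M) u ∈ U) :
    X →* LinearMap.GeneralLinearGroup k U :=
  MonoidHom.toHomUnits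
    { toFun := fun x => ((x : LinearMap.GeneralLinearGroup k M) : M →ₗ[k] M).restrict (fun u hu => hU x x.2 u hu)
      map_one' := LinearMap.ext fun u => Subtype.ext rfl
      map_mul' := fun x y => LinearMap.ext fun u => Subtype.ext rfl }

theorem restrictHom_val {X : Subgroup GLM} {U : Submodule k M}
    (hU : ∀ x ∈ X, ∀ u ∈ U, (x : EndM) u ∈ U) (x : X) (u : U) :
    ((((restrictHom X U hU x : LinearMap.GeneralLinearGroup k U) : U →ₗ[k] U) u : U) : M) =
      ((x : GLM) : EndM) u := rfl

theorem dev_restrictHom {X : Subgroup GLM} {U : Submodule k M}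
    (hU : ∀ x ∈ X, ∀ u ∈ U, (x : EndM) u ∈ U) (x : X) (u : U) :
    ((dev (restrictHom X U hU x) u : U) : M) = dev (x : GLM) u := by
  rw [dev_apply, dev_apply, Submodule.coe_sub, restrictHom_val]

include hk2 hk3 hG in
omit hk2 hk3 in
/-- A commuting factor generated by quadratic elements behaves like a smaller quadratic pair. -/
theorem factor_decomp {X Y : Subgroup GLM} (hsup : X ⊔ Y = G)
    (hXY : ∀ x ∈ X, ∀ y ∈ Y, x * y = y * x)
    (hgen : Subgroup.closure (Cfsg.quadraticElements G ∩ (X : Set GLM)) = X)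
    (hfam : ∀ y ∈ Cfsg.quadraticElements G, y ∈ X → ∀ u ∈ Cfsg.scalarFamily y, u ∈ X)
    (hY : ∃ y ∈ Cfsg.quadraticElements G, y ∈ Y)
    (ih : ∀ (U : Submodule k M), Module.finrank k U < Module.finrank k M →
      ∀ H : Subgroup (LinearMap.GeneralLinearGroup k U), Cfsg.IsQuadraticPair H → HasDecomp H) :
    ∃ (s : ℕ) (Gi : Fin s → Subgroup GLM),
      (∀ i j, i ≠ j → ⁅Gi i, Gi j⁆ = ⊥) ∧ (⨆ i, Gi i) = X ∧
      (∀ i, Cfsg.IsQuasisimple ↥(Gi i) ∧
        Subgroup.closure (Cfsg.quadraticElements G ∩ (Gi i : Set GLM)) = Gi i) ∧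
      Cfsg.quadraticElements G ∩ (X : Set GLM) ⊆ ⋃ i, (Gi i : Set GLM) := by
  classical
  obtain ⟨m₀, hm₀⟩ := hG.1.1
  set S : Set (Submodule k M) := {U | U ≠ ⊥ ∧ ∀ x ∈ X, ∀ u ∈ U, (x : EndM) u ∈ U} with hS
  obtain ⟨U, ⟨hU0, hU⟩, hmin⟩ := wellFounded_lt.has_min S
    ⟨⊤, fun h => hm₀ ((Submodule.mem_bot k).1 (h ▸ Submodule.mem_top : m₀ ∈ (⊥ : Submodule k M))),
      fun _ _ _ _ => Submodule.mem_top⟩
  -- extension from `U`
  have hext : ∀ {a : EndM}, (∀ y ∈ Y, a * (y : EndM) = (y : EndM) * a) → (∀ u ∈ U, a u = 0) → a = 0 := by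
    intro a ha h0
    set W : Submodule k M := ⨆ y ∈ Y, U.map (y : EndM) with hW
    have hinv := invariant_of_generators (W := W) hsup
      (fun x hx w hw => by
        refine Submodule.mem_comap.1 ((iSup₂_le fun y hy => ?_ : W ≤ Submodule.comap (x : EndM) W) hw)
        rintro _ ⟨u, hu, rfl⟩
        refine le_iSup₂_of_le (f := fun (y : GLM) (_ : y ∈ Y) => U.map (y : EndM)) y hy le_rfl
          ⟨(x : EndM) u, hU x hx u hu, ?_⟩
        exact LinearMap.congr_fun (commute_coe (hXY x hx y hy)).symm u)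
      (fun y hy w hw => by
        refine Submodule.mem_comap.1 ((iSup₂_le fun y' hy' => ?_ : W ≤ Submodule.comap (y : EndM) W) hw)
        rintro _ ⟨u, hu, rfl⟩
        exact le_iSup₂_of_le (f := fun (y : GLM) (_ : y ∈ Y) => U.map (y : EndM)) (y * y')
          (mul_mem hy hy') le_rfl ⟨u, hu, rfl⟩)
    rcases hG.1.2 W hinv with h | h
    · refine absurd (eq_bot_iff.2 fun u hu => ?_) hU0
      rw [← h]
      exact le_iSup₂_of_le (f := fun (y : GLM) (_ : y ∈ Y) => U.map (y : EndM)) 1 (one_mem Y) le_rfl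
        ⟨u, hu, rfl⟩
    · refine LinearMap.ext fun m => ?_
      have hm : m ∈ W := h ▸ Submodule.mem_top
      refine LinearMap.mem_ker.1 ((iSup₂_le fun y hy => ?_ : W ≤ LinearMap.ker a) hm)
      rintro _ ⟨u, hu, rfl⟩
      rw [LinearMap.mem_ker, ← Module.End.mul_apply a, ha y hy, Module.End.mul_apply, h0 u hu, map_zero]
  have hlt : Module.finrank k U < Module.finrank k M := by
    refine Submodule.finrank_lt fun htop => ?_
    obtain ⟨y, hyq, hyY⟩ := hY
    have hz : dev y * dev y = 0 := (quad_sq hyq)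
    have hker : LinearMap.ker (dev y) ∈ S := by
      refine ⟨fun h => hyq.2.1.2 (LinearMap.ext fun m => ?_), fun x hx u hu => ?_⟩
      · have hm : dev y m ∈ LinearMap.ker (dev y) := LinearMap.congr_fun hz m
        rw [h] at hm
        exact (Submodule.mem_bot k).1 hm
      · rw [LinearMap.mem_ker, ← Module.End.mul_apply, dev_commute_coe (hXY x hx y hyY).symm,
          Module.End.mul_apply, LinearMap.mem_ker.1 hu, map_zero]
    refine hmin _ hker ?_
    rw [htop, lt_top_iff_ne_top]
    exact fun h => hyq.2.1.2 (LinearMap.ker_eq_top.1 h)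
  set ρ := restrictHom X U hU with hρ
  have hdevY : ∀ (x : X), ∀ y ∈ Y, dev (x : GLM) * (y : EndM) = (y : EndM) * dev (x : GLM) :=
    fun x y hy => dev_commute_coe (hXY x x.2 y hy)
  have hinj : Function.Injective ρ := by
    rw [injective_iff_map_eq_one]
    intro x hx
    refine Subtype.ext (dev_eq_zero (hext (hdevY x) fun u hu => ?_))
    have := dev_restrictHom hU x ⟨u, hu⟩
    rw [← hρ, hx, dev_one, LinearMap.zero_apply, Submodule.coe_zero] at this
    exact this.symm
  set H := ρ.range with hH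
  -- quadratic elements correspond
  have hto : ∀ x : X, (x : GLM) ∈ Cfsg.quadraticElements G → ρ x ∈ Cfsg.quadraticElements H := by
    intro x hx
    refine mem_quadratic ⟨x, rfl⟩ (LinearMap.ext fun u => Subtype.ext ?_) (fun h => ?_) fun c => ?_
    · rw [Module.End.mul_apply, dev_restrictHom, dev_restrictHom]
      exact LinearMap.congr_fun (quad_sq hx) (u : M)
    · refine hx.2.1.2 (hext (hdevY x) fun u hu => ?_)
      have := dev_restrictHom hU x ⟨u, hu⟩
      rw [← hρ, h, LinearMap.zero_apply, Submodule.coe_zero] at this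
      exact this.symm
    · refine ⟨ρ ⟨el (dev (x : GLM)) (quad_sq hx) c, hfam _ hx x.2 _ ⟨c, rfl⟩⟩, ⟨_, rfl⟩,
        LinearMap.ext fun u => Subtype.ext ?_⟩
      rw [dev_restrictHom, LinearMap.smul_apply, Submodule.coe_smul, dev_restrictHom, dev_el,
        LinearMap.smul_apply]
  have hfrom : ∀ x : X, ρ x ∈ Cfsg.quadraticElements H → (x : GLM) ∈ Cfsg.quadraticElements G := by
    intro x hx
    have hXG : X ≤ G := hsup ▸ le_sup_left
    refine mem_quadratic (hXG x.2) (hext (fun y hy => by
      rw [mul_assoc, hdevY x y hy, ← mul_assoc, hdevY x y hy, mul_assoc]) fun u hu => ?_)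
      (fun h => hx.2.1.2 (LinearMap.ext fun u => Subtype.ext ?_)) fun c => ?_
    · have := LinearMap.congr_fun (quad_sq hx) ⟨u, hu⟩
      have h' := congrArg Subtype.val this
      change ((dev (ρ x) (dev (ρ x) ⟨u, hu⟩) : U) : M) = 0 at h'
      rw [dev_restrictHom, dev_restrictHom] at h'
      exact h'
    · show ((dev (ρ x) u : U) : M) = 0
      rw [dev_restrictHom, h]; rfl
    · obtain ⟨x', hx'⟩ := family_mem hx c
      refine ⟨x', hXG x'.2, sub_eq_zero.1 (hext (fun y hy => ?_) fun u hu => ?_)⟩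
      · rw [sub_mul, mul_sub, hdevY x' y hy, smul_mul_assoc, mul_smul_comm, hdevY x y hy]
      · rw [LinearMap.sub_apply, LinearMap.smul_apply, ← dev_restrictHom hU x' ⟨u, hu⟩,
          ← dev_restrictHom hU x ⟨u, hu⟩, ← hρ, hx', dev_el]
        simp
  have hHpair : Cfsg.IsQuadraticPair H := by
    refine ⟨⟨?_, fun W hW => ?_⟩, le_antisymm ((Subgroup.closure_le H).2 fun _ h => h.1) ?_⟩
    · obtain ⟨u, hu, hu0⟩ := U.exists_mem_ne_zero_of_ne_bot hU0
      exact ⟨⟨u, hu⟩, fun h => hu0 (congrArg Subtype.val h)⟩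
    · by_contra hno
      push Not at hno
      obtain ⟨hb, ht⟩ := hno
      refine hmin (W.map U.subtype) ⟨fun h => hb ?_, ?_⟩ ?_
      · exact Submodule.map_injective_of_injective Subtype.val_injective (h.trans (Submodule.map_bot _).symm)
      · rintro x hx _ ⟨u, hu, rfl⟩
        exact ⟨_, hW _ ⟨⟨x, hx⟩, rfl⟩ u hu, rfl⟩
      · refine lt_of_le_of_ne (Submodule.map_subtype_le U W) fun h => ht ?_
        exact Submodule.map_injective_of_injective Subtype.val_injective
          (h.trans (Submodule.map_subtype_top U).symm)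
    · rintro _ ⟨⟨x, hx⟩, rfl⟩
      have hle : (Subgroup.closure (Cfsg.quadraticElements G ∩ (X : Set GLM))).subgroupOf X ≤
          (Subgroup.closure (Cfsg.quadraticElements H)).comap ρ := by
        intro a ha
        have hmain : ∀ b (hb : b ∈ X), b ∈ Subgroup.closure (Cfsg.quadraticElements G ∩ (X : Set GLM)) →
            ρ ⟨b, hb⟩ ∈ Subgroup.closure (Cfsg.quadraticElements H) := by
          intro b hb hbc
          induction hbc using Subgroup.closure_induction with
          | mem c hc => exact Subgroup.subset_closure (hto ⟨c, hc.2⟩ hc.1)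
          | one => exact (map_one ρ).symm ▸ one_mem _
          | mul c d hc hd ihc ihd =>
            have hcX : c ∈ X := hgen ▸ hc
            have hdX : d ∈ X := hgen ▸ hd
            rw [show (⟨c * d, hb⟩ : X) = ⟨c, hcX⟩ * ⟨d, hdX⟩ from rfl, map_mul]
            exact mul_mem (ihc hcX) (ihd hdX)
          | inv c hc ihc =>
            have hcX : c ∈ X := hgen ▸ hc
            rw [show (⟨c⁻¹, hb⟩ : X) = ⟨c, hcX⟩⁻¹ from rfl, map_inv]
            exact inv_mem (ihc hcX)
        exact hmain a.1 a.2 (Subgroup.mem_subgroupOf.1 ha)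
      exact hle (x := ⟨x, hx⟩) (Subgroup.mem_subgroupOf.2 (hgen.symm ▸ hx))
  obtain ⟨s, Li, hcom, hsupL, hq, hcov⟩ := ih U hlt H hHpair
  let e : X ≃* H := MonoidHom.ofInjective hinj
  let ψ : H →* GLM := X.subtype.comp e.symm.toMonoidHom
  have hψ : Function.Injective ψ := X.subtype_injective.comp e.symm.injective
  have he : ∀ h : H, ρ (e.symm h) = h.1 := fun h => congrArg Subtype.val (e.apply_symm_apply h)
  have hLH : ∀ i, Li i ≤ H := fun i => hsupL ▸ le_iSup Li i
  refine ⟨s, fun i => ((Li i).subgroupOf H).map ψ, fun i j hij => ?_, ?_, fun i => ⟨?_, ?_⟩, ?_⟩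
  · rw [← Subgroup.map_commutator, subgroupOf_comm_bot (hcom i j hij), Subgroup.map_bot]
  · rw [← Subgroup.map_iSup]
    have htop : (⨆ i, (Li i).subgroupOf H) = ⊤ := by
      apply Subgroup.map_injective H.subtype_injective
      rw [Subgroup.map_iSup, ← MonoidHom.range_eq_map, Subgroup.range_subtype]
      simp only [fun i => map_subgroupOf' (hLH i)]
      exact hsupL
    rw [htop, ← MonoidHom.range_eq_map]
    ext x
    constructor
    · rintro ⟨h, rfl⟩; exact (e.symm h).2
    · intro hx
      exact ⟨e ⟨x, hx⟩, congrArg Subtype.val (e.symm_apply_apply _)⟩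
  · exact (Components.quasisimple_congr
      ((Subgroup.subgroupOfEquivOfLe (hLH i)).symm.trans (Subgroup.equivMapOfInjective _ ψ hψ))).1 (hq i).1
  · refine le_antisymm ((Subgroup.closure_le _).2 Set.inter_subset_right) ?_
    have h0 : (Li i).subgroupOf H ≤
        (Subgroup.closure (Cfsg.quadraticElements G ∩ ((((Li i).subgroupOf H).map ψ : Subgroup GLM) : Set GLM))).comap ψ := by
      intro h hh
      have hmain : ∀ b (hb : b ∈ H), b ∈ Subgroup.closure (Cfsg.quadraticElements H ∩
          (Li i : Set (LinearMap.GeneralLinearGroup k U))) →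
          ψ ⟨b, hb⟩ ∈ Subgroup.closure (Cfsg.quadraticElements G ∩ ((((Li i).subgroupOf H).map ψ : Subgroup GLM) : Set GLM)) := by
        intro b hb hbc
        induction hbc using Subgroup.closure_induction with
        | mem c hc =>
          refine Subgroup.subset_closure ⟨hfrom (e.symm ⟨c, hb⟩) ?_, ⟨c, hb⟩, hc.2, rfl⟩
          rw [he]; exact hc.1
        | one => exact (map_one ψ).symm ▸ one_mem _
        | mul c d hc hd ihc ihd =>
          have hcH : c ∈ H := hLH i ((hq i).2 ▸ hc)
          have hdH : d ∈ H := hLH i ((hq i).2 ▸ hd)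
          rw [show (⟨c * d, hb⟩ : H) = ⟨c, hcH⟩ * ⟨d, hdH⟩ from rfl, map_mul]
          exact mul_mem (ihc hcH) (ihd hdH)
        | inv c hc ihc =>
          have hcH : c ∈ H := hLH i ((hq i).2 ▸ hc)
          rw [show (⟨c⁻¹, hb⟩ : H) = ⟨c, hcH⟩⁻¹ from rfl, map_inv]
          exact inv_mem (ihc hcH)
      exact hmain h.1 h.2 ((hq i).2.symm ▸ Subgroup.mem_subgroupOf.1 hh)
    exact Subgroup.map_le_iff_le_comap.2 h0
  · rintro y ⟨hy, hyX⟩
    have hqy := hto ⟨y, hyX⟩ hy
    obtain ⟨i, hi⟩ := Set.mem_iUnion.1 (hcov hqy)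
    refine Set.mem_iUnion.2 ⟨i, ⟨ρ ⟨y, hyX⟩, ⟨_, rfl⟩⟩, hi, ?_⟩
    show ((e.symm ⟨ρ ⟨y, hyX⟩, _⟩ : X) : GLM) = y
    exact congrArg Subtype.val (hinj (show ρ (e.symm ⟨ρ ⟨y, hyX⟩, _⟩) = ρ ⟨y, hyX⟩ from he _))

theorem hasDecomp_empty (hG : Cfsg.IsQuadraticPair G) (h : Cfsg.quadraticElements G = ∅) :
    HasDecomp G := by
  refine ⟨0, fun i => i.elim0, fun i => i.elim0, ?_, fun i => i.elim0, by rw [h]; exact Set.empty_subset _⟩
  have h2 := hG.2
  rw [h, Subgroup.closure_empty] at h2
  rw [iSup_of_empty, h2]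

/-- The decomposition exists. -/
theorem hasDecomp (hk2 : ringChar k ≠ 2) (hk3 : Nat.card k ≠ 3) :
    ∀ (n : ℕ) {V : Type v} [AddCommGroup V] [Module k V] [FiniteDimensional k V],
      Module.finrank k V = n → ∀ G : Subgroup (LinearMap.GeneralLinearGroup k V),
        Cfsg.IsQuadraticPair G → HasDecomp G := by
  intro n
  induction n using Nat.strong_induction_on with
  | _ n ih =>
    intro V _ _ _ hn G hG
    classical
    by_cases hne : Cfsg.quadraticElements G = ∅
    · exact hasDecomp_empty hG hne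
    obtain ⟨y₁, hy₁⟩ := Set.nonempty_iff_ne_empty.2 hne
    obtain ⟨σ, hσ⟩ : (Cfsg.minimalQuadraticElements G).Nonempty := by
      have hex : ∃ d, ∃ y ∈ Cfsg.quadraticElements G, Cfsg.commutatorRank y = d := ⟨_, y₁, hy₁, rfl⟩
      obtain ⟨y, hy, hd⟩ := Nat.find_spec hex
      exact ⟨y, hy, fun x hx => hd.le.trans (Nat.find_min' hex ⟨x, hx, rfl⟩)⟩
    have hk : (2 : k) ≠ 0 := Ring.two_ne_zero hk2
    have hcl : ∀ ρ ∈ Cfsg.minimalQuadraticElements G, IsRootClass G ρ :=
      fun _ h => rootClass hk2 hk3 hG h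
    set A := Cfsg.sameActionSubgroup G σ with hAd
    have hA : A ∈ Cfsg.quadraticRootSubgroups G := ⟨σ, hσ, rfl⟩
    set P := compGroup G A with hP
    set Q := (⨆ B ∈ {B | B ∈ Cfsg.quadraticRootSubgroups G ∧ B ∉ comp G A}, B) ⊔
      (G ⊓ Subgroup.centralizer (rootGroup G : Set (LinearMap.GeneralLinearGroup k V))) with hQ
    have hPQ : ∀ p ∈ P, ∀ q ∈ Q, p * q = q * p := by
      have h : P ≤ Subgroup.centralizer (Q : Set (LinearMap.GeneralLinearGroup k V)) := by
        refine iSup₂_le fun B hB => Subgroup.le_centralizer_iff.1 (sup_le (iSup₂_le fun C hC => ?_) ?_)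
        · exact le_centralizer_of_ne hk2 hk3 hG hC.1 hB hC.2
        · refine Subgroup.le_centralizer_iff.1 ?_
          intro b hb
          refine Subgroup.mem_centralizer_iff.2 fun c hc => ?_
          exact (Subgroup.mem_centralizer_iff.1 hc.2 b
            (le_iSup₂_of_le (f := fun (B : Subgroup (LinearMap.GeneralLinearGroup k V))
              (_ : B ∈ Cfsg.quadraticRootSubgroups G) => B) B hB.1 le_rfl hb)).symm
      exact fun p hp q hq => (Subgroup.mem_centralizer_iff.1 (h hp) q hq).symm
    have hPG : P ≤ G := iSup₂_le fun B hB => by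
      obtain ⟨τ, -, rfl⟩ := hB.1
      exact sameAction_le_G G τ
    have hQG : Q ≤ G := sup_le (iSup₂_le fun B hB => by
      obtain ⟨τ, -, rfl⟩ := hB.1
      exact sameAction_le_G G τ) inf_le_left
    have hroot : rootGroup G ≤ P ⊔ Q := iSup₂_le fun B hB => by
      by_cases hBc : B ∈ comp G A
      · exact (le_compGroup hBc).trans le_sup_left
      · exact (le_iSup₂_of_le (f := fun (B : Subgroup (LinearMap.GeneralLinearGroup k V))
          (_ : B ∈ {B | B ∈ Cfsg.quadraticRootSubgroups G ∧ B ∉ comp G A}) => B) B ⟨hB, hBc⟩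
          le_rfl).trans (le_sup_left.trans le_sup_right)
    have hsup : P ⊔ Q = G := by
      refine le_antisymm (sup_le hPG hQG) ?_
      conv_lhs => rw [← group_eq hk hk3 hcl hG]
      exact sup_le hroot (le_sup_right.trans le_sup_right)
    have hirr := hG.1
    have notboth : ∀ {y}, y ∈ Cfsg.quadraticElements G → (∀ p ∈ P, y * p = p * y) →
        (∀ q ∈ Q, y * q = q * y) → False := by
      intro y hy h1 h2
      refine hy.2.1.2 (eq_zero_of_central hirr (quad_sq hy) fun g hg => dev_commute_coe ?_)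
      rw [← hsup] at hg
      have hle : P ⊔ Q ≤ Subgroup.centralizer ({y} : Set (LinearMap.GeneralLinearGroup k V)) :=
        sup_le (fun p hp => Subgroup.mem_centralizer_singleton_iff.2 (h1 p hp).symm)
          (fun q hq => Subgroup.mem_centralizer_singleton_iff.2 (h2 q hq).symm)
      exact (Subgroup.mem_centralizer_singleton_iff.1 (hle hg)).symm
    have hσP : σ ∈ P := le_compGroup (mem_comp_self hA) (Subgroup.subset_closure (class_self hσ))
    by_cases hall : ∀ y ∈ Cfsg.quadraticElements G, ∀ q ∈ Q, y * q = q * y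
    · have hrootP : rootGroup G ≤ P := iSup₂_le fun B hB => by
        by_cases hBc : B ∈ comp G A
        · exact le_compGroup hBc
        · obtain ⟨τ, hτ, rfl⟩ := hB
          exfalso
          have hτQ : τ ∈ Q := Subgroup.mem_sup_left (le_iSup₂_of_le (f := fun (B : Subgroup (LinearMap.GeneralLinearGroup k V))
            (_ : B ∈ {B | B ∈ Cfsg.quadraticRootSubgroups G ∧ B ∉ comp G A}) => B) _
            ⟨⟨τ, hτ, rfl⟩, hBc⟩ le_rfl (Subgroup.subset_closure (class_self hτ)))
          exact notboth hτ.1 (fun p hp => (hPQ p hp τ hτQ).symm) (hall τ hτ.1)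
      have hGP : G = P := by
        refine le_antisymm ?_ hPG
        conv_lhs => rw [← hG.2]
        refine (Subgroup.closure_le P).2 fun y hy => hrootP ?_
        have h := quadratic_mem_root hk2 hk3 hG (fun x hx h => notboth hx
          (fun p hp => h p (((iSup₂_le fun B hB => le_iSup₂_of_le (f := fun (B : Subgroup (LinearMap.GeneralLinearGroup k V))
            (_ : B ∈ Cfsg.quadraticRootSubgroups G) => B) B hB.1 le_rfl) : P ≤ rootGroup G) hp))
          (hall x hx)) _ (quad_sq hy) le_rfl (family_mem hy) 1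
        rwa [el_one' hy] at h
      refine ⟨1, fun _ => P, fun i j hij => absurd (Subsingleton.elim i j) hij, by rw [iSup_const, hGP],
        fun _ => ⟨(compGroup_quasisimple hk2 hk3 hG hA).1, ?_⟩, fun y hy => Set.mem_iUnion.2 ⟨0, ?_⟩⟩
      · rw [← hGP, Set.inter_eq_left.2 fun y hy => hy.1]; exact hG.2
      · show y ∈ P
        rw [← hGP]; exact hy.1
    push Not at hall
    obtain ⟨y₂, hy₂, q₂, hq₂, hne₂⟩ := hall
    set SX : Set (LinearMap.GeneralLinearGroup k V) :=
      {y | y ∈ Cfsg.quadraticElements G ∧ ∀ q ∈ Q, y * q = q * y} with hSX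
    set SY : Set (LinearMap.GeneralLinearGroup k V) :=
      {y | y ∈ Cfsg.quadraticElements G ∧ ∀ p ∈ P, y * p = p * y} with hSY
    set X := Subgroup.closure SX with hX
    set Y := Subgroup.closure SY with hY
    have hXc : X ≤ Subgroup.centralizer (Q : Set (LinearMap.GeneralLinearGroup k V)) :=
      (Subgroup.closure_le _).2 fun y hy => Subgroup.mem_centralizer_iff.2 fun q hq => (hy.2 q hq).symm
    have hYc : Y ≤ Subgroup.centralizer (P : Set (LinearMap.GeneralLinearGroup k V)) :=
      (Subgroup.closure_le _).2 fun y hy => Subgroup.mem_centralizer_iff.2 fun q hq => (hy.2 q hq).symm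
    have hXG : X ≤ G := (Subgroup.closure_le _).2 fun _ h => h.1.1
    have hXY : ∀ x ∈ X, ∀ y ∈ Y, x * y = y * x := by
      have h : X ≤ Subgroup.centralizer (Y : Set (LinearMap.GeneralLinearGroup k V)) := by
        refine (Subgroup.closure_le _).2 fun x hx => ?_
        refine Subgroup.mem_centralizer_iff.2 fun y hy => ?_
        have hyG : y ∈ G := ((Subgroup.closure_le G).2 fun _ h => h.1.1 : Y ≤ G) hy
        obtain ⟨p, hp, q, hq, rfl⟩ : ∃ p ∈ P, ∃ q ∈ Q, p * q = y := by
          have h2 : y ∈ P ⊔ Q := hsup.symm ▸ hyG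
          have hn : Q ≤ Subgroup.normalizer (P : Set (LinearMap.GeneralLinearGroup k V)) := fun q hq =>
            Subgroup.centralizer_le_normalizer _
              (Subgroup.mem_centralizer_iff.2 fun p hp => hPQ p hp q hq)
          obtain ⟨p, hp, q, hq, e⟩ : (y : LinearMap.GeneralLinearGroup k V) ∈
              ((P : Set (LinearMap.GeneralLinearGroup k V)) * (Q : Set (LinearMap.GeneralLinearGroup k V))) := by
            rw [← Subgroup.coe_mul_of_right_le_normalizer_left P Q hn]; exact h2
          exact ⟨p, hp, q, hq, e⟩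
        -- `p` is central
        have hpc : ∀ p' ∈ P, p * p' = p' * p := fun p' hp' => by
          have h3 := (Subgroup.mem_centralizer_iff.1 (hYc hy) p' hp').symm
          calc p * p' = p * q * p' * q⁻¹ := by
                rw [mul_assoc p q, ← hPQ p' hp' q hq]; group
            _ = p' * (p * q) * q⁻¹ := by rw [h3]
            _ = p' * p := by group
        have hxp : x * p = p * x := by
          have hpC : G ≤ Subgroup.centralizer ({p} : Set (LinearMap.GeneralLinearGroup k V)) := by
            rw [← hsup]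
            exact sup_le (fun a ha => Subgroup.mem_centralizer_singleton_iff.2 (hpc a ha).symm)
              (fun a ha => Subgroup.mem_centralizer_singleton_iff.2 (hPQ p hp a ha).symm)
          exact Subgroup.mem_centralizer_singleton_iff.1 (hpC hx.1.1)
        rw [← mul_assoc x p q, hxp, mul_assoc, mul_assoc, hx.2 q hq]
      exact fun x hx y hy => (Subgroup.mem_centralizer_iff.1 (h hx) y hy).symm
    have hsplit : ∀ y ∈ Cfsg.quadraticElements G, y ∈ SX ∨ y ∈ SY := fun y hy =>
      (centralizes_factor hk hirr hsup hPQ hy).elim (fun h => Or.inr ⟨hy, h⟩) (fun h => Or.inl ⟨hy, h⟩)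
    have hXYsup : X ⊔ Y = G := by
      refine le_antisymm (sup_le hXG ((Subgroup.closure_le _).2 fun _ h => h.1.1)) ?_
      conv_lhs => rw [← hG.2]
      exact (Subgroup.closure_le _).2 fun y hy => (hsplit y hy).elim
        (fun h => Subgroup.mem_sup_left (Subgroup.subset_closure h))
        (fun h => Subgroup.mem_sup_right (Subgroup.subset_closure h))
    have hfamgen : ∀ {R : Subgroup (LinearMap.GeneralLinearGroup k V)},
        ∀ y ∈ Cfsg.quadraticElements G, y ∈ Subgroup.closure {x | x ∈ Cfsg.quadraticElements G ∧ ∀ r ∈ R, x * r = r * x} →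
          ∀ u ∈ Cfsg.scalarFamily y, u ∈ Subgroup.closure {x | x ∈ Cfsg.quadraticElements G ∧ ∀ r ∈ R, x * r = r * x} := by
      rintro R y hy hyc u ⟨c, hu⟩
      have hz : dev y * dev y = 0 := (quad_sq hy)
      have hdu : dev u = c • dev y := by
        rw [dev, hu, add_sub_cancel_left]; rfl
      rcases eq_or_ne c 0 with rfl | hc
      · rw [zero_smul] at hdu
        rw [dev_eq_zero hdu]; exact one_mem _
      refine Subgroup.subset_closure ⟨?_, fun r hr => commute_of_zc ?_⟩
      · refine mem_quadratic (hy.2.2 ⟨c, hu⟩) (by rw [hdu, smul_mul_smul_comm, hz, smul_zero])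
          (by rw [hdu]; exact smul_ne_zero hc hy.2.1.2) fun d => ⟨_, family_mem hy (d * c), ?_⟩
        rw [dev_el, hdu, smul_smul]
      · have hyR : y * r = r * y := by
          have hle : Subgroup.closure {x | x ∈ Cfsg.quadraticElements G ∧ ∀ r ∈ R, x * r = r * x} ≤
              Subgroup.centralizer (R : Set (LinearMap.GeneralLinearGroup k V)) :=
            (Subgroup.closure_le _).2 fun x hx => Subgroup.mem_centralizer_iff.2 fun r hr => (hx.2 r hr).symm
          exact (Subgroup.mem_centralizer_iff.1 (hle hyc) r hr).symm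
        rw [hdu, zc, smul_mul_assoc, mul_smul_comm, ← smul_sub,
          show dev y * dev r - dev r * dev y = 0 from zc_of_commute hyR, smul_zero]
    have hgenX : Subgroup.closure (Cfsg.quadraticElements G ∩ (X : Set (LinearMap.GeneralLinearGroup k V))) = X :=
      le_antisymm ((Subgroup.closure_le _).2 Set.inter_subset_right)
        ((Subgroup.closure_le _).2 fun y hy => Subgroup.subset_closure ⟨hy.1, Subgroup.subset_closure hy⟩)
    have hgenY : Subgroup.closure (Cfsg.quadraticElements G ∩ (Y : Set (LinearMap.GeneralLinearGroup k V))) = Y :=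
      le_antisymm ((Subgroup.closure_le _).2 Set.inter_subset_right)
        ((Subgroup.closure_le _).2 fun y hy => Subgroup.subset_closure ⟨hy.1, Subgroup.subset_closure hy⟩)
    have hy₂Y : y₂ ∈ Y := by
      refine Subgroup.subset_closure ((hsplit y₂ hy₂).resolve_left fun h => hne₂ (h.2 q₂ hq₂))
    have hσX : σ ∈ X := Subgroup.subset_closure ⟨hσ.1, fun q hq => hPQ σ hσP q hq⟩
    obtain ⟨a, LX, cX, sX, qX, covX⟩ := factor_decomp hG hXYsup hXY hgenX
      (hfamgen (R := Q)) ⟨y₂, hy₂, hy₂Y⟩ fun U hU H hH => ih _ (hn ▸ hU) rfl H hH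
    obtain ⟨b, LY, cY, sY, qY, covY⟩ := factor_decomp hG (X := Y) (Y := X) (by rw [sup_comm]; exact hXYsup)
      (fun y hy x hx => (hXY x hx y hy).symm) hgenY (hfamgen (R := P)) ⟨σ, hσ.1, hσX⟩
      fun U hU H hH => ih _ (hn ▸ hU) rfl H hH
    refine ⟨a + b, Fin.append LX LY, ?_, ?_, ?_, ?_⟩
    · have hcross : ∀ i j, ⁅LX i, LY j⁆ = ⊥ := fun i j => comm_bot_of_forall fun x hx y hy =>
        hXY x (sX ▸ le_iSup LX i hx) y (sY ▸ le_iSup LY j hy)
      intro i j hij
      induction i using Fin.addCases with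
      | left i =>
        induction j using Fin.addCases with
        | left j => rw [Fin.append_left, Fin.append_left]; exact cX i j fun h => hij (by rw [h])
        | right j => rw [Fin.append_left, Fin.append_right]; exact hcross i j
      | right i =>
        induction j using Fin.addCases with
        | left j => rw [Fin.append_right, Fin.append_left, Subgroup.commutator_comm]; exact hcross j i
        | right j => rw [Fin.append_right, Fin.append_right]; exact cY i j fun h => hij (by rw [h])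
    · refine le_antisymm (iSup_le fun i => ?_) ?_
      · induction i using Fin.addCases with
        | left i => rw [Fin.append_left, ← hXYsup]; exact (le_iSup LX i).trans (sX.le.trans le_sup_left)
        | right i => rw [Fin.append_right, ← hXYsup]; exact (le_iSup LY i).trans (sY.le.trans le_sup_right)
      · rw [← hXYsup, ← sX, ← sY]
        refine sup_le (iSup_le fun i => ?_) (iSup_le fun i => ?_)
        · exact le_iSup_of_le (Fin.castAdd b i) (by rw [Fin.append_left])
        · exact le_iSup_of_le (Fin.natAdd a i) (by rw [Fin.append_right])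
    · intro i
      induction i using Fin.addCases with
      | left i => rw [Fin.append_left]; exact qX i
      | right i => rw [Fin.append_right]; exact qY i
    · intro y hy
      rcases hsplit y hy with h | h
      · obtain ⟨i, hi⟩ := Set.mem_iUnion.1 (covX ⟨hy, Subgroup.subset_closure h⟩)
        exact Set.mem_iUnion.2 ⟨Fin.castAdd b i, by rw [Fin.append_left]; exact hi⟩
      · obtain ⟨i, hi⟩ := Set.mem_iUnion.1 (covY ⟨hy, Subgroup.subset_closure h⟩)
        exact Set.mem_iUnion.2 ⟨Fin.natAdd a i, by rw [Fin.append_right]; exact hi⟩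

end Cfsg.Agent.QuadPair
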