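import Cfsg.Agent.Lib.QuadPair.Basic

/-!
Two quadratic elements of least rank with nilpotent `st + ts`: then `sts = tst = 0`. Consequently
two classes of such elements generate a unipotent group.
-/

set_option autoImplicit false

namespace Cfsg.Agent.QuadPair

open UniFamily

variable {k : Type*} [Field k] {M : Type*} [AddCommGroup M] [Module k M]

local notation "GLM" => LinearMap.GeneralLinearGroup k M
local notation "EndM" => M →ₗ[k] M

theorem el_inv (x : EndM) (hx : x * x = 0) (c : k) : (el x hx c : GLM)⁻¹ = el x hx (-c) :=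
  Units.ext (show (1 : EndM) - c • x = 1 + (-c) • x by rw [neg_smul, sub_eq_add_neg])

/-- The deviation of a conjugate of `1 + s` by `1 + d t`. -/
def conjDev (s t : M →ₗ[k] M) (d : k) : M →ₗ[k] M :=
  s + d • (t * s - s * t) - (d * d) • (t * s * t)

section Words

variable {s t : M →ₗ[k] M} (hs : s * s = 0) (ht : t * t = 0)
include hs

theorem s_conjDev (d : k) :
    s * conjDev s t d = d • (s * t * s) - (d * d) • (s * t * s * t) := by
  simp only [conjDev, mul_add, mul_sub, mul_smul_comm, ← mul_assoc, hs, zero_mul, zero_add,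
    sub_zero]

theorem conjDev_s (d : k) :
    conjDev s t d * s = -(d • (s * t * s)) - (d * d) • (t * s * t * s) := by
  simp only [conjDev, add_mul, sub_mul, smul_mul_assoc]
  rw [mul_assoc t s s, hs, mul_zero, zero_sub, smul_neg, zero_add]

include ht

theorem dev_conj_el (d : k) :
    dev (el t ht d * el s hs 1 * (el t ht d)⁻¹ : GLM) = conjDev s t d := by
  rw [dev_conj, dev_el, el_inv, el_val, el_val, one_smul, conjDev]
  simp only [add_mul, mul_add, one_mul, mul_one, smul_mul_assoc, mul_smul_comm, smul_sub,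
    smul_smul, neg_smul, mul_neg]
  module

theorem conjDev_sq (d : k) : conjDev s t d * conjDev s t d = 0 := by
  rw [← dev_conj_el hs ht, dev_conj, dev_el, one_smul]
  calc (el t ht d : GLM).val * s * ((el t ht d : GLM)⁻¹).val *
        ((el t ht d : GLM).val * s * ((el t ht d : GLM)⁻¹).val)
      = (el t ht d : GLM).val * (s * (((el t ht d : GLM)⁻¹).val * (el t ht d : GLM).val) * s) *
          ((el t ht d : GLM)⁻¹).val := by simp only [mul_assoc]
    _ = 0 := by rw [Units.inv_mul, mul_one, hs, mul_zero, zero_mul]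

theorem zz_sq : zz s t * zz s t = s * t * s * t + t * s * t * s := by
  simp only [zz, add_mul, mul_add, ← mul_assoc]
  rw [mul_assoc s t t, ht, mul_zero, zero_mul, mul_assoc t s s, hs, mul_zero, zero_mul, zero_add,
    add_zero]

theorem zz_conjDev : zz s (conjDev s t (1 : k)) = -(zz s t * zz s t) := by
  rw [zz, s_conjDev hs, conjDev_s hs, zz_sq hs ht]
  simp only [one_mul, one_smul]
  abel

end Words

variable [FiniteDimensional k M]

theorem finrank_map_add (p : Submodule k M) (f : EndM) :
    Module.finrank k (p.map f) + Module.finrank k (LinearMap.ker f ⊓ p : Submodule k M) =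
      Module.finrank k p := by
  have h := (f.domRestrict p).finrank_range_add_finrank_ker
  rw [LinearMap.range_domRestrict] at h
  rw [← h]
  congr 1
  rw [LinearMap.ker_domRestrict]
  rw [← (Submodule.equivMapOfInjective p.subtype Subtype.val_injective _).symm.finrank_eq,
    Submodule.map_comap_subtype, inf_comm]

variable {G : Subgroup (LinearMap.GeneralLinearGroup k M)}

theorem rank_sts_lt {σ τ : GLM} (hσ : σ ∈ Cfsg.minimalQuadraticElements G)
    (hτ : τ ∈ Cfsg.minimalQuadraticElements G) (hz : IsNilpotent (zz (dev σ) (dev τ))) :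
    Module.finrank k (LinearMap.range (dev σ * dev τ * dev σ)) <
      Module.finrank k (LinearMap.range (dev σ)) := by
  set s := dev σ with hsd
  set t := dev τ with htd
  set V := LinearMap.range s with hV
  have hS : LinearMap.range (s * t * s) = (V.map t).map s := by
    rw [Module.End.mul_eq_comp, Module.End.mul_eq_comp, LinearMap.range_comp, Submodule.map_comp]
  have h1 := finrank_map_add V t
  have h2 := finrank_map_add (V.map t) s
  rw [hS]
  by_contra hlt
  have ha : Module.finrank k (LinearMap.ker t ⊓ V : Submodule k M) = 0 := by omega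
  have hb : Module.finrank k (LinearMap.ker s ⊓ V.map t : Submodule k M) = 0 := by omega
  have heq : V.map t = LinearMap.range t := by
    refine Submodule.eq_of_le_of_finrank_le (LinearMap.map_le_range) ?_
    have := rank_eq hτ hσ
    rw [← hsd, ← htd, ← hV] at this
    omega
  rw [heq] at hb
  refine not_nilpotent_of_left (sq_zero hσ) (dev_ne_zero hσ) ?_ ?_ hz
  · rw [inf_comm]; exact Submodule.finrank_eq_zero.1 ha
  · rw [inf_comm]; exact Submodule.finrank_eq_zero.1 hb

theorem sts_eq_zero_step (hk2 : (2 : k) ≠ 0) {σ τ : GLM}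
    (hσ : σ ∈ Cfsg.minimalQuadraticElements G) (hτ : τ ∈ Cfsg.minimalQuadraticElements G)
    (hz : IsNilpotent (zz (dev σ) (dev τ)))
    (h5 : dev σ * dev τ * dev σ * dev τ * dev σ = 0)
    (h5' : dev τ * dev σ * dev τ * dev σ * dev τ = 0) : dev σ * dev τ * dev σ = 0 := by
  have hs := sq_zero hσ
  have ht := sq_zero hτ
  set s := dev σ with hsd
  set t := dev τ with htd
  by_contra hS0
  set S := s * t * s with hS
  rw [hS] at h5
  set A := s * t * s * t - t * s * t * s with hA
  have hSS : S * S = 0 := by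
    rw [hS, mul_assoc (s * t), ← mul_assoc s (s * t), ← mul_assoc s s, hs]
    simp only [zero_mul, mul_zero]
  -- the commutator of `1 + c s` and a conjugate of `σ`
  have hK : ∀ c d : k, ∃ u ∈ G,
      dev u = c • (d • (2 : k) • S - (d * d) • A) := by
    intro c d
    set Y : GLM := el t ht d * el s hs 1 * (el t ht d)⁻¹ with hY
    have hYG : Y ∈ G := mul_mem (mul_mem (el_mem hτ d) (el_mem hσ 1)) (inv_mem (el_mem hτ d))
    refine ⟨el s hs c * Y * (el s hs c)⁻¹ * Y⁻¹,
      mul_mem (mul_mem (mul_mem (el_mem hσ c) hYG) (inv_mem (el_mem hσ c))) (inv_mem hYG), ?_⟩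
    set y := conjDev s t d with hy
    have hsy : s * y = d • S - (d * d) • (s * t * s * t) := s_conjDev hs d
    have hys : y * s = -(d • S) - (d * d) • (t * s * t * s) := conjDev_s hs d
    have hyd : dev Y = y := dev_conj_el hs ht d
    have hyy : y * y = 0 := conjDev_sq hs ht d
    have hsys : s * y * s = 0 := by
      rw [hsy, hS, sub_mul, smul_mul_assoc, smul_mul_assoc, mul_assoc (s * t) s s, hs, mul_zero,
        smul_zero, zero_sub, h5, smul_zero, neg_zero]
    have hS5 : t * s * S = 0 := by
      rw [hS, mul_assoc t s, ← mul_assoc s (s * t), ← mul_assoc s s, hs]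
      simp only [zero_mul, mul_zero]
    have hysy : y * s * y = 0 := by
      rw [mul_assoc, hsy, hy, conjDev, hS]
      have q1 : s * (s * t * s) = 0 := by simp only [← mul_assoc, hs, zero_mul]
      have q2 : s * (s * t * s * t) = 0 := by simp only [← mul_assoc, hs, zero_mul]
      have q3 : t * s * (s * t * s) = 0 := by rw [mul_assoc, q1, mul_zero]
      have q4 : t * s * (s * t * s * t) = 0 := by rw [mul_assoc, q2, mul_zero]
      have q5 : s * t * (s * t * s) = 0 := by rw [← h5]; simp only [mul_assoc]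
      have q6 : s * t * (s * t * s * t) = 0 := by rw [← mul_assoc (s * t), q5, zero_mul]
      have q7 : t * s * t * (s * t * s) = 0 := by rw [mul_assoc t s t, mul_assoc, q5, mul_zero]
      have q8 : t * s * t * (s * t * s * t) = 0 := by
        rw [mul_assoc t s t, mul_assoc, q6, mul_zero]
      simp only [mul_sub, add_mul, sub_mul, smul_mul_assoc, mul_smul_comm, q1, q2, q3, q4, q5, q6,
        q7, q8, smul_zero, sub_zero, add_zero]
    have hYi : ((Y⁻¹ : GLM) : EndM) = 1 - y := by
      refine Units.inv_eq_of_mul_eq_one_right ?_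
      rw [coe_dev Y, hyd, add_mul, one_mul, mul_sub, mul_one, hyy, sub_zero, sub_add_cancel]
    have hmain : (el s hs c * Y * (el s hs c)⁻¹ * Y⁻¹ : GLM).val
        = 1 + c • (s * y - y * s) := by
      rw [Units.val_mul, Units.val_mul, Units.val_mul, el_inv, el_val, el_val, coe_dev Y, hyd, hYi]
      have e : (1 + c • s) * (1 + y) * (1 + -c • s) * (1 - y) =
          1 + c • (s * y - y * s) - y * y - c • (s * (y * y)) + c • (y * s * y)
          - (c * c) • (s * s) + (c * c) • (s * s * y) - (c * c) • (s * y * s)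
          + (c * c) • (s * y * s * y) := by
        simp only [add_mul, mul_add, mul_sub, sub_mul, one_mul, mul_one, smul_mul_assoc,
          mul_smul_comm, smul_add, smul_sub, smul_smul, neg_smul, mul_neg, neg_mul, smul_neg,
          mul_assoc]
        abel
      rw [e, hyy, hysy, hsys, hs]
      simp
    rw [show dev (el s hs c * Y * (el s hs c)⁻¹ * Y⁻¹ : GLM) = c • (s * y - y * s) by
      rw [dev, hmain, add_sub_cancel_left]]
    congr 1
    rw [hsy, hys, hA, two_smul, smul_add, smul_sub]
    abel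
  have hfam : ∀ c : k, ∃ u ∈ G, dev u = c • S := by
    intro c
    obtain ⟨u₁, h1G, h1⟩ := hK (c / 4) 1
    obtain ⟨u₂, h2G, h2⟩ := hK (-(c / 4)) (-1)
    refine ⟨u₁ * u₂, mul_mem h1G h2G, ?_⟩
    have q5 : s * t * (s * t * s) = 0 := by rw [← h5]; simp only [mul_assoc]
    have hSA : S * A = 0 := by
      rw [hS, hA, mul_sub]
      have : s * t * s * (s * t * s * t) = 0 := by
        rw [mul_assoc (s * t) s, ← mul_assoc s (s * t * s), ← mul_assoc s (s * t), ← mul_assoc s s, hs]
        simp only [zero_mul, mul_zero]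
      rw [this, zero_sub, neg_eq_zero,
        show s * t * s * (t * s * t * s) = s * t * s * t * s * (t * s) by simp only [mul_assoc], h5,
        zero_mul]
    have hAS : A * S = 0 := by
      rw [hA, hS, sub_mul]
      have : t * s * t * s * (s * t * s) = 0 := by
        rw [mul_assoc (t * s * t) s, ← mul_assoc s (s * t), ← mul_assoc s s, hs]
        simp only [zero_mul, mul_zero]
      rw [this, sub_zero,
        show s * t * s * t * (s * t * s) = s * t * s * t * s * (t * s) by simp only [mul_assoc], h5,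
        zero_mul]
    have hAA : A * A = 0 := by
      rw [hA, sub_mul, mul_sub, mul_sub]
      have a1 : s * t * s * t * (s * t * s * t) = 0 := by
        rw [show s * t * s * t * (s * t * s * t) = s * t * s * t * s * (t * s * t) by
          simp only [mul_assoc], h5, zero_mul]
      have a2 : s * t * s * t * (t * s * t * s) = 0 := by
        rw [show s * t * s * t * (t * s * t * s) = s * t * s * (t * t) * (s * t * s) by
          simp only [mul_assoc], ht]
        simp only [zero_mul, mul_zero]
      have a3 : t * s * t * s * (s * t * s * t) = 0 := by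
        rw [show t * s * t * s * (s * t * s * t) = t * s * t * (s * s) * (t * s * t) by
          simp only [mul_assoc], hs]
        simp only [zero_mul, mul_zero]
      have a4 : t * s * t * s * (t * s * t * s) = 0 := by
        rw [show t * s * t * s * (t * s * t * s) = t * s * t * s * t * (s * t * s) by
          simp only [mul_assoc], h5', zero_mul]
      rw [a1, a2, a3, a4]
      simp
    rw [dev_mul, h1, h2]
    simp only [one_mul, one_smul, mul_neg, neg_mul, neg_neg, smul_mul_assoc, mul_smul_comm,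
      sub_mul, mul_sub, hSS, hSA, hAS, hAA, smul_zero, sub_zero, zero_add, neg_smul, smul_sub,
      smul_neg, smul_smul]
    have h4 : (4 : k) ≠ 0 := by
      rw [show (4 : k) = 2 * 2 by norm_num]; exact mul_ne_zero hk2 hk2
    have e : c / 4 * 2 + c / 4 * 2 = c := by field_simp; ring
    calc _ = (c / 4 * 2 + c / 4 * 2) • S := by rw [add_smul]; abel
      _ = c • S := by rw [e]
  obtain ⟨u, hu, hu1⟩ := hfam 1
  rw [one_smul] at hu1
  have h := rank_le hσ hu (by rw [hu1, hSS]) (by rw [hu1]; exact hS0)
    (fun c => by rw [hu1]; exact hfam c)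
  rw [hu1, ← hsd] at h
  exact absurd h (not_le.2 (rank_sts_lt hσ hτ hz))

/-- A pair with nilpotent `st + ts` satisfies `sts = tst = 0`. -/
theorem sts_eq_zero (hk2 : (2 : k) ≠ 0) : ∀ (m : ℕ) {σ τ : GLM},
    σ ∈ Cfsg.minimalQuadraticElements G → τ ∈ Cfsg.minimalQuadraticElements G →
    zz (dev σ) (dev τ) ^ m = 0 →
    dev σ * dev τ * dev σ = 0 ∧ dev τ * dev σ * dev τ = 0 := by
  intro m
  induction m using Nat.strong_induction_on with
  | _ m ih =>
    intro σ τ hσ hτ hm
    have hsymm : zz (dev τ) (dev σ) = zz (dev σ) (dev τ) := add_comm _ _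
    rcases Nat.lt_or_ge m 2 with hm2 | hm2
    · have hz0 : zz (dev σ) (dev τ) = 0 := by
        have h := hm
        interval_cases m
        · exact eq_zero_of_zero_eq_one (by rw [pow_zero] at h; exact h.symm) _
        · rwa [pow_one] at h
      have e : ∀ {a b : EndM}, a * a = 0 → zz a b = 0 → a * b * a = 0 := fun {a b} ha h => by
        have h' := congrArg (fun x => x * a) h
        simp only [zz, add_mul, zero_mul, mul_assoc b a a, ha, mul_zero, add_zero] at h'
        exact h'
      exact ⟨e (sq_zero hσ) hz0, e (sq_zero hτ) (hsymm.trans hz0)⟩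
    · have five : ∀ {α β : GLM}, α ∈ Cfsg.minimalQuadraticElements G →
          β ∈ Cfsg.minimalQuadraticElements G → zz (dev α) (dev β) ^ m = 0 →
          dev α * dev β * dev α * dev β * dev α = 0 := by
        intro α β hα hβ h
        have ha := sq_zero hα
        have hb := sq_zero hβ
        have hα1 : el (dev α) ha 1 ∈ Cfsg.minimalQuadraticElements G := by rwa [el_one hα]
        have hY := conj_minimal (el_mem hβ 1) hα1
        have hd := dev_conj_el ha hb (s := dev α) (t := dev β) 1
        have h' : zz (dev α) (dev (el (dev β) hb 1 * el (dev α) ha 1 * (el (dev β) hb 1)⁻¹)) ^ (m - 1) = 0 := by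
          rw [hd, zz_conjDev ha hb, neg_pow, ← pow_two, ← pow_mul,
            show 2 * (m - 1) = m + (m - 2) by omega, pow_add, h, zero_mul, mul_zero]
        have h'' := (ih (m - 1) (by omega) hα hY h').1
        rw [hd, s_conjDev ha, one_smul, one_mul, one_smul, sub_mul,
          mul_assoc (dev α * dev β) (dev α) (dev α), ha, mul_zero, zero_sub, neg_eq_zero] at h''
        exact h''
      have f1 := five hσ hτ hm
      have f2 := five hτ hσ (by rw [hsymm]; exact hm)
      exact ⟨sts_eq_zero_step hk2 hσ hτ ⟨m, hm⟩ f1 f2,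
        sts_eq_zero_step hk2 hτ hσ ⟨m, by rw [hsymm]; exact hm⟩ f2 f1⟩

theorem class_mul {σ a b : GLM} (hσ : σ ∈ Cfsg.minimalQuadraticElements G)
    (ha : a ∈ Cfsg.sameActionClass G σ ∪ {1}) (hb : b ∈ Cfsg.sameActionClass G σ ∪ {1}) :
    dev a * dev b = 0 := by
  rcases ha with ha | ha
  · rcases hb with hb | hb
    · refine LinearMap.ext fun m => ?_
      have h1 : dev b m ∈ LinearMap.range (dev σ) := hb.2.2.le ⟨m, rfl⟩
      obtain ⟨x, hx⟩ := h1
      have h2 : dev σ x ∈ LinearMap.ker (dev σ) := LinearMap.congr_fun (sq_zero hσ) x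
      have h3 : dev σ x ∈ LinearMap.ker (dev a) := ha.2.1.ge h2
      rw [Module.End.mul_apply, ← hx]
      exact h3
    · rw [Set.mem_singleton_iff] at hb; rw [hb, dev_one, mul_zero]
  · rw [Set.mem_singleton_iff] at ha; rw [ha, dev_one, zero_mul]

/-- Two classes with nilpotent `st + ts` generate a unipotent group. -/
theorem unipotent_classes (hk2 : (2 : k) ≠ 0) {σ τ : GLM} {A B : Subgroup GLM}
    (hσ : σ ∈ Cfsg.minimalQuadraticElements G) (hτ : τ ∈ Cfsg.minimalQuadraticElements G)
    (hA : (A : Set GLM) = Cfsg.sameActionClass G σ ∪ {1})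
    (hB : (B : Set GLM) = Cfsg.sameActionClass G τ ∪ {1})
    (hz : ∀ a ∈ Cfsg.sameActionClass G σ, ∀ b ∈ Cfsg.sameActionClass G τ,
      IsNilpotent (zz (dev a) (dev b))) : Cfsg.IsUnipotentOn (A ⊔ B) := by
  classical
  set SA := dev '' (A : Set GLM) with hSA
  set SB := dev '' (B : Set GLM) with hSB
  have sameA : ∀ a ∈ SA, ∀ b ∈ SA, a * b = 0 := by
    rintro _ ⟨a, ha, rfl⟩ _ ⟨b, hb, rfl⟩; exact class_mul hσ (hA ▸ ha) (hA ▸ hb)
  have sameB : ∀ a ∈ SB, ∀ b ∈ SB, a * b = 0 := by
    rintro _ ⟨a, ha, rfl⟩ _ ⟨b, hb, rfl⟩; exact class_mul hτ (hB ▸ ha) (hB ▸ hb)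
  have cross : ∀ a ∈ SA, ∀ b ∈ SB, a * b * a = 0 ∧ b * a * b = 0 := by
    rintro _ ⟨a, ha, rfl⟩ _ ⟨b, hb, rfl⟩
    rw [hA] at ha; rw [hB] at hb
    rcases ha with ha | ha
    · rcases hb with hb | hb
      · obtain ⟨m, hm⟩ := hz a ha b hb
        exact sts_eq_zero hk2 m ha.1 hb.1 hm
      · rw [Set.mem_singleton_iff] at hb; simp [hb, dev_one]
    · rw [Set.mem_singleton_iff] at ha; simp [ha, dev_one]
  have antiA : ∀ a ∈ SA, ∀ a' ∈ SA, ∀ b ∈ SB, a * b * a' = -(a' * b * a) := by
    rintro _ ⟨a, ha, rfl⟩ _ ⟨a', ha', rfl⟩ b hb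
    have hsum : dev a + dev a' ∈ SA := ⟨a * a', A.mul_mem ha ha', by
      rw [dev_mul, sameA _ ⟨a, ha, rfl⟩ _ ⟨a', ha', rfl⟩, zero_add]⟩
    have h := (cross _ hsum b hb).1
    simp only [add_mul, mul_add, (cross _ ⟨a, ha, rfl⟩ b hb).1, (cross _ ⟨a', ha', rfl⟩ b hb).1,
      zero_add, add_zero] at h
    first
      | exact eq_neg_of_add_eq_zero_left h
      | exact eq_neg_of_add_eq_zero_right h
  have antiB : ∀ b ∈ SB, ∀ b' ∈ SB, ∀ a ∈ SA, b * a * b' = -(b' * a * b) := by
    rintro _ ⟨b, hb, rfl⟩ _ ⟨b', hb', rfl⟩ a ha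
    have hsum : dev b + dev b' ∈ SB := ⟨b * b', B.mul_mem hb hb', by
      rw [dev_mul, sameB _ ⟨b, hb, rfl⟩ _ ⟨b', hb', rfl⟩, zero_add]⟩
    have h := (cross a ha _ hsum).2
    simp only [add_mul, mul_add, (cross a ha _ ⟨b, hb, rfl⟩).2, (cross a ha _ ⟨b', hb', rfl⟩).2,
      zero_add, add_zero] at h
    first
      | exact eq_neg_of_add_eq_zero_left h
      | exact eq_neg_of_add_eq_zero_right h
  have key : ∀ (S T : Set EndM), (∀ a ∈ S, ∀ b ∈ S, a * b = 0) → (∀ a ∈ T, ∀ b ∈ T, a * b = 0) →
      (∀ a ∈ S, ∀ b ∈ T, a * b * a = 0) → (∀ a ∈ S, ∀ a' ∈ S, ∀ b ∈ T, a * b * a' = -(a' * b * a)) →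
      ∀ (n : ℕ) (l : List EndM), l.length ≤ n → (∀ y ∈ l, y ∈ S ∪ T) → ∀ x ∈ S,
        x * l.prod * x = 0 := by
    intro S T hS hT hST hanti n
    induction n with
    | zero =>
      intro l hl _ x hx
      rw [List.length_eq_zero_iff.1 (Nat.le_zero.1 hl), List.prod_nil, mul_one]; exact hS x hx x hx
    | succ n ih =>
      intro l hl hmem x hx
      rcases l with _ | ⟨a, l⟩
      · rw [List.prod_nil, mul_one]; exact hS x hx x hx
      rw [List.prod_cons]
      rcases hmem a (by simp) with ha | ha
      · rw [← mul_assoc x a, hS x hx a ha, zero_mul, zero_mul]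
      rcases l with _ | ⟨b, l⟩
      · rw [List.prod_nil, mul_one]; exact hST x hx a ha
      rw [List.prod_cons]
      rcases hmem b (by simp) with hb | hb
      · have h := ih l (by simp at hl; omega) (fun y hy => hmem y (by simp [hy])) x hx
        calc x * (a * (b * l.prod)) * x = (x * a * b) * l.prod * x := by simp only [mul_assoc]
          _ = -(b * a * (x * l.prod * x)) := by
            rw [hanti x hx b hb a ha]; simp only [neg_mul, mul_assoc]
          _ = 0 := by rw [h, mul_zero, neg_zero]
      · rw [← mul_assoc a b, hT a ha b hb, zero_mul, mul_zero, zero_mul]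
  have sandwich : ∀ x ∈ SA ∪ SB, ∀ l : List EndM, (∀ y ∈ l, y ∈ SA ∪ SB) → x * l.prod * x = 0 := by
    intro x hx l hl
    rcases hx with hx | hx
    · exact key SA SB sameA sameB (fun a ha b hb => (cross a ha b hb).1) antiA _ l le_rfl hl x hx
    · exact key SB SA sameB sameA (fun b hb a ha => (cross a ha b hb).2) antiB _ l le_rfl
        (fun y hy => (hl y hy).symm) x hx
  obtain ⟨F, hFS, hspan, hli⟩ := exists_linearIndependent k (SA ∪ SB)
  have hFfin : F.Finite := hli.setFinite
  have vanish : ∀ l : List EndM, (∀ y ∈ l, y ∈ F) → ¬ l.Nodup → l.prod = 0 := by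
    intro l
    induction l with
    | nil => intro _ h; exact absurd List.nodup_nil h
    | cons a l ih =>
      intro hl hnd
      rw [List.prod_cons]
      by_cases ha : a ∈ l
      · obtain ⟨l₁, l₂, rfl⟩ := List.append_of_mem ha
        rw [List.prod_append, List.prod_cons]
        have h := sandwich a (hFS (hl a (by simp))) l₁ fun y hy => hFS (hl y (by simp [hy]))
        rw [← mul_assoc, ← mul_assoc, h, zero_mul]
      · rw [ih (fun y hy => hl y (by simp [hy])) (fun h => hnd (List.nodup_cons.2 ⟨ha, h⟩)),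
          mul_zero]
  let pw : ℕ → Submodule k EndM := fun m =>
    Submodule.span k {x | ∃ l : List EndM, (∀ y ∈ l, y ∈ F) ∧ m ≤ l.length ∧ l.prod = x}
  have pw_mul : ∀ a b, pw a * pw b ≤ pw (a + b) := fun a b => by
    simp only [pw, Submodule.span_mul_span]
    refine Submodule.span_mono ?_
    rintro _ ⟨_, ⟨l, hl, hn, rfl⟩, _, ⟨l', hl', hn', rfl⟩, rfl⟩
    exact ⟨l ++ l', fun g hg => (List.mem_append.1 hg).elim (hl g) (hl' g), by simp; omega, by simp⟩
  have pw_anti : ∀ {a b}, a ≤ b → pw b ≤ pw a := fun h =>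
    Submodule.span_mono fun _ ⟨l, hl, hn, hx⟩ => ⟨l, hl, h.trans hn, hx⟩
  have pow_le : ∀ j, pw 1 ^ (j + 1) ≤ pw (j + 1) := by
    intro j
    induction j with
    | zero => rw [pow_one]
    | succ j ih => rw [pow_succ]; exact (mul_le_mul_left ih _).trans (pw_mul _ _)
  have hbot : pw 1 ^ (hFfin.toFinset.card + 1) = ⊥ := by
    refine le_bot_iff.1 ((pow_le _).trans (Submodule.span_le.2 ?_))
    rintro _ ⟨l, hl, hlen, rfl⟩
    refine (Submodule.mem_bot k).2 (vanish l hl fun hnd => ?_)
    have : l.toFinset ⊆ hFfin.toFinset := fun y hy =>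
      hFfin.mem_toFinset.2 (hl y (List.mem_toFinset.1 hy))
    have := Finset.card_le_card this
    rw [List.toFinset_card_of_nodup hnd] at this
    omega
  have hF1 : Submodule.span k F ≤ pw 1 := Submodule.span_le.2 fun x hx =>
    Submodule.subset_span ⟨[x], by simpa using hx, by simp, by simp⟩
  refine unipotent_of_algebra hbot fun g hg =>
    dev_mem_iSup ((pw_mul 1 1).trans (pw_anti (by norm_num))) (W := {A, B}) ?_ g (by rwa [iSup_pair])
  rintro C hC x hx
  refine hF1 ?_
  rw [hspan]
  rcases hC with rfl | rfl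
  · exact Submodule.subset_span (Or.inl ⟨x, hx, rfl⟩)
  · exact Submodule.subset_span (Or.inr ⟨x, hx, rfl⟩)

end Cfsg.Agent.QuadPair
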