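import Cfsg.Agent.Lib.QuadPair.Components

/-!
A quadratic element which does not centralise the root subgroups is a product of an element of the
group they generate and a quadratic element of smaller rank. Hence `G = G₀ C_G(G₀)`.
-/

set_option autoImplicit false

namespace Cfsg.Agent.QuadPair

open UniFamily

section Algebra

variable {R : Type*} [Ring R]

/-- Products with a tail. -/
theorem mul_tail {a b c : R} (h : a * b = c) (x : R) : a * (b * x) = c * x := by
  rw [← mul_assoc, h]

end Algebra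

universe v

variable {k : Type v} [Field k] {M : Type v} [AddCommGroup M] [Module k M]

local notation "GLM" => LinearMap.GeneralLinearGroup k M
local notation "EndM" => M →ₗ[k] M

/-- The subgroup generated by the root subgroups. -/
def rootGroup (G : Subgroup (LinearMap.GeneralLinearGroup k M)) :
    Subgroup (LinearMap.GeneralLinearGroup k M) :=
  ⨆ A ∈ Cfsg.quadraticRootSubgroups G, A

variable {G : Subgroup (LinearMap.GeneralLinearGroup k M)}
variable {σ τ : LinearMap.GeneralLinearGroup k M}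

variable [FiniteDimensional k M]

theorem sameAction_le_rootGroup (hσ : σ ∈ Cfsg.minimalQuadraticElements G) :
    Cfsg.sameActionSubgroup G σ ≤ rootGroup G :=
  le_iSup₂_of_le (f := fun (A : Subgroup GLM) (_ : A ∈ Cfsg.quadraticRootSubgroups G) => A) _
    ⟨σ, hσ, rfl⟩ le_rfl

theorem minimal_mem_rootGroup (hσ : σ ∈ Cfsg.minimalQuadraticElements G) : σ ∈ rootGroup G :=
  sameAction_le_rootGroup hσ (Subgroup.subset_closure (class_self hσ))

theorem rootGroup_le : rootGroup G ≤ G :=
  iSup₂_le fun _ ⟨σ, _, h⟩ => h ▸ sameAction_le_G G σ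

theorem conj_mem_rootGroup {g : GLM} (hg : g ∈ G) {x : GLM} (hx : x ∈ rootGroup G) :
    g * x * g⁻¹ ∈ rootGroup G := by
  have hle : rootGroup G ≤ (rootGroup G).comap (MulAut.conj g).toMonoidHom := by
    refine iSup₂_le fun A hA a ha => ?_
    exact le_iSup₂_of_le (f := fun (A : Subgroup GLM) (_ : A ∈ Cfsg.quadraticRootSubgroups G) => A) _
      (conj_mem_sigma hA hg) le_rfl ⟨a, ha, rfl⟩
  exact hle hx

theorem commutator_mem_rootGroup {h y : GLM} (hh : h ∈ rootGroup G) (hy : y ∈ G) :
    h * y * h⁻¹ * y⁻¹ ∈ rootGroup G := by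
  rw [show h * y * h⁻¹ * y⁻¹ = h * (y * h⁻¹ * y⁻¹) by group]
  exact mul_mem hh (conj_mem_rootGroup hy (inv_mem hh))

theorem inv_el (x : EndM) (hx : x * x = 0) (c : k) :
    (((el x hx c : GLM)⁻¹ : GLM) : EndM) = 1 - c • x := rfl

theorem dev_mul_of_zero {g h : GLM} (h0 : dev g * dev h = 0) : dev (g * h) = dev g + dev h := by
  rw [dev_mul, h0, zero_add]

theorem dev_inv_of_sq {g : GLM} (h : dev g * dev g = 0) : dev g⁻¹ = -dev g := by
  rw [dev, coe_inv_of_sq h]; abel

theorem eq_el {g : GLM} {x : EndM} (hx : x * x = 0) {c : k} (h : dev g = c • x) :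
    g = el x hx c := Units.ext (by rw [el_val, coe_dev g, h])

theorem minimal_of_family (hσ : σ ∈ Cfsg.minimalQuadraticElements G) {x : EndM} (hx : x * x = 0)
    (h0 : x ≠ 0) (hf : ∀ c : k, ∃ u ∈ G, dev u = c • x)
    (hr : Module.finrank k (LinearMap.range x) ≤ Module.finrank k (LinearMap.range (dev σ))) :
    el x hx 1 ∈ Cfsg.minimalQuadraticElements G := by
  have hd : dev (el x hx 1 : GLM) = x := by rw [dev_el, one_smul]
  obtain ⟨u, hu, hu'⟩ := hf 1
  have hq : el x hx 1 ∈ Cfsg.quadraticElements G := by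
    refine mem_quadratic (eq_el hx hu' ▸ hu) (by rw [hd, hx]) (by rwa [hd]) fun c => ?_
    rw [hd]; exact hf c
  refine ⟨hq, fun y hy => le_trans ?_ (hσ.2 y hy)⟩
  show Module.finrank k (LinearMap.range (dev (el x hx 1 : GLM))) ≤ _
  rw [hd]; exact hr

theorem mem_devSpace_of_family (hA : IsRootClass G σ) {x : EndM}
    (hr : LinearMap.range x ≤ LinearMap.range (dev σ))
    (hk : LinearMap.ker (dev σ) ≤ LinearMap.ker x) (hf : ∀ c : k, ∃ u ∈ G, dev u = c • x) :
    x ∈ devSpace hA := by
  rcases eq_or_ne x 0 with rfl | h0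
  · exact zero_mem _
  have hx : x * x = 0 := LinearMap.ext fun m => by
    obtain ⟨y, hy⟩ := hr ⟨m, rfl⟩
    exact hk (show x m ∈ LinearMap.ker (dev σ) by
      rw [← hy]; exact LinearMap.congr_fun (sq_zero hA.1) y)
  have hd : dev (el x hx 1 : GLM) = x := by rw [dev_el, one_smul]
  have hm := minimal_of_family hA.1 hx h0 hf (Submodule.finrank_mono hr)
  have hrank := rank_eq hm hA.1
  rw [hd] at hrank
  refine ⟨el x hx 1, Subgroup.subset_closure ⟨hm, ?_, ?_⟩, hd⟩
  · show LinearMap.ker (dev (el x hx 1 : GLM)) = LinearMap.ker (dev σ)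
    rw [hd]
    refine (Submodule.eq_of_le_of_finrank_le hk ?_).symm
    have h1 := x.finrank_range_add_finrank_ker
    have h2 := (dev σ).finrank_range_add_finrank_ker
    omega
  · show LinearMap.range (dev (el x hx 1 : GLM)) = LinearMap.range (dev σ)
    rw [hd]
    exact Submodule.eq_of_le_of_finrank_le hr hrank.ge

theorem ker_eq_of_devSpace (hA : IsRootClass G σ) {x : EndM} (hx : x ∈ devSpace hA) (h0 : x ≠ 0) :
    LinearMap.ker x = LinearMap.ker (dev σ) := by
  obtain ⟨a, ha, rfl⟩ := hx
  exact (mem_class_of_mem hA.2 ha fun e => h0 (by rw [e, dev_one])).2.1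

variable (hk2 : (2 : k) ≠ 0) (hk3 : Nat.card k ≠ 3)
include hk2 hk3

/-- `sts` lies in the space of deviations of `E(σ)`. -/
theorem sts_mem_devSpace (hA : IsRootClass G σ) (hτ : τ ∈ Cfsg.minimalQuadraticElements G) :
    dev σ * dev τ * dev σ ∈ devSpace hA := by
  classical
  by_cases hz : IsNilpotent (zz (dev σ) (dev τ))
  · rw [(sts_of_nilpotent hk2 hA.1 hτ hz).1]; exact zero_mem _
  have hss : ∀ m, dev σ (dev σ m) = 0 := fun m => LinearMap.congr_fun (sq_zero hA.1) m
  refine mem_devSpace_of_family hA ?_ ?_ ?_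
  · rw [mul_assoc, Module.End.mul_eq_comp]; exact LinearMap.range_comp_le_range _ _
  · intro m hm
    rw [LinearMap.mem_ker, Module.End.mul_apply, LinearMap.mem_ker.1 hm, map_zero]
  have hstr := structure_theorem hk2 hk3 hA.1 hτ hz
  set s := dev σ with hs
  set t := dev τ with ht
  obtain ⟨hS, ν, Λ, H, hfield, -, hHG, hν, hfix, -, -, -, -, φ, hφ, hφa, hΛ⟩ := hstr
  set R := Algebra.adjoin k ({Λ} : Set (Module.End k (LinearMap.range s))) with hR
  set lam : R := ⟨Λ, Algebra.subset_adjoin rfl⟩ with hlam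
  have hs1 : ∀ w₁ w₂ : LinearMap.range s,
      s ((w₁ : M) + t (ν w₂ : LinearMap.range s)) = w₂ := fun w₁ w₂ => by
    have h := (hφ (uR (1 : R))).2 w₁ w₂
    rw [hφa, coe_dev σ, ← hs, LinearMap.add_apply, Module.End.one_apply] at h
    simp [uR_val] at h
    rw [add_right_comm _ (w₂ : M)] at h
    simpa [map_add] using h
  intro c
  refine ⟨φ (uR (algebraMap k R c * lam)), hHG (hφ _).1, LinearMap.ext fun m => ?_⟩
  obtain ⟨d, b, hd, hb, rfl⟩ := Submodule.codisjoint_iff_exists_add_eq.1 hS.compl.codisjoint m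
  obtain ⟨w₁, w₂, rfl⟩ := hS.coords (sq_zero hτ) ν hν.2 hb
  have e1 : dev (φ (uR (algebraMap k R c * lam))) d = 0 := by
    rw [dev_apply, hfix _ (hφ _).1 d hd, sub_self]
  have e2 : dev (φ (uR (algebraMap k R c * lam))) ((w₁ : M) + t (ν w₂ : LinearMap.range s))
      = c • s (t (w₂ : M)) := by
    rw [dev_apply, (hφ _).2 w₁ w₂]
    simp [uR_val, hlam, Module.algebraMap_end_apply, ← hΛ]
  have e3 : (s * t * s) ((w₁ : M) + t (ν w₂ : LinearMap.range s)) = s (t (w₂ : M)) := by
    rw [Module.End.mul_apply, hs1, Module.End.mul_apply]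
  rw [map_add, e1, e2, zero_add, LinearMap.smul_apply, map_add, e3, Module.End.mul_apply,
    LinearMap.mem_ker.1 hd.1, map_zero, zero_add]

/-- The torus of a non-degenerate pair. -/
theorem partner_torus (hσ : σ ∈ Cfsg.minimalQuadraticElements G)
    (hτ : τ ∈ Cfsg.minimalQuadraticElements G) (hz : ¬ IsNilpotent (zz (dev σ) (dev τ))) :
    ∃ r : EndM, LinearMap.range r = LinearMap.range (dev τ) ∧
      LinearMap.ker r = LinearMap.ker (dev τ) ∧ r * r = 0 ∧
      dev σ * r * dev σ = dev σ ∧ r * dev σ * r = r ∧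
      ∀ t : k, t ≠ 0 → ∃ h ∈ rootGroup G,
        dev h = (t - 1) • (dev σ * r) + (t⁻¹ - 1) • (r * dev σ) := by
  obtain ⟨g, hg, hgeq, ψ, -, hψ⟩ := partner_full hk2 hk3 hσ hτ hz
  have hS := (structure_theorem hk2 hk3 hσ hτ hz).1
  have hvv := sq_zero hσ
  have hrr := sq_zero hg.1
  set v := dev σ with hv
  set r := dev g with hr
  have hrange : LinearMap.range r = LinearMap.range (dev τ) := hg.2.2
  have hid : v * r * v + r * v * r = v + r := by
    have e := congrArg dev hgeq
    have e1 : dev (g⁻¹ * σ * g) = (1 - r) * v * (1 + r) := by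
      conv_lhs => rw [show g⁻¹ * σ * g = g⁻¹ * σ * g⁻¹⁻¹ by rw [inv_inv]]
      rw [dev_conj, inv_inv, coe_inv_of_sq hrr, coe_dev g]
    have e2 : dev (σ⁻¹ * g⁻¹ * σ) = (1 - v) * (-r) * (1 + v) := by
      conv_lhs => rw [show σ⁻¹ * g⁻¹ * σ = σ⁻¹ * g⁻¹ * σ⁻¹⁻¹ by rw [inv_inv]]
      rw [dev_conj, inv_inv, coe_inv_of_sq hvv, coe_dev σ, dev_inv_of_sq hrr]
    rw [e1, e2] at e
    rw [← sub_eq_zero] at e ⊢
    have e' : (1 - r) * v * (1 + r) - (1 - v) * (-r) * (1 + v) = -(v * r * v + r * v * r - (v + r)) := by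
      simp only [sub_mul, mul_sub, add_mul, mul_add, one_mul, mul_one, neg_mul, mul_neg, mul_assoc]
      abel
    rw [e', neg_eq_zero] at e
    exact e
  have hdis : ∀ m, m ∈ LinearMap.range v → m ∈ LinearMap.range r → m = 0 := by
    intro m h1 h2
    rw [hrange] at h2
    obtain ⟨u, rfl⟩ := h2
    rw [← Submodule.mem_bot k, ← hS.left]
    exact ⟨h1, LinearMap.congr_fun (sq_zero hτ) u⟩
  have hvrv : v * r * v = v := by
    refine LinearMap.ext fun m => sub_eq_zero.1 (hdis _ ⟨r (v m) - m, by
      rw [map_sub]; rfl⟩ ⟨m - v (r m), ?_⟩)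
    have h := LinearMap.congr_fun hid m
    simp only [LinearMap.add_apply, Module.End.mul_apply] at h ⊢
    rw [map_sub, sub_eq_sub_iff_add_eq_add, add_comm (r m) (v m)]
    exact h.symm
  have hrvr : r * v * r = r := by
    rw [hvrv] at hid; exact add_left_cancel hid
  refine ⟨r, hrange, hg.2.1, hrr, hvrv, hrvr, fun t ht => ?_⟩
  set a := t - 1 with ha
  set b := t⁻¹ - 1 with hb
  refine ⟨ψ (uR a) * ψ (lR 1) * ψ (uR b) * ψ (lR (-t)), ?_, ?_⟩
  · have hU : ∀ c, ψ (uR c) ∈ rootGroup G := fun c => by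
      rw [eq_el hvv (hψ c).1]; exact sameAction_le_rootGroup hσ (el_mem_sameAction hσ c)
    have hL : ∀ c, ψ (lR c) ∈ rootGroup G := fun c => by
      rw [eq_el hrr (hψ c).2]
      exact sameAction_le_rootGroup hg.1 (el_mem_sameAction hg.1 c)
    exact mul_mem (mul_mem (mul_mem (hU _) (hL _)) (hU _)) (hL _)
  · rw [dev, Units.val_mul, Units.val_mul, Units.val_mul, coe_dev (ψ (uR a)), coe_dev (ψ (lR 1)),
      coe_dev (ψ (uR b)), coe_dev (ψ (lR (-t))), (hψ a).1, (hψ 1).2, (hψ b).1, (hψ (-t)).2]
    have p1 : v * (r * v) = v := by rw [← mul_assoc, hvrv]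
    have p2 : r * (v * r) = r := by rw [← mul_assoc, hrvr]
    have p1' : ∀ x : EndM, v * (r * (v * x)) = v * x := fun x => by
      rw [← mul_assoc r, ← mul_assoc v, p1]
    have p2' : ∀ x : EndM, r * (v * (r * x)) = r * x := fun x => by
      rw [← mul_assoc v, ← mul_assoc r, p2]
    simp only [add_mul, mul_add, one_mul, mul_one, smul_mul_assoc, mul_smul_comm, one_smul,
      smul_smul, mul_assoc, hvv, hrr, mul_tail hvv, mul_tail hrr, p1, p2, p1', p2', zero_mul,
      mul_zero, smul_zero, add_zero, zero_add, ha, hb]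
    match_scalars <;> field_simp <;> ring

omit hk2 hk3

/-- The conclusion of one reduction step. -/
def Reduces (G : Subgroup (LinearMap.GeneralLinearGroup k M)) (z : M →ₗ[k] M) (hz : z * z = 0) :
    Prop :=
  ∃ (z' : M →ₗ[k] M) (hz' : z' * z' = 0),
    Module.finrank k (LinearMap.range z') < Module.finrank k (LinearMap.range z) ∧
    ∀ c : k, ∃ h ∈ rootGroup G, el z hz c = h * el z' hz' c

include hk2 hk3

/-- Reduction along a root element annihilated by `z` on both sides. -/
theorem reduce_of_root (hcl : ∀ ρ ∈ Cfsg.minimalQuadraticElements G, IsRootClass G ρ)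
    (hG : Cfsg.IsQuadraticPair G) {z : EndM} (hz : z * z = 0)
    (hf : ∀ c : k, el z hz c ∈ G) {δ : GLM} (hδ : δ ∈ Cfsg.minimalQuadraticElements G)
    (hzv : z * dev δ = 0) (hvz : dev δ * z = 0)
    (hker : ∀ m, z m = 0 → dev δ m ∈ LinearMap.range z) : Reduces G z hz := by
  obtain ⟨π, hπ, hπz⟩ := exists_partner hk2 hk3 hcl hG hδ
  obtain ⟨r, -, -, hrr, hvrv, hrvr, htor⟩ := partner_torus hk2 hk3 hδ hπ hπz
  have hvv := sq_zero hδ
  set v := dev δ with hv
  set e := v * r with he
  set f := r * v with hf'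
  have ze : z * e = 0 := by rw [he, ← mul_assoc, hzv, zero_mul]
  have fz : f * z = 0 := by rw [hf', mul_assoc, hvz, mul_zero]
  have fe : f * e = 0 := by rw [he, hf', mul_assoc, ← mul_assoc v, hvv, zero_mul, mul_zero]
  have ef : e * f = 0 := by rw [he, hf', mul_assoc, ← mul_assoc r, hrr, zero_mul, mul_zero]
  have ee : e * e = e := by rw [he, ← mul_assoc, hvrv]
  have ff : f * f = f := by rw [hf', ← mul_assoc, hrvr]
  set A := e * z + z * f with hA
  set B := e * z * f with hB
  have hX : ∀ t : k, t ≠ 0 → ∀ c : k, ∃ u ∈ rootGroup G,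
      dev u = c • ((t - 1) • A + ((t - 1) * (t - 1)) • B) := by
    intro t ht c
    obtain ⟨h, hh, hdh⟩ := htor t ht
    obtain ⟨h', -, hdh'⟩ := htor t⁻¹ (inv_ne_zero ht)
    rw [inv_inv] at hdh'
    have hinv : ((h⁻¹ : GLM) : EndM) = 1 + ((t⁻¹ - 1) • e + (t - 1) • f) := by
      refine Units.inv_eq_of_mul_eq_one_right ?_
      rw [coe_dev h, hdh]
      simp only [add_mul, mul_add, one_mul, mul_one, smul_mul_assoc, mul_smul_comm, ee, ff, ef, fe,
        smul_zero, add_zero, zero_add, smul_smul]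
      match_scalars <;> field_simp <;> ring
    refine ⟨h * el z hz c * h⁻¹ * (el z hz c)⁻¹, commutator_mem_rootGroup hh (hf c), ?_⟩
    have hconj : dev (h * el z hz c * h⁻¹) = c • (z + (t - 1) • A + ((t - 1) * (t - 1)) • B) := by
      rw [dev_conj, dev_el, hinv, coe_dev h, hdh, hA, hB]
      simp only [add_mul, mul_add, one_mul, mul_one, smul_mul_assoc, mul_smul_comm, ze, fz,
        mul_assoc, mul_tail fz, zero_mul, mul_zero, smul_zero, add_zero, zero_add, smul_add, smul_smul]
      module
    have hsq : dev (el z hz c : GLM) * dev (el z hz c : GLM) = 0 := by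
      rw [dev_el, smul_mul_smul_comm, hz, smul_zero]
    rw [dev_mul, hconj, dev_inv_of_sq hsq, dev_el, hA, hB]
    simp only [add_mul, smul_mul_assoc, mul_smul_comm, mul_neg, mul_assoc, hz, fz, zero_mul,
      mul_zero, smul_zero, add_zero, zero_add, neg_zero, smul_add, smul_smul]
    module
  -- two values of the parameter
  obtain ⟨t, ht0, ht1, ht2⟩ : ∃ t : k, t ≠ 0 ∧ t - 1 ≠ 0 ∧ (t - 1) + 2 ≠ 0 := by
    obtain ⟨t, ht, ht2⟩ := exists_sq_ne_one hk2 hk3
    refine ⟨t, ht, fun h => ht2 ?_, fun h => ht2 ?_⟩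
    · linear_combination (t + 1) * h
    · linear_combination (t - 1) * h
  have hzz : ∀ x : EndM, z * (z * x) = 0 := fun x => by rw [← mul_assoc, hz, zero_mul]
  have hze : ∀ x : EndM, z * (e * x) = 0 := fun x => by rw [← mul_assoc, ze, zero_mul]
  have hfz : ∀ x : EndM, f * (z * x) = 0 := fun x => by rw [← mul_assoc, fz, zero_mul]
  have hfe : ∀ x : EndM, f * (e * x) = 0 := fun x => by rw [← mul_assoc, fe, zero_mul]
  set u := t - 1 with hu
  set β := (u * (u + 2))⁻¹ with hβ
  set α := (β * u - 1) / 2 with hα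
  have hn : ∀ c : k, ∃ x ∈ rootGroup G, dev x = c • (A - B) := by
    intro c
    have hm1 : (-1 : k) ≠ 0 := neg_ne_zero.2 one_ne_zero
    obtain ⟨x, hx, hx'⟩ := hX (-1) hm1 (c * α)
    obtain ⟨y, hy, hy'⟩ := hX t ht0 (c * β)
    refine ⟨x * y, mul_mem hx hy, ?_⟩
    have h0 : dev x * dev y = 0 := by
      rw [hx', hy', hA, hB]
      simp only [add_mul, mul_add, smul_mul_assoc, mul_smul_comm, mul_assoc, hz, ze, fz, fe, hzz,
        hze, hfz, hfe, mul_zero, smul_zero, add_zero]
    have k1 : α * (-1 - 1) + β * u = 1 := by rw [hα]; field_simp; ring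
    have k2 : α * ((-1 - 1) * (-1 - 1)) + β * (u * u) = -1 := by
      have hb : β * (u * (u + 2)) = 1 := by rw [hβ]; exact inv_mul_cancel₀ (mul_ne_zero ht1 ht2)
      rw [hα]; field_simp
      linear_combination 2 * hb
    rw [dev_mul_of_zero h0, hx', hy']
    calc (c * α) • ((-1 - 1 : k) • A + ((-1 - 1) * (-1 - 1) : k) • B)
          + (c * β) • (u • A + (u * u) • B)
        = (c * (α * (-1 - 1) + β * u)) • A + (c * (α * ((-1 - 1) * (-1 - 1)) + β * (u * u))) • B := by
          module
      _ = c • (A - B) := by rw [k1, k2]; module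
  set cc := (1 : EndM) - e - f with hcc
  set z₀ := cc * z * cc with hz0
  have hz0' : z₀ = z - (A - B) := by
    rw [hz0, hcc, hA, hB]
    simp only [sub_mul, mul_sub, one_mul, mul_one, mul_assoc, ze, fz, hfz, mul_zero, sub_zero]
    abel
  have hz00 : z₀ * z₀ = 0 := by
    rw [hz0', hA, hB]
    simp only [sub_mul, mul_sub, add_mul, mul_add, mul_assoc, hz, ze, fz, fe, hzz, hze, hfz, hfe,
      mul_zero, sub_zero, add_zero]
  refine ⟨z₀, hz00, ?_, fun c => ?_⟩
  · have hle1 : Module.finrank k (LinearMap.range z₀) ≤ Module.finrank k (LinearMap.range (z * cc)) := by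
      rw [hz0, mul_assoc, Module.End.mul_eq_comp, LinearMap.range_comp]
      exact Submodule.finrank_map_le _ _
    have hle2 : LinearMap.range (z * cc) ≤ LinearMap.range z := LinearMap.range_comp_le_range _ _
    by_contra hlt
    have h1 := Submodule.finrank_mono hle2
    have heq : LinearMap.range (z * cc) = LinearMap.range z :=
      Submodule.eq_of_le_of_finrank_le hle2 (by omega)
    have hcv : cc * v = 0 := by
      rw [hcc, sub_mul, sub_mul, one_mul, he, hf', hvrv, mul_assoc r v v, hvv, mul_zero, sub_self,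
        sub_zero]
    have hvc : v * cc = 0 := by
      rw [hcc, mul_sub, mul_sub, mul_one, he, hf', ← mul_assoc, hvv, zero_mul, ← mul_assoc, hvrv,
        sub_zero, sub_self]
    have hinj : LinearMap.ker cc ⊓ LinearMap.range z = ⊥ := by
      refine Submodule.finrank_eq_zero.1 ?_
      have h2 := finrank_map_add (LinearMap.range z) cc
      have h3 : LinearMap.range z₀ = (LinearMap.range z).map cc := by
        rw [hz0, mul_assoc, Module.End.mul_eq_comp, LinearMap.range_comp, heq]
      rw [h3] at hlt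
      omega
    refine dev_ne_zero hδ (LinearMap.ext fun m => ?_)
    obtain ⟨m', hm'⟩ := heq.ge (⟨m, rfl⟩ : z m ∈ LinearMap.range z)
    have hk : z (m - cc m') = 0 := by rw [map_sub, ← Module.End.mul_apply, hm', sub_self]
    have h0 : v (m - cc m') = 0 := by
      rw [← Submodule.mem_bot k, ← hinj]
      exact ⟨LinearMap.congr_fun hcv _, hker _ hk⟩
    rw [map_sub, ← Module.End.mul_apply v cc, hvc, LinearMap.zero_apply, sub_zero] at h0
    exact h0
  · obtain ⟨x, hx, hx'⟩ := hn c
    refine ⟨x, hx, Units.ext ?_⟩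
    rw [Units.val_mul, el_val, el_val, coe_dev x, hx', hz0', hA, hB]
    simp only [add_mul, mul_add, sub_mul, mul_sub, one_mul, mul_one, smul_mul_assoc, mul_smul_comm,
      mul_assoc, hz, ze, fz, fe, hzz, hze, hfz, hfe, mul_zero, smul_zero, sub_zero, add_zero, smul_sub]
    abel

/-- The case `szs = 0`. -/
theorem reduce_zero (hcl : ∀ ρ ∈ Cfsg.minimalQuadraticElements G, IsRootClass G ρ)
    (hG : Cfsg.IsQuadraticPair G) {z : EndM} (hz : z * z = 0)
    (hf : ∀ c : k, el z hz c ∈ G) (hσ : σ ∈ Cfsg.minimalQuadraticElements G)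
    (hne : zc z (dev σ) ≠ 0) (hq : dev σ * z * dev σ = 0) : Reduces G z hz := by
  have hss := sq_zero hσ
  set s := dev σ with hs
  set w := z * s - s * z with hw
  set p := z * s * z with hp
  have hszs : s * (z * s) = 0 := by rw [← mul_assoc, hq]
  have hszs' : ∀ x : EndM, s * (z * (s * x)) = 0 := fun x => by
    rw [← mul_assoc z, ← mul_assoc, hszs, zero_mul]
  have hss' : ∀ x : EndM, s * (s * x) = 0 := fun x => by rw [← mul_assoc, hss, zero_mul]
  have hzz' : ∀ x : EndM, z * (z * x) = 0 := fun x => by rw [← mul_assoc, hz, zero_mul]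
  let u : k → GLM := fun c => el z hz c * σ * (el z hz c)⁻¹ * σ⁻¹
  have hu : ∀ c, u c ∈ rootGroup G := fun c =>
    mul_mem (conj_mem_rootGroup (hf c) (minimal_mem_rootGroup hσ)) (inv_mem (minimal_mem_rootGroup hσ))
  have hdu : ∀ c : k, dev (u c) = c • w - (c * c) • p := by
    intro c
    have hd : dev (el z hz c * σ * (el z hz c)⁻¹) = conjDev s z c := by
      have := dev_conj_el hss hz c
      rwa [el_one hσ] at this
    rw [dev_mul, hd, dev_inv_of_sq hss, ← hs, conjDev, hw, hp]
    simp only [add_mul, sub_mul, mul_neg, smul_sub, smul_mul_assoc, mul_assoc, hss, hszs, hszs',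
      mul_zero, smul_zero, sub_zero, neg_zero, zero_add, add_zero, zero_sub]
    abel
  have hprod : ∀ a b c d : k, (a • w + b • p) * (c • w + d • p) = 0 := by
    intro a b c d
    simp only [hw, hp, add_mul, mul_add, sub_mul, mul_sub, smul_mul_assoc, mul_smul_comm, mul_assoc,
      hss, hz, hszs, hszs', hss', hzz', mul_zero, smul_zero, sub_zero, add_zero, sub_self]
  have hpf : ∀ c : k, ∃ g ∈ rootGroup G, dev g = c • p := by
    have hsq : ∀ a : k, ∃ g ∈ rootGroup G, dev g = (-2 * (a * a)) • p := by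
      intro a
      refine ⟨u a * u (-a), mul_mem (hu _) (hu _), ?_⟩
      rw [dev_mul, hdu, hdu, sub_eq_add_neg, ← neg_smul, sub_eq_add_neg ((-a) • w), ← neg_smul,
        hprod, zero_add]
      match_scalars <;> ring
    intro c
    obtain ⟨g₁, hg₁, e₁⟩ := hsq ((c / (-2) + 1) / 2)
    obtain ⟨g₂, hg₂, e₂⟩ := hsq ((c / (-2) - 1) / 2)
    have hsq2 : dev g₂ * dev g₂ = 0 := by
      rw [e₂]
      have := hprod 0 (-2 * (((c / (-2) - 1) / 2) * ((c / (-2) - 1) / 2))) 0
        (-2 * (((c / (-2) - 1) / 2) * ((c / (-2) - 1) / 2)))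
      simpa using this
    refine ⟨g₁ * g₂⁻¹, mul_mem hg₁ (inv_mem hg₂), ?_⟩
    rw [dev_mul, dev_inv_of_sq hsq2, e₁, e₂]
    have hpp : p * p = 0 := by simpa using hprod 0 1 0 1
    simp only [mul_neg, smul_mul_assoc, mul_smul_comm, hpp, smul_zero, neg_zero, zero_add]
    match_scalars
    field_simp
    ring
  have hwf : ∀ c : k, ∃ g ∈ rootGroup G, dev g = c • w := by
    intro c
    obtain ⟨g, hg, hg'⟩ := hpf (c * c)
    refine ⟨u c * g, mul_mem (hu c) hg, ?_⟩
    rw [dev_mul, hdu, hg']
    have := hprod c (-(c * c)) 0 (c * c)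
    rw [zero_smul, zero_add, neg_smul, ← sub_eq_add_neg] at this
    rw [this, zero_add, sub_add_cancel]
  have hw0 : w ≠ 0 := hne
  rcases eq_or_ne p 0 with hp0 | hp0
  · have hzsz : z * (s * z) = 0 := by rw [← mul_assoc, ← hp, hp0]
    have hrk : Module.finrank k (LinearMap.range w) ≤ Module.finrank k (LinearMap.range s) := by
      have := (rank_zc_aux (s := s) (t := z) (by rw [← hp, hp0]) hz).1
      rwa [show w = -zc s z by rw [hw, zc, neg_sub], LinearMap.range_neg]
    have hww : w * w = 0 := by simpa using hprod 1 0 1 0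
    have hδ := minimal_of_family hσ hww hw0 (fun c => by
      obtain ⟨g, hg, hg'⟩ := hwf c; exact ⟨g, rootGroup_le hg, hg'⟩) hrk
    have hd : dev (el w hww 1 : GLM) = w := by rw [dev_el, one_smul]
    refine reduce_of_root hk2 hk3 hcl hG hz hf hδ ?_ ?_ fun m hm => ?_
    · rw [hd, hw, mul_sub, hzz', hzsz, sub_zero]
    · rw [hd, hw, sub_mul, mul_assoc, hzsz, mul_assoc, hz, mul_zero, sub_zero]
    · rw [hd, hw]
      refine ⟨s m, ?_⟩
      simp [Module.End.mul_apply, hm]
  · have hrk : Module.finrank k (LinearMap.range p) ≤ Module.finrank k (LinearMap.range s) := by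
      rw [hp, mul_assoc, Module.End.mul_eq_comp, LinearMap.range_comp]
      exact (Submodule.finrank_map_le _ _).trans (Submodule.finrank_mono (LinearMap.range_comp_le_range _ _))
    have hpp : p * p = 0 := by simpa using hprod 0 1 0 1
    have hδ := minimal_of_family hσ hpp hp0 (fun c => by
      obtain ⟨g, hg, hg'⟩ := hpf c; exact ⟨g, rootGroup_le hg, hg'⟩) hrk
    have hd : dev (el p hpp 1 : GLM) = p := by rw [dev_el, one_smul]
    refine reduce_of_root hk2 hk3 hcl hG hz hf hδ ?_ ?_ fun m hm => ?_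
    · rw [hd, hp, mul_assoc, hzz']
    · rw [hd, hp, mul_assoc, hz, mul_zero]
    · rw [hd, hp]
      exact ⟨s (z m), rfl⟩

/-- If `szs ≠ 0` then `sz` is injective on the range of `s`. -/
theorem sz_injective {z : EndM} (hz : z * z = 0) (hf : ∀ c : k, el z hz c ∈ G)
    (hA : IsRootClass G σ) (hq : dev σ * z * dev σ ≠ 0) :
    dev σ * z * dev σ * z * dev σ ≠ 0 ∧
      ∀ m, dev σ (z (dev σ m)) = 0 → dev σ m = 0 := by
  have hss := sq_zero hA.1
  have hmin : ∀ c : k, el z hz c * σ * (el z hz c)⁻¹ ∈ Cfsg.minimalQuadraticElements G := fun c =>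
    conj_minimal (hf c) hA.1
  have hd : ∀ c : k, dev (el z hz c * σ * (el z hz c)⁻¹) = conjDev (dev σ) z c := fun c => by
    have := dev_conj_el hss hz c
    rwa [el_one hA.1] at this
  set s := dev σ with hs
  have hT2 : s * z * s * z * s ∈ devSpace hA := by
    have h := sts_mem_devSpace hk2 hk3 hA (hmin 1)
    rw [← hs, hd, s_conjDev hss] at h
    rw [sub_mul, smul_mul_assoc, smul_mul_assoc, mul_assoc (s * z) s s, hss, mul_zero, smul_zero,
      zero_sub, one_mul, one_smul] at h
    exact neg_mem_iff.1 h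
  have hne : s * z * s * z * s ≠ 0 := by
    intro h0
    have hnil : ∀ c : k, IsNilpotent (zz s (conjDev s z c)) := by
      intro c
      refine ⟨2, ?_⟩
      have hyy : conjDev s z c * conjDev s z c = 0 := conjDev_sq hss hz c
      have hsys : s * conjDev s z c * s = 0 := by
        rw [s_conjDev hss, sub_mul, smul_mul_assoc, smul_mul_assoc, mul_assoc (s * z) s s, hss,
          mul_zero, smul_zero, h0, smul_zero, sub_zero]
      have hysys : conjDev s z c * s * (conjDev s z c * s) = 0 := by
        rw [← mul_assoc, mul_assoc _ s (conjDev s z c), mul_assoc, hsys, mul_zero]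
      rw [pow_two, zz_sq hss hyy, hsys, zero_mul, zero_add, mul_assoc (conjDev s z c * s), hysys]
    -- the commutators of `σ` with its conjugates
    have hcm : ∀ c : k, ∃ u ∈ G, dev u = (2 * c) • (s * z * s) -
        (c * c) • (s * (z * (s * z)) - z * (s * (z * s))) := by
      intro c
      refine ⟨σ * (el z hz c * σ * (el z hz c)⁻¹) * σ⁻¹ * (el z hz c * σ * (el z hz c)⁻¹)⁻¹,
        mul_mem (mul_mem (mul_mem hA.1.1.1 (hmin c).1.1) (inv_mem hA.1.1.1)) (inv_mem (hmin c).1.1), ?_⟩
      have hn : IsNilpotent (zz (dev σ) (dev (el z hz c * σ * (el z hz c)⁻¹))) := by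
        rw [← hs, hd]; exact hnil c
      rw [dev_comm_pair hk2 hA.1 (hmin c) hn, ← hs, hd, zc, s_conjDev hss, conjDev_s hss]
      simp only [mul_assoc, smul_sub]
      module
    have hqD : s * z * s ∈ devSpace hA := by
      refine mem_devSpace_of_family hA ?_ ?_ fun c => ?_
      · rw [← hs, mul_assoc, Module.End.mul_eq_comp]; exact LinearMap.range_comp_le_range _ _
      · intro m hm
        rw [LinearMap.mem_ker, Module.End.mul_apply, show s m = 0 from hm, map_zero]
      · obtain ⟨u₁, hu₁, e₁⟩ := hcm (c / 4)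
        obtain ⟨u₂, hu₂, e₂⟩ := hcm (-(c / 4))
        have hz5 : s * (z * (s * (z * s))) = 0 := by simpa [mul_assoc] using h0
        have hz5' : ∀ x : EndM, s * (z * (s * (z * (s * x)))) = 0 := fun x => by
          rw [← mul_assoc z s x, ← mul_assoc s (z * s), ← mul_assoc z (s * (z * s)), ← mul_assoc,
            hz5, zero_mul]
        have hQ : ∀ a b a' b' : k, (a • (s * (z * s)) - b • (s * (z * (s * z)) - z * (s * (z * s)))) *
            (a' • (s * (z * s)) - b' • (s * (z * (s * z)) - z * (s * (z * s)))) = 0 := by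
          intro a b a' b'
          simp only [add_mul, mul_add, sub_mul, mul_sub, smul_mul_assoc, mul_smul_comm, mul_assoc,
            mul_tail hss, mul_tail hz, hss, hz, hz5, hz5', zero_mul, mul_zero, smul_zero, sub_zero,
            add_zero, sub_self]
        have hsq2 : dev u₂ * dev u₂ = 0 := by
          rw [e₂, mul_assoc s z s]
          exact hQ _ _ _ _
        refine ⟨u₁ * u₂⁻¹, mul_mem hu₁ (inv_mem hu₂), ?_⟩
        have h12 : dev u₁ * dev u₂ = 0 := by
          rw [e₁, e₂, mul_assoc s z s]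
          exact hQ _ _ _ _
        rw [dev_mul, dev_inv_of_sq hsq2, mul_neg, h12, neg_zero, zero_add, e₁, e₂]
        have h4 : (4 : k) ≠ 0 := by
          rw [show (4 : k) = 2 * 2 by norm_num]; exact mul_ne_zero hk2 hk2
        match_scalars <;> field_simp <;> ring
    refine hq (LinearMap.ext fun m => ?_)
    have h1 : (s * z * s) (z (s m)) = 0 := by
      simpa [Module.End.mul_apply] using LinearMap.congr_fun h0 m
    have h2 := (ker_eq_of_devSpace hA hqD hq).le h1
    exact h2
  refine ⟨hne, fun m hm => ?_⟩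
  have h1 : (s * z * s * z * s) m = 0 := by simp [Module.End.mul_apply, hm]
  exact (ker_eq_of_devSpace hA hT2 hne).le h1

/-- The case `szs ≠ 0`. -/
theorem reduce_nonzero {z : EndM} (hz : z * z = 0) (hf : ∀ c : k, el z hz c ∈ G)
    (hA : IsRootClass G σ) (hq : dev σ * z * dev σ ≠ 0) : Reduces G z hz := by
  have hσ := hA.1
  have hss := sq_zero hσ
  obtain ⟨hT, hinj⟩ := sz_injective hk2 hk3 hz hf hA hq
  set s := dev σ with hs
  set V := LinearMap.range s with hV
  let L : V →ₗ[k] V := ((s * z).restrict (p := V) (q := V) fun x _ => ⟨z x, rfl⟩)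
  have hLinj : Function.Injective L := by
    rw [injective_iff_map_eq_zero]
    rintro ⟨_, m, rfl⟩ hx
    exact Subtype.ext (hinj m (congrArg Subtype.val hx))
  set Linv := (LinearEquiv.ofBijective L ⟨hLinj, LinearMap.injective_iff_surjective.1 hLinj⟩).symm
  set a : EndM := V.subtype ∘ₗ Linv.toLinearMap ∘ₗ s.rangeRestrict with ha
  have haV : ∀ m, a m ∈ V := fun m => (Linv (s.rangeRestrict m)).2
  have hsza : ∀ m, s (z (a m)) = s m := fun m =>
    congrArg Subtype.val ((LinearEquiv.ofBijective L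
      ⟨hLinj, LinearMap.injective_iff_surjective.1 hLinj⟩).apply_symm_apply (s.rangeRestrict m))
  have has : ∀ m, a (s m) = 0 := fun m => by
    have h0 : s.rangeRestrict (s m) = 0 := Subtype.ext (LinearMap.congr_fun hss m)
    simp [ha, h0]
  have haa : a * a = 0 := LinearMap.ext fun m => by
    obtain ⟨x, hx⟩ := haV m
    rw [Module.End.mul_apply, ← hx, has]; rfl
  have haza : a * z * a = a := LinearMap.ext fun m => by
    obtain ⟨x, hx⟩ := haV m
    obtain ⟨y, hy⟩ := haV (z (a m))
    have h : s (z (a (z (a m)) - a m)) = 0 := by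
      rw [map_sub, map_sub, hsza, sub_self]
    rw [← hy, ← hx, ← map_sub] at h
    have h0 := hinj _ h
    rw [map_sub, hy, hx, sub_eq_zero] at h0
    exact h0
  have hakr : LinearMap.ker a = LinearMap.ker s := by
    refine le_antisymm (fun m hm => ?_) fun m hm => ?_
    · rw [LinearMap.mem_ker, ← hsza, LinearMap.mem_ker.1 hm, map_zero, map_zero]
    · have h0 : s.rangeRestrict m = 0 := Subtype.ext hm
      simp [ha, h0]
  have harg : LinearMap.range a = V := by
    refine Submodule.eq_of_le_of_finrank_le (fun x ⟨m, hm⟩ => hm ▸ haV m) ?_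
    have h1 := a.finrank_range_add_finrank_ker
    have h2 := s.finrank_range_add_finrank_ker
    rw [hakr] at h1
    rw [hV]; omega
  -- the pairs `σ` and its conjugate
  obtain ⟨t, ht0, ht2⟩ := exists_sq_ne_one hk2 hk3
  have haz : a * (z * a) = a := by rw [← mul_assoc, haza]
  have haz' : ∀ x : EndM, a * (z * (a * x)) = a * x := fun x => by
    rw [← mul_assoc z, ← mul_assoc, haz]
  have haa' : ∀ x : EndM, a * (a * x) = 0 := fun x => by rw [← mul_assoc, haa, zero_mul]
  have hzz' : ∀ x : EndM, z * (z * x) = 0 := fun x => by rw [← mul_assoc, hz, zero_mul]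
  obtain ⟨e, he⟩ : ∃ e : EndM, e = a * z := ⟨_, rfl⟩
  obtain ⟨f, hf'⟩ : ∃ f : EndM, f = z * a := ⟨_, rfl⟩
  have htor : ∀ μ : k, μ ≠ 0 → ∃ h ∈ rootGroup G,
      dev h = (t - 1) • (e - μ⁻¹ • a) + (t⁻¹ - 1) • (f + μ⁻¹ • a) := by
    intro μ hμ
    set τ := el z hz μ * σ * (el z hz μ)⁻¹ with hτd
    have hτ : τ ∈ Cfsg.minimalQuadraticElements G := conj_minimal (hf μ) hσ
    have hdτ : dev τ = conjDev s z μ := by
      have := dev_conj_el hss hz μ
      rwa [el_one hσ] at this
    have hzn : ¬ IsNilpotent (zz s (dev τ)) := by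
      intro hn
      have h := (sts_of_nilpotent hk2 hσ hτ hn).1
      rw [← hs, hdτ, s_conjDev hss, sub_mul, smul_mul_assoc, smul_mul_assoc, mul_assoc (s * z) s s,
        hss, mul_zero, smul_zero, zero_sub, neg_eq_zero, smul_eq_zero] at h
      exact h.elim (fun h => mul_ne_zero hμ hμ h) hT
    obtain ⟨r, hrR, hrK, -, hsrs, hrsr, hh⟩ := partner_torus hk2 hk3 hσ hτ hzn
    obtain ⟨h, hhG, hhd⟩ := hh t ht0
    refine ⟨h, hhG, hhd.trans ?_⟩
    set g : GLM := el z hz μ with hg
    set r' : EndM := (-(μ * μ)⁻¹) • ((g : EndM) * a * ((g⁻¹ : GLM) : EndM)) with hr'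
    have hμμ : -(μ * μ)⁻¹ ≠ 0 := neg_ne_zero.2 (inv_ne_zero (mul_ne_zero hμ hμ))
    have hrR' : LinearMap.range r' = LinearMap.range r := by
      rw [hr', LinearMap.range_smul _ _ hμμ, range_conj, harg, hrR, hτd, dev_conj, range_conj]
    have hrK' : LinearMap.ker r' = LinearMap.ker r := by
      rw [hr', LinearMap.ker_smul _ _ hμμ, ker_conj, hakr, hrK, hτd, dev_conj, ker_conj]
    have hval : (g : EndM) = 1 + μ • z := el_val _ _ _
    have hval' : ((g⁻¹ : GLM) : EndM) = 1 - μ • z := inv_el _ _ _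
    have he' : a * r' = e - μ⁻¹ • a := by
      rw [hr', hval, hval', he]
      simp only [add_mul, mul_sub, mul_add, one_mul, mul_one, smul_mul_assoc, mul_smul_comm,
        mul_assoc, haa, haa', haz, haz', smul_zero, sub_zero, zero_add, smul_sub, smul_smul]
      match_scalars <;> field_simp
    have hf'' : r' * a = f + μ⁻¹ • a := by
      rw [hr', hval, hval', hf']
      simp only [add_mul, sub_mul, mul_sub, one_mul, mul_one, smul_mul_assoc, mul_smul_comm,
        mul_assoc, haa, haa', haz, haz', mul_zero, smul_zero, sub_zero, zero_sub, smul_sub,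
        smul_smul, smul_add, smul_neg]
      match_scalars <;> field_simp
    have e1 : a * r' * a = a := by
      rw [he', he, sub_mul, smul_mul_assoc, mul_assoc, haz, haa, smul_zero, sub_zero]
    have e2 : r' * a * r' = r' := by
      rw [hf'', hf', hr', hval, hval']
      simp only [add_mul, mul_sub, sub_mul, mul_add, one_mul, mul_one, smul_mul_assoc, mul_smul_comm,
        mul_assoc, haa, haa', hz, hzz', haz, haz', mul_zero, smul_zero, sub_zero, zero_add, add_zero,
        smul_sub, smul_add, smul_smul]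
      match_scalars <;> field_simp <;> ring
    have hE : s * r = a * r' := by
      refine LinearMap.ext fun m => ?_
      have hk : m - (s * r) m ∈ LinearMap.ker r' := by
        rw [hrK', LinearMap.mem_ker, map_sub, sub_eq_zero]
        exact (LinearMap.congr_fun hrsr m).symm
      have h1 : (a * r') ((s * r) m) = (s * r) m := by
        obtain ⟨x, hx⟩ := harg.ge ⟨r m, rfl⟩
        rw [Module.End.mul_apply s r, ← hx]
        exact LinearMap.congr_fun e1 x
      calc (s * r) m = (a * r') ((s * r) m) + a (r' (m - (s * r) m)) := by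
            rw [LinearMap.mem_ker.1 hk, map_zero, add_zero, h1]
        _ = (a * r') m := by
            rw [← Module.End.mul_apply a r', ← map_add, add_sub_cancel]
    have hF : r * s = r' * a := by
      refine LinearMap.ext fun m => ?_
      have hk : m - (r * s) m ∈ LinearMap.ker a := by
        rw [hakr, LinearMap.mem_ker, map_sub, sub_eq_zero]
        exact (LinearMap.congr_fun hsrs m).symm
      have h1 : (r' * a) ((r * s) m) = (r * s) m := by
        obtain ⟨x, hx⟩ := hrR'.ge ⟨s m, rfl⟩
        rw [Module.End.mul_apply r s, ← hx]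
        exact LinearMap.congr_fun e2 x
      calc (r * s) m = (r' * a) ((r * s) m) + r' (a (m - (r * s) m)) := by
            rw [LinearMap.mem_ker.1 hk, map_zero, add_zero, h1]
        _ = (r' * a) m := by
            rw [← Module.End.mul_apply r' a, ← map_add, add_sub_cancel]
    rw [hE, hF, he', hf'']
  have haf : ∀ c : k, el a haa c ∈ rootGroup G := by
    intro c
    rcases eq_or_ne c 0 with rfl | hc
    · rw [show el a haa (0 : k) = (1 : GLM) from Units.ext (by simp [el_val])]; exact one_mem _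
    set μ : k := 2 * (1 - t * t) / c with hμd
    have h1t : (1 : k) - t * t ≠ 0 := sub_ne_zero.2 fun h => ht2 (by linear_combination -h)
    have hμ : μ ≠ 0 := div_ne_zero (mul_ne_zero hk2 h1t) hc
    obtain ⟨h₁, hh₁, d₁⟩ := htor μ hμ
    obtain ⟨h₂, hh₂, d₂⟩ := htor (-μ) (neg_ne_zero.2 hμ)
    have hkey : (el a haa c : GLM) * h₂ = h₁ := by
      refine Units.ext ?_
      rw [Units.val_mul, el_val, coe_dev h₁, coe_dev h₂, d₁, d₂, he, hf']
      simp only [add_mul, mul_add, mul_sub, one_mul, mul_one, smul_mul_assoc, mul_smul_comm,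
        mul_assoc, haa, haa', haz, haz', smul_zero, sub_zero, add_zero, zero_add, smul_sub, smul_add,
        smul_smul]
      match_scalars <;> (first | ring1 | (rw [hμd]; field_simp; ring))
    rw [eq_mul_inv_of_mul_eq hkey]
    exact mul_mem hh₁ (inv_mem hh₂)
  set r := z * a * z with hr
  have hrr : r * r = 0 := by
    simp only [hr, mul_assoc, hzz', mul_zero]
  obtain ⟨n, hn⟩ : ∃ n : GLM, n = el z hz 1 * el a haa 1 * (el z hz 1)⁻¹ * el a haa 2 := ⟨_, rfl⟩
  have hnG : n ∈ rootGroup G := hn ▸ mul_mem (conj_mem_rootGroup (hf 1) (haf 1)) (haf 2)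
  have hnv : (n : EndM) = 1 + a - f - e - r := by
    rw [hn, Units.val_mul, Units.val_mul, Units.val_mul, el_val, el_val, el_val, inv_el, one_smul,
      one_smul, he, hf', hr]
    simp only [add_mul, mul_sub, sub_mul, mul_add, one_mul, mul_one, smul_mul_assoc, mul_smul_comm,
      mul_assoc, haa, haa', haz, haz', hz, hzz', mul_zero, smul_zero, sub_zero, add_zero, zero_add,
      smul_sub, smul_add]
    module
  have hnr : ∀ c : k, el r hrr c ∈ rootGroup G := by
    intro c
    have : n * el a haa (-c) = el r hrr c * n := by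
      refine Units.ext ?_
      rw [Units.val_mul, Units.val_mul, el_val, el_val, hnv, he, hf', hr]
      simp only [add_mul, mul_sub, sub_mul, mul_add, one_mul, mul_one, smul_mul_assoc, mul_smul_comm,
        mul_assoc, haa, haa', haz, haz', hz, hzz', mul_zero, smul_zero, sub_zero, add_zero, zero_add,
        neg_smul, smul_neg, mul_neg, neg_mul, neg_zero, smul_sub, smul_add]
      module
    rw [eq_mul_inv_of_mul_eq this.symm]
    exact mul_mem (mul_mem hnG (haf _)) (inv_mem hnG)
  set z' := z - r with hz'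
  have hz'z : z' * z' = 0 := by
    simp only [hz', hr, sub_mul, mul_sub, mul_assoc, hz, hzz', mul_zero, sub_zero]
  refine ⟨z', hz'z, ?_, fun c => ⟨el r hrr c, hnr c, Units.ext ?_⟩⟩
  · have hle : LinearMap.ker z ≤ LinearMap.ker z' := fun m hm => by
      rw [LinearMap.mem_ker, hz', hr, LinearMap.sub_apply, Module.End.mul_apply,
        Module.End.mul_apply, LinearMap.mem_ker.1 hm, map_zero, map_zero, sub_zero]
    have hlt : LinearMap.ker z < LinearMap.ker z' := by
      refine lt_of_le_of_ne hle fun h => hq (LinearMap.ext fun m => ?_)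
      have h1 : a m ∈ LinearMap.ker z' := by
        rw [LinearMap.mem_ker, hz', hr, LinearMap.sub_apply, mul_assoc, Module.End.mul_apply,
          ← Module.End.mul_apply (a * z) a, haza, sub_self]
      rw [← h, LinearMap.mem_ker] at h1
      have h2 := hsza m
      rw [h1, map_zero] at h2
      simp [Module.End.mul_apply, ← h2]
    have h1 := Submodule.finrank_lt_finrank_of_lt hlt
    have h2 := z.finrank_range_add_finrank_ker
    have h3 := z'.finrank_range_add_finrank_ker
    omega
  · rw [Units.val_mul, el_val, el_val, el_val, hz', hr]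
    simp only [add_mul, mul_add, mul_sub, one_mul, mul_one, smul_mul_assoc, mul_smul_comm,
      mul_assoc, hz, hzz', mul_zero, smul_zero, sub_zero, add_zero, smul_sub]
    abel

/-- A quadratic element lies in the product of the root group and its centraliser. -/
theorem quadratic_mem (hcl : ∀ ρ ∈ Cfsg.minimalQuadraticElements G, IsRootClass G ρ)
    (hG : Cfsg.IsQuadraticPair G) : ∀ (n : ℕ) {z : EndM} (hz : z * z = 0),
    Module.finrank k (LinearMap.range z) ≤ n → (∀ c : k, el z hz c ∈ G) →
    ∀ c : k, el z hz c ∈ rootGroup G ⊔ (G ⊓ Subgroup.centralizer (rootGroup G : Set GLM)) := by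
  intro n
  induction n using Nat.strong_induction_on with
  | _ n ih =>
    intro z hz hn hf c
    by_cases hall : ∀ ρ ∈ Cfsg.minimalQuadraticElements G, zc z (dev ρ) = 0
    · refine Subgroup.mem_sup_right ⟨hf c, ?_⟩
      refine Subgroup.le_centralizer_iff.1 (?_ : rootGroup G ≤ Subgroup.centralizer
        ((Subgroup.zpowers (el z hz c) : Subgroup GLM) : Set GLM)) (Subgroup.mem_zpowers _)
      rw [Subgroup.zpowers_eq_closure, Subgroup.centralizer_closure]
      refine iSup₂_le ?_
      rintro _ ⟨σ, hσ, rfl⟩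
      rw [Cfsg.sameActionSubgroup, Subgroup.closure_le]
      intro x hx
      refine Subgroup.mem_centralizer_singleton_iff.2 (commute_of_zc ?_).symm
      rw [dev_el, zc, smul_mul_assoc, mul_smul_comm, ← smul_sub,
        show z * dev x - dev x * z = 0 from hall x hx.1, smul_zero]
    · push Not at hall
      obtain ⟨σ, hσ, hne⟩ := hall
      have hred : Reduces G z hz := by
        by_cases hq : dev σ * z * dev σ = 0
        · exact reduce_zero hk2 hk3 hcl hG hz hf hσ hne hq
        · exact reduce_nonzero hk2 hk3 hz hf (hcl σ hσ) hq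
      obtain ⟨z', hz', hlt, hh⟩ := hred
      have hf' : ∀ d : k, el z' hz' d ∈ G := fun d => by
        obtain ⟨h, hh', e⟩ := hh d
        rw [eq_inv_mul_of_mul_eq e.symm]
        exact mul_mem (inv_mem (rootGroup_le hh')) (hf d)
      obtain ⟨h, hh', e⟩ := hh c
      rw [e]
      exact mul_mem (Subgroup.mem_sup_left hh') (ih _ (by omega) hz' le_rfl hf' c)

/-- The whole group is the product of the root group and its centraliser. -/
theorem group_eq (hcl : ∀ ρ ∈ Cfsg.minimalQuadraticElements G, IsRootClass G ρ)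
    (hG : Cfsg.IsQuadraticPair G) :
    rootGroup G ⊔ (G ⊓ Subgroup.centralizer (rootGroup G : Set GLM)) = G := by
  refine le_antisymm (sup_le rootGroup_le inf_le_left) ?_
  conv_lhs => rw [← hG.2]
  refine (Subgroup.closure_le _).2 fun y hy => ?_
  obtain ⟨-, ⟨h2, -⟩, hfam⟩ := hy
  have h2' : dev y * dev y = 0 := h2
  have h := quadratic_mem hk2 hk3 hcl hG _ h2' le_rfl (fun c => hfam ⟨c, rfl⟩) 1
  rwa [show el (dev y) h2' (1 : k) = y from Units.ext (by rw [el_val, one_smul, ← coe_dev])] at h

end Cfsg.Agent.QuadPair
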