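import Cfsg.Agent.Lib.QuadPair.RootSet
import Cfsg.Agent.Lib.Timmesfeld.Basic

/-!
In a quadratic pair the elements fixing, for every root subgroup, the set of root subgroups
centralising it centralise every root subgroup: irreducibility leaves no unipotent normal subgroup.
-/

set_option autoImplicit false

namespace Cfsg.Agent.QuadPair

open UniFamily

universe v

variable {k : Type v} [Field k] {M : Type v} [AddCommGroup M] [Module k M] [FiniteDimensional k M]

local notation "GLM" => LinearMap.GeneralLinearGroup k M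
local notation "EndM" => M →ₗ[k] M

variable {G : Subgroup (LinearMap.GeneralLinearGroup k M)}

theorem eq_bot_of_unipotent_normal (hirr : Cfsg.IsIrreducibleFor G) {U : Subgroup GLM}
    (hU : Cfsg.IsUnipotentOn U) (hn : ∀ g ∈ G, ∀ x ∈ U, g * x * g⁻¹ ∈ U) : U = ⊥ := by
  obtain ⟨n, hn'⟩ := hU
  obtain ⟨m₀, hm₀⟩ := hirr.1
  obtain ⟨v, hv0, hv⟩ : ∃ v : M, v ≠ 0 ∧ ∀ g ∈ U, dev g v = 0 := by
    by_contra hne
    push Not at hne
    have : ∀ j, ∃ l : List GLM, (∀ g ∈ l, g ∈ U) ∧ l.length = j ∧ (l.map dev).prod m₀ ≠ 0 := by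
      intro j
      induction j with
      | zero => exact ⟨[], by simp, rfl, by simpa using hm₀⟩
      | succ j ih =>
        obtain ⟨l, hl, hlen, hl0⟩ := ih
        obtain ⟨g, hg, hg0⟩ := hne _ hl0
        exact ⟨g :: l, by simpa [hg] using hl, by simp [hlen],
          by rw [List.map_cons, List.prod_cons, Module.End.mul_apply]; exact hg0⟩
    obtain ⟨l, hl, hlen, hl0⟩ := this n
    refine hl0 ?_
    rw [show (l.map dev).prod = 0 from (prod_dev l).symm.trans (hn' l hl hlen)]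
    rfl
  have hinv : ∀ g ∈ G, ∀ w ∈ Cfsg.fixedSubmodule U, (g : EndM) w ∈ Cfsg.fixedSubmodule U := by
    intro g hg w hw
    simp only [Cfsg.fixedSubmodule, Submodule.mem_iInf, LinearMap.mem_ker] at hw ⊢
    intro x hx
    have h : dev (g⁻¹ * x * g⁻¹⁻¹) w = 0 := hw _ (hn _ (inv_mem hg) x hx)
    rw [dev_conj, inv_inv, Module.End.mul_apply, Module.End.mul_apply] at h
    exact (injective_iff_map_eq_zero _).1 (gl_injective g⁻¹) _ h
  have hvmem : v ∈ Cfsg.fixedSubmodule U := by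
    simp only [Cfsg.fixedSubmodule, Submodule.mem_iInf, LinearMap.mem_ker]
    exact hv
  rcases hirr.2 _ hinv with h | h
  · exact absurd ((Submodule.mem_bot k).1 (h ▸ hvmem)) hv0
  · refine (Subgroup.eq_bot_iff_forall U).2 fun x hx => dev_eq_zero (LinearMap.ext fun m => ?_)
    have hm : m ∈ Cfsg.fixedSubmodule U := h ▸ Submodule.mem_top
    simp only [Cfsg.fixedSubmodule, Submodule.mem_iInf, LinearMap.mem_ker] at hm
    exact hm x hx

theorem centralizing_conj {S : Set (Subgroup GLM)} {g : GLM}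
    (h : ∀ A ∈ S, Cfsg.conjBy A g ∈ S) (A : Subgroup GLM) {B : Subgroup GLM}
    (hB : B ∈ Cfsg.centralizingMembers S A) :
    Cfsg.conjBy B g ∈ Cfsg.centralizingMembers S (Cfsg.conjBy A g) := by
  refine ⟨h B hB.1, ?_⟩
  rintro _ ⟨b, hb, rfl⟩
  refine Subgroup.mem_centralizer_iff.2 ?_
  rintro _ ⟨a, ha, rfl⟩
  have := Subgroup.mem_centralizer_iff.1 (hB.2 hb) a ha
  show MulAut.conj g a * MulAut.conj g b = MulAut.conj g b * MulAut.conj g a
  rw [← map_mul, ← map_mul, this]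

theorem centralizing_conj_eq {S : Set (Subgroup GLM)} {g : GLM}
    (h : ∀ A ∈ S, Cfsg.conjBy A g ∈ S) (h' : ∀ A ∈ S, Cfsg.conjBy A g⁻¹ ∈ S) (A : Subgroup GLM) :
    Cfsg.centralizingMembers S (Cfsg.conjBy A g) =
      (fun B => Cfsg.conjBy B g) '' Cfsg.centralizingMembers S A := by
  ext B
  constructor
  · intro hB
    refine ⟨Cfsg.conjBy B g⁻¹, ?_, ?_⟩
    · have := centralizing_conj h' _ hB
      rwa [Timmesfeld.conjBy_conjBy, inv_mul_cancel, Timmesfeld.conjBy_one] at this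
    · show Cfsg.conjBy (Cfsg.conjBy B g⁻¹) g = B
      rw [Timmesfeld.conjBy_conjBy, mul_inv_cancel, Timmesfeld.conjBy_one]
  · rintro ⟨C, hC, rfl⟩
    exact centralizing_conj h A hC

/-- The root subgroups with the same centralising set as `A`. -/
def sameCentral (S : Set (Subgroup (LinearMap.GeneralLinearGroup k M)))
    (A : Subgroup (LinearMap.GeneralLinearGroup k M)) :
    Set (Subgroup (LinearMap.GeneralLinearGroup k M)) :=
  {C | C ∈ S ∧ Cfsg.centralizingMembers S C = Cfsg.centralizingMembers S A}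

variable (hk2 : ringChar k ≠ 2) (hk3 : Nat.card k ≠ 3) (hG : Cfsg.IsQuadraticPair G)
include hk2 hk3 hG

theorem unipotent_member {A : Subgroup GLM} (hA : A ∈ Cfsg.quadraticRootSubgroups G) :
    Cfsg.IsUnipotentOn A := by
  obtain ⟨σ, hσ, rfl⟩ := hA
  refine unipotent_of_algebra (N := devSpace (rootClass hk2 hk3 hG hσ)) (m := 2) ?_
    fun g hg => ⟨g, hg, rfl⟩
  rw [pow_two, ← le_bot_iff, Submodule.mul_le]
  rintro _ ⟨a, ha, rfl⟩ _ ⟨b, hb, rfl⟩
  exact (Submodule.mem_bot k).2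
    (class_mul hσ ((rootClass hk2 hk3 hG hσ).2 ▸ ha) ((rootClass hk2 hk3 hG hσ).2 ▸ hb))

theorem self_mem_centralizing {A : Subgroup GLM} (hA : A ∈ Cfsg.quadraticRootSubgroups G) :
    A ∈ Cfsg.centralizingMembers (Cfsg.quadraticRootSubgroups G) A := by
  refine ⟨hA, ?_⟩
  obtain ⟨σ, hσ, rfl⟩ := hA
  intro a ha
  refine Subgroup.mem_centralizer_iff.2 fun b hb => ?_
  exact congrArg Subtype.val
    ((rootClass_comm hk2 hk3 hG hσ).is_comm.comm ⟨b, hb⟩ ⟨a, ha⟩)

theorem commute_of_sameCentral {A B C : Subgroup GLM}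
    (hB : B ∈ sameCentral (Cfsg.quadraticRootSubgroups G) A)
    (hC : C ∈ sameCentral (Cfsg.quadraticRootSubgroups G) A) : B ≤ Subgroup.centralizer (C : Set GLM) := by
  have h := self_mem_centralizing hk2 hk3 hG hB.1
  rw [hB.2, ← hC.2] at h
  exact h.2

theorem unipotent_sameCentral (A : Subgroup GLM) :
    Cfsg.IsUnipotentOn (⨆ C ∈ sameCentral (Cfsg.quadraticRootSubgroups G) A, C) := by
  refine unipotent_iSup (fun B hB C hC => ?_) (fun B hB C hC g hg => ?_)
  · exact unipotent_sup (unipotent_member hk2 hk3 hG hB.1) (unipotent_member hk2 hk3 hG hC.1)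
      ((commute_of_sameCentral hk2 hk3 hG hB hC).trans (Subgroup.centralizer_le_normalizer _))
  · rw [Timmesfeld.conjBy_of_centralizes fun x hx =>
      (Subgroup.mem_centralizer_iff.1 (commute_of_sameCentral hk2 hk3 hG hB hC hg) x hx).symm]
    exact hC

/-- The kernel of the action on the centralising sets centralises the root subgroups. -/
theorem commute_of_fixes_centralizing {g : GLM} (hgG : g ∈ G)
    (hg : ∀ A ∈ Cfsg.quadraticRootSubgroups G,
      Cfsg.centralizingMembers (Cfsg.quadraticRootSubgroups G) (Cfsg.conjBy A g) =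
        Cfsg.centralizingMembers (Cfsg.quadraticRootSubgroups G) A) :
    ∀ A ∈ Cfsg.quadraticRootSubgroups G, ∀ a ∈ A, g * a = a * g := by
  set S := Cfsg.quadraticRootSubgroups G with hS
  have hconj : ∀ {x : GLM}, x ∈ G → ∀ A ∈ S, Cfsg.conjBy A x ∈ S := fun {x} hx A hA =>
    conj_mem_sigma hA hx
  let Fix : GLM → Prop := fun x => ∀ A ∈ S,
    Cfsg.centralizingMembers S (Cfsg.conjBy A x) = Cfsg.centralizingMembers S A
  have hmul : ∀ {x y}, x ∈ G → y ∈ G → Fix x → Fix y → Fix (x * y) := fun {x y} _ hy fx fy A hA => by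
    rw [← Timmesfeld.conjBy_conjBy, fx _ (hconj hy A hA), fy A hA]
  have hinv : ∀ {x}, x ∈ G → Fix x → Fix x⁻¹ := fun {x} hx fx A hA => by
    have := fx _ (hconj (inv_mem hx) A hA)
    rw [Timmesfeld.conjBy_conjBy, mul_inv_cancel, Timmesfeld.conjBy_one] at this
    exact this.symm
  let K : Subgroup GLM :=
    { carrier := {x | x ∈ G ∧ Fix x}
      one_mem' := ⟨one_mem _, fun A _ => by rw [Timmesfeld.conjBy_one]⟩
      mul_mem' := fun {x y} hx hy => ⟨mul_mem hx.1 hy.1, hmul hx.1 hy.1 hx.2 hy.2⟩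
      inv_mem' := fun {x} hx => ⟨inv_mem hx.1, hinv hx.1 hx.2⟩ }
  have hKnorm : ∀ {y x}, y ∈ G → x ∈ K → y * x * y⁻¹ ∈ K := by
    intro y x hy hx
    refine ⟨mul_mem (mul_mem hy hx.1) (inv_mem hy), fun A hA => ?_⟩
    have e : Cfsg.conjBy A (y * x * y⁻¹) = Cfsg.conjBy (Cfsg.conjBy (Cfsg.conjBy A y⁻¹) x) y := by
      rw [Timmesfeld.conjBy_conjBy, Timmesfeld.conjBy_conjBy, mul_assoc]
    rw [e, centralizing_conj_eq (hconj hy) (hconj (inv_mem hy)),
      hx.2 _ (hconj (inv_mem hy) A hA), ← centralizing_conj_eq (hconj hy) (hconj (inv_mem hy)),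
      Timmesfeld.conjBy_conjBy, mul_inv_cancel, Timmesfeld.conjBy_one]
  let U : Subgroup GLM → Subgroup GLM := fun A => ⨆ C ∈ sameCentral S A, C
  let P : Subgroup GLM → Subgroup GLM := fun A => K ⊓ U A
  have hUconj : ∀ {y : GLM}, y ∈ G → ∀ A ∈ S, ∀ z ∈ U A, y * z * y⁻¹ ∈ U (Cfsg.conjBy A y) := by
    intro y hy A _ z hz
    have hle : U A ≤ (U (Cfsg.conjBy A y)).comap (MulAut.conj y).toMonoidHom := by
      refine iSup₂_le fun C hC c hc => ?_
      have hC' : Cfsg.conjBy C y ∈ sameCentral S (Cfsg.conjBy A y) := ⟨hconj hy C hC.1, by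
        rw [centralizing_conj_eq (hconj hy) (hconj (inv_mem hy)),
          centralizing_conj_eq (hconj hy) (hconj (inv_mem hy)), hC.2]⟩
      exact le_iSup₂_of_le (f := fun (C : Subgroup GLM) (_ : C ∈ sameCentral S (Cfsg.conjBy A y)) => C)
        _ hC' le_rfl ⟨c, hc, rfl⟩
    exact hle hz
  have hUsame : ∀ {A B : Subgroup GLM},
      Cfsg.centralizingMembers S A = Cfsg.centralizingMembers S B → U A = U B := fun {A B} h => by
    simp only [U, sameCentral, h]
  have hPnorm : ∀ A ∈ S, ∀ B ∈ S, P A ≤ Subgroup.normalizer (P B : Set GLM) := by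
    intro A _ B hB x hx
    have key : ∀ y ∈ K, ∀ z ∈ P B, y * z * y⁻¹ ∈ P B := fun y hy z hz =>
      ⟨hKnorm hy.1 hz.1, hUsame (hy.2 B hB) ▸ hUconj hy.1 B hB z hz.2⟩
    refine Subgroup.mem_normalizer_iff.2 fun z => ⟨key x hx.1 z, fun h => ?_⟩
    have := key x⁻¹ (inv_mem hx.1) _ h
    rwa [show x⁻¹ * (x * z * x⁻¹) * x⁻¹⁻¹ = z by group] at this
  let W : Set (Subgroup GLM) := P '' S
  have hW : Cfsg.IsUnipotentOn (⨆ B ∈ W, B) := by
    refine unipotent_iSup ?_ ?_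
    · rintro _ ⟨A, hA, rfl⟩ _ ⟨B, hB, rfl⟩
      exact unipotent_sup (mono inf_le_right (unipotent_sameCentral hk2 hk3 hG A))
        (mono inf_le_right (unipotent_sameCentral hk2 hk3 hG B)) (hPnorm A hA B hB)
    · rintro _ ⟨A, hA, rfl⟩ _ ⟨B, hB, rfl⟩ y hy
      refine ⟨B, hB, ?_⟩
      ext z
      rw [Timmesfeld.mem_conjBy]
      have := (Subgroup.mem_normalizer_iff.1 (hPnorm A hA B hB (inv_mem hy)) z)
      rwa [inv_inv] at this
  have hbot := eq_bot_of_unipotent_normal hG.1 hW fun y hy z hz => by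
    have hle : (⨆ B ∈ W, B) ≤ (⨆ B ∈ W, B).comap (MulAut.conj y).toMonoidHom := by
      refine iSup₂_le ?_
      rintro _ ⟨A, hA, rfl⟩ z hz
      exact le_iSup₂_of_le (f := fun (B : Subgroup GLM) (_ : B ∈ W) => B) _
        ⟨Cfsg.conjBy A y, hconj hy A hA, rfl⟩ le_rfl ⟨hKnorm hy hz.1, hUconj hy A hA z hz.2⟩
    exact hle hz
  intro A hA a ha
  have haG : a ∈ G := by
    obtain ⟨σ, -, rfl⟩ := hA
    exact sameAction_le_G G σ ha
  have hgK : g ∈ K := ⟨hgG, hg⟩
  have hy : g * a * g⁻¹ * a⁻¹ ∈ P A := by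
    refine ⟨?_, ?_⟩
    · rw [show g * a * g⁻¹ * a⁻¹ = g * (a * g⁻¹ * a⁻¹) by group]
      exact mul_mem hgK (hKnorm haG (inv_mem hgK))
    · show g * a * g⁻¹ * a⁻¹ ∈ U A
      refine mul_mem ?_ (inv_mem ?_)
      · exact le_iSup₂_of_le (f := fun (C : Subgroup GLM) (_ : C ∈ sameCentral S A) => C) _
          (⟨hconj hgG A hA, hg A hA⟩ : Cfsg.conjBy A g ∈ sameCentral S A) le_rfl ⟨a, ha, rfl⟩
      · exact le_iSup₂_of_le (f := fun (C : Subgroup GLM) (_ : C ∈ sameCentral S A) => C) A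
          ⟨hA, rfl⟩ le_rfl ha
  have h1 : g * a * g⁻¹ * a⁻¹ ∈ (⊥ : Subgroup GLM) :=
    hbot ▸ le_iSup₂_of_le (f := fun (B : Subgroup GLM) (_ : B ∈ W) => B) _ ⟨A, hA, rfl⟩ le_rfl hy
  exact mul_inv_eq_iff_eq_mul.1 (mul_inv_eq_one.1 (Subgroup.mem_bot.1 h1))

end Cfsg.Agent.QuadPair
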