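import Mathlib
import Cfsg.Agent.Lib.RootClass.DicksonAlphaInf

/-!
Two opposite root groups over a field `k`, one of them twisted by a generator of a finite
`k`-algebra `R`: either `R` is a field and they generate `SL₂(R)`, or deep terms of the lower
central series contain a transvection with a non-zero non-invertible parameter.
-/

set_option autoImplicit false

namespace Cfsg.Agent.QuadPair

open Matrix

section Basic

variable {R : Type*} [CommRing R]

local notation "SLR" => Matrix.SpecialLinearGroup (Fin 2) R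
local notation "MR" => Matrix (Fin 2) (Fin 2) R

/-- Upper transvection. -/
def uR (r : R) : SLR := ⟨!![1, r; 0, 1], by simp [Matrix.det_fin_two]⟩

/-- Lower transvection. -/
def lR (r : R) : SLR := ⟨!![1, 0; r, 1], by simp [Matrix.det_fin_two]⟩

theorem uR_val (r : R) : ((uR r : SLR) : MR) = !![1, r; 0, 1] := rfl

theorem lR_val (r : R) : ((lR r : SLR) : MR) = !![1, 0; r, 1] := rfl

theorem ext4 {x y : MR} (h00 : x 0 0 = y 0 0) (h01 : x 0 1 = y 0 1) (h10 : x 1 0 = y 1 0)
    (h11 : x 1 1 = y 1 1) : x = y := by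
  ext i j; fin_cases i <;> fin_cases j <;> assumption

theorem ext_sl {x y : SLR} (h00 : (x : MR) 0 0 = (y : MR) 0 0) (h01 : (x : MR) 0 1 = (y : MR) 0 1)
    (h10 : (x : MR) 1 0 = (y : MR) 1 0) (h11 : (x : MR) 1 1 = (y : MR) 1 1) : x = y :=
  Subtype.ext (ext4 h00 h01 h10 h11)

theorem mul_00 (x y : SLR) : ((x * y : SLR) : MR) 0 0 =
    (x : MR) 0 0 * (y : MR) 0 0 + (x : MR) 0 1 * (y : MR) 1 0 := by
  simp [Matrix.mul_apply, Fin.sum_univ_two]

theorem mul_01 (x y : SLR) : ((x * y : SLR) : MR) 0 1 =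
    (x : MR) 0 0 * (y : MR) 0 1 + (x : MR) 0 1 * (y : MR) 1 1 := by
  simp [Matrix.mul_apply, Fin.sum_univ_two]

theorem mul_10 (x y : SLR) : ((x * y : SLR) : MR) 1 0 =
    (x : MR) 1 0 * (y : MR) 0 0 + (x : MR) 1 1 * (y : MR) 1 0 := by
  simp [Matrix.mul_apply, Fin.sum_univ_two]

theorem mul_11 (x y : SLR) : ((x * y : SLR) : MR) 1 1 =
    (x : MR) 1 0 * (y : MR) 0 1 + (x : MR) 1 1 * (y : MR) 1 1 := by
  simp [Matrix.mul_apply, Fin.sum_univ_two]

theorem det_eq (x : SLR) : (x : MR) 0 0 * (x : MR) 1 1 - (x : MR) 0 1 * (x : MR) 1 0 = 1 := by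
  rw [← Matrix.det_fin_two]; exact x.2

theorem uR_mul (a b : R) : (uR a : SLR) * uR b = uR (a + b) := by
  apply ext_sl <;> simp [uR_val, Matrix.mul_apply, Fin.sum_univ_two, add_comm]

theorem lR_mul (a b : R) : (lR a : SLR) * lR b = lR (a + b) := by
  apply ext_sl <;> simp [lR_val, Matrix.mul_apply, Fin.sum_univ_two]

theorem uR_zero : (uR 0 : SLR) = 1 := by apply ext_sl <;> simp [uR_val]

theorem lR_zero : (lR 0 : SLR) = 1 := by apply ext_sl <;> simp [lR_val]

theorem uR_inv (a : R) : (uR a : SLR)⁻¹ = uR (-a) :=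
  inv_eq_of_mul_eq_one_right (by rw [uR_mul, add_neg_cancel, uR_zero])

theorem lR_inv (a : R) : (lR a : SLR)⁻¹ = lR (-a) :=
  inv_eq_of_mul_eq_one_right (by rw [lR_mul, add_neg_cancel, lR_zero])

theorem uR_injective : Function.Injective (uR : R → SLR) := fun a b h => by
  simpa [uR_val] using congrArg (fun x : SLR => (x : MR) 0 1) h

theorem map_uR {S : Type*} [CommRing S] (f : R →+* S) (r : R) :
    Matrix.SpecialLinearGroup.map f (uR r) = uR (f r) := by
  apply ext_sl <;> simp [uR_val]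

theorem map_lR {S : Type*} [CommRing S] (f : R →+* S) (r : R) :
    Matrix.SpecialLinearGroup.map f (lR r) = lR (f r) := by
  apply ext_sl <;> simp [lR_val]

theorem map_apply' {S : Type*} [CommRing S] (f : R →+* S) (x : SLR) (i j : Fin 2) :
    ((Matrix.SpecialLinearGroup.map f x : Matrix.SpecialLinearGroup (Fin 2) S) :
      Matrix (Fin 2) (Fin 2) S) i j = f ((x : MR) i j) := rfl

/-- `x` is a scalar matrix squaring to one. -/
def IsZ (x : SLR) : Prop :=
  (x : MR) 0 1 = 0 ∧ (x : MR) 1 0 = 0 ∧ (x : MR) 0 0 = (x : MR) 1 1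

theorem IsZ.commute {x : SLR} (h : IsZ x) (y : SLR) : Commute x y := by
  obtain ⟨h1, h2, h3⟩ := h
  apply ext_sl <;>
    simp only [mul_00, mul_01, mul_10, mul_11, h1, h2, h3] <;> ring

/-- If the commutator of `x` with a transvection is central then they commute. -/
theorem commute_of_isZ {x : SLR} {r : R} (h2 : IsUnit (2 : R)) (h : IsZ (x * uR r * x⁻¹ * (uR r)⁻¹)) :
    x * uR r = uR r * x := by
  set z := x * uR r * x⁻¹ * (uR r)⁻¹ with hz
  obtain ⟨h1, h1', h3⟩ := h
  have e : x * uR r * x⁻¹ = z * uR r := by rw [hz]; group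
  have htr : Matrix.trace ((x * uR r * x⁻¹ : SLR) : MR) = 2 := by
    rw [Matrix.SpecialLinearGroup.coe_mul, Matrix.SpecialLinearGroup.coe_mul, Matrix.trace_mul_cycle,
      ← Matrix.SpecialLinearGroup.coe_mul, inv_mul_cancel, Matrix.SpecialLinearGroup.coe_one,
      one_mul, uR_val, Matrix.trace_fin_two]
    norm_num
  rw [e, Matrix.trace_fin_two, mul_00, mul_11, h1, h1', uR_val] at htr
  simp [← h3] at htr
  have hz1 : (z : MR) 0 0 = 1 := by
    have : (2 : R) * (z : MR) 0 0 = 2 * 1 := by rw [mul_one, two_mul]; exact htr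
    exact h2.mul_left_cancel this
  have : z = 1 := by
    apply ext_sl <;> simp [h1, h1', hz1, ← h3]
  rw [this, one_mul, mul_inv_eq_iff_eq_mul] at e
  exact e

theorem commute_of_isZ' {x : SLR} {r : R} (h2 : IsUnit (2 : R)) (h : IsZ (x * lR r * x⁻¹ * (lR r)⁻¹)) :
    x * lR r = lR r * x := by
  set z := x * lR r * x⁻¹ * (lR r)⁻¹ with hz
  obtain ⟨h1, h1', h3⟩ := h
  have e : x * lR r * x⁻¹ = z * lR r := by rw [hz]; group
  have htr : Matrix.trace ((x * lR r * x⁻¹ : SLR) : MR) = 2 := by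
    rw [Matrix.SpecialLinearGroup.coe_mul, Matrix.SpecialLinearGroup.coe_mul, Matrix.trace_mul_cycle,
      ← Matrix.SpecialLinearGroup.coe_mul, inv_mul_cancel, Matrix.SpecialLinearGroup.coe_one,
      one_mul, lR_val, Matrix.trace_fin_two]
    norm_num
  rw [e, Matrix.trace_fin_two, mul_00, mul_11, h1, h1', lR_val] at htr
  simp [← h3] at htr
  have hz1 : (z : MR) 0 0 = 1 := by
    have : (2 : R) * (z : MR) 0 0 = 2 * 1 := by rw [mul_one, two_mul]; exact htr
    exact h2.mul_left_cancel this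
  have : z = 1 := by
    apply ext_sl <;> simp [h1, h1', hz1, ← h3]
  rw [this, one_mul, mul_inv_eq_iff_eq_mul] at e
  exact e

theorem shape_of_commute_uR {x : SLR} (h : x * uR 1 = uR 1 * x) :
    (x : MR) 1 0 = 0 ∧ (x : MR) 0 0 = (x : MR) 1 1 := by
  have e00 := congrArg (fun y : SLR => (y : MR) 0 0) h
  have e01 := congrArg (fun y : SLR => (y : MR) 0 1) h
  simp [mul_00, mul_01, uR_val] at e00 e01
  refine ⟨e00, ?_⟩
  linear_combination e01

theorem shape_of_commute_lR {x : SLR} {r : R} (hr : IsUnit r) (h : x * lR r = lR r * x) :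
    (x : MR) 0 1 = 0 ∧ (x : MR) 0 0 = (x : MR) 1 1 := by
  have e00 := congrArg (fun y : SLR => (y : MR) 0 0) h
  have e10 := congrArg (fun y : SLR => (y : MR) 1 0) h
  simp [mul_00, mul_10, lR_val] at e00 e10
  have h01 : (x : MR) 0 1 = 0 := by
    have : r * (x : MR) 0 1 = 0 := by linear_combination e00
    exact (hr.mul_right_eq_zero).1 this
  refine ⟨h01, ?_⟩
  have : r * ((x : MR) 0 0 - (x : MR) 1 1) = 0 := by linear_combination -e10
  exact sub_eq_zero.1 ((hr.mul_right_eq_zero).1 this)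

theorem sq_of_upper {x : SLR} (h10 : (x : MR) 1 0 = 0) (hd : (x : MR) 0 0 = (x : MR) 1 1) :
    x * x = uR (2 * (x : MR) 0 0 * (x : MR) 0 1) := by
  have hdet := det_eq x
  rw [h10, mul_zero, sub_zero, ← hd] at hdet
  apply ext_sl <;> simp [mul_00, mul_01, mul_10, mul_11, uR_val, h10, ← hd, hdet] <;> ring

theorem sq_of_lower {x : SLR} (h01 : (x : MR) 0 1 = 0) (hd : (x : MR) 0 0 = (x : MR) 1 1) :
    x * x = lR (2 * (x : MR) 0 0 * (x : MR) 1 0) := by
  have hdet := det_eq x
  rw [h01, zero_mul, sub_zero, ← hd] at hdet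
  apply ext_sl <;> simp [mul_00, mul_01, mul_10, mul_11, lR_val, h01, ← hd, hdet] <;> ring

/-- The matrix of `scale`. -/
def scaleFun (c : Rˣ) (x : SLR) : SLR :=
  ⟨!![(x : MR) 0 0, c * (x : MR) 0 1; ↑c⁻¹ * (x : MR) 1 0, (x : MR) 1 1], by
    have h : (c : R) * ↑c⁻¹ = 1 := c.mul_inv
    have hdet := det_eq x
    rw [Matrix.det_fin_two]; simp
    linear_combination hdet - (x : MR) 0 1 * (x : MR) 1 0 * h⟩

theorem scaleFun_val (c : Rˣ) (x : SLR) : ((scaleFun c x : SLR) : MR) =
    !![(x : MR) 0 0, c * (x : MR) 0 1; ↑c⁻¹ * (x : MR) 1 0, (x : MR) 1 1] := rfl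

/-- Scaling of the second basis vector. -/
def scale (c : Rˣ) : SLR →* SLR where
  toFun := scaleFun c
  map_one' := by apply ext_sl <;> simp [scaleFun_val]
  map_mul' x y := by
    have h : (c : R) * ↑c⁻¹ = 1 := c.mul_inv
    apply ext_sl <;> simp [scaleFun_val, mul_00, mul_01, mul_10, mul_11]
    · linear_combination -((x : MR) 0 1 * (y : MR) 1 0) * h
    · ring
    · ring
    · linear_combination -((x : MR) 1 0 * (y : MR) 0 1) * h

theorem scale_val (c : Rˣ) (x : SLR) : ((scale c x : SLR) : MR) =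
    !![(x : MR) 0 0, c * (x : MR) 0 1; ↑c⁻¹ * (x : MR) 1 0, (x : MR) 1 1] := rfl

theorem scale_uR (c : Rˣ) (r : R) : scale c (uR r) = uR (c * r) := by
  apply ext_sl <;> simp [scale_val, uR_val]

theorem scale_lR (c : Rˣ) (r : R) : scale c (lR r) = lR (↑c⁻¹ * r) := by
  apply ext_sl <;> simp [scale_val, lR_val]

end Basic

section FieldLemmas

variable {F : Type*} [Field F]

local notation "SLF" => Matrix.SpecialLinearGroup (Fin 2) F
local notation "MF" => Matrix (Fin 2) (Fin 2) F

theorem two_sided (a : F) (ha : a ≠ 0) :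
    ∃ w : SLF, (w : MF) = !![0, a; -a⁻¹, 0] ∧ w = uR a * lR (-a⁻¹) * uR a := by
  refine ⟨⟨!![0, a; -a⁻¹, 0], by simp [Matrix.det_fin_two, ha]⟩, rfl, ?_⟩
  apply ext_sl <;> simp [mul_00, mul_01, mul_10, mul_11, uR_val, lR_val, ha]

/-- The diagonal element `diag(t, t⁻¹)`. -/
def tor (t : F) (ht : t ≠ 0) : SLF := ⟨!![t, 0; 0, t⁻¹], by simp [Matrix.det_fin_two, ht]⟩

theorem tor_val (t : F) (ht : t ≠ 0) : ((tor t ht : SLF) : MF) = !![t, 0; 0, t⁻¹] := rfl

theorem tor_conj_uR (t : F) (ht : t ≠ 0) (x : F) :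
    tor t ht * uR x * (tor t ht)⁻¹ = uR (t ^ 2 * x) := by
  rw [mul_inv_eq_iff_eq_mul]
  apply ext_sl <;> simp [mul_00, mul_01, mul_10, mul_11, uR_val, tor_val]
  field_simp

theorem tor_conj_lR (t : F) (ht : t ≠ 0) (x : F) :
    tor t ht * lR x * (tor t ht)⁻¹ = lR (x / t ^ 2) := by
  rw [mul_inv_eq_iff_eq_mul]
  apply ext_sl <;> simp [mul_00, mul_01, mul_10, mul_11, lR_val, tor_val]
  field_simp

theorem uR_mem_of_lR {N : Subgroup SLF} (hN : N.Normal) {x : F} (hx : lR x ∈ N) : uR (-x) ∈ N := by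
  obtain ⟨w, hw, -⟩ := two_sided (1 : F) one_ne_zero
  have : w * lR x * w⁻¹ = uR (-x) := by
    rw [mul_inv_eq_iff_eq_mul]
    apply ext_sl <;> simp [mul_00, mul_01, mul_10, mul_11, uR_val, lR_val, hw]
  exact this ▸ hN.conj_mem _ hx w

theorem normal_step {N : Subgroup SLF} (hN : N.Normal) (h2 : (2 : F) ≠ 0) {t : F} (ht : t ≠ 0)
    (ht2 : t ^ 2 ≠ 1) {g : SLF} (hg : g ∈ N) (hc : (g : MF) 1 0 ≠ 0)
    (hT : (g : MF) 0 0 + (g : MF) 1 1 ≠ 0) : ∃ x, x ≠ 0 ∧ lR x ∈ N := by
  set c := (g : MF) 1 0 with hcd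
  set x₀ := -(g : MF) 0 0 / c
  set g' := uR x₀ * g * (uR x₀)⁻¹ with hg'd
  have hg' : g' ∈ N := hN.conj_mem _ hg _
  have e00 : (g' : MF) 0 0 = 0 := by
    rw [hg'd, uR_inv]; simp [mul_00, mul_01, uR_val, x₀, ← hcd]; field_simp; ring
  have e10 : (g' : MF) 1 0 = c := by
    rw [hg'd, uR_inv]; simp [mul_10, mul_11, uR_val, ← hcd]
  have e11 : (g' : MF) 1 1 = (g : MF) 0 0 + (g : MF) 1 1 := by
    rw [hg'd, uR_inv]; simp [mul_10, mul_11, uR_val, x₀, ← hcd]; field_simp
  have hdet := det_eq g'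
  rw [e00, e10, zero_mul, zero_sub] at hdet
  set T := (g : MF) 0 0 + (g : MF) 1 1
  -- the commutator with the torus is lower triangular
  set m := tor t ht * g' * (tor t ht)⁻¹ * g'⁻¹ with hm
  have hmN : m ∈ N := mul_mem (hN.conj_mem _ hg' _) (inv_mem hg')
  have hti : (((tor t ht)⁻¹ : SLF) : MF) = !![t⁻¹, 0; 0, t] := by
    rw [Matrix.SpecialLinearGroup.coe_inv, tor_val, Matrix.adjugate_fin_two]; simp
  have hgi : ((g'⁻¹ : SLF) : MF) = !![T, -(g' : MF) 0 1; -c, 0] := by
    rw [Matrix.SpecialLinearGroup.coe_inv, Matrix.adjugate_fin_two, e00, e10, e11]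
  have hm00 : (m : MF) 0 0 = t ^ 2 := by
    rw [hm]; simp only [mul_00, mul_01, tor_val, hti, hgi]
    simp [e00]
    linear_combination (t ^ 2) * hdet
  have hm01 : (m : MF) 0 1 = 0 := by
    rw [hm]; simp only [mul_00, mul_01, tor_val, hti, hgi]
    simp [e00]
  have hm10 : (m : MF) 1 0 = c * T * ((t ^ 2)⁻¹ - 1) := by
    rw [hm]; simp only [mul_10, mul_11, tor_val, hti, hgi]
    simp [e10, e11]
    field_simp
    ring
  have hm11 : (m : MF) 1 1 = (t ^ 2)⁻¹ := by
    rw [hm]; simp only [mul_10, mul_11, tor_val, hti, hgi]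
    simp [e10]
    field_simp
    linear_combination hdet
  by_cases h4 : t ^ 2 = (t ^ 2)⁻¹
  · refine ⟨2 * (t ^ 2) * (c * T * ((t ^ 2)⁻¹ - 1)), ?_, ?_⟩
    · exact mul_ne_zero (mul_ne_zero h2 (pow_ne_zero 2 ht))
        (mul_ne_zero (mul_ne_zero hc hT) (sub_ne_zero.2 (h4 ▸ ht2)))
    · have := mul_mem hmN hmN
      rwa [sq_of_lower hm01 (by rw [hm00, hm11, ← h4]), hm00, hm10] at this
  · refine ⟨(t ^ 2)⁻¹ / t ^ 2 - 1, ?_, ?_⟩
    · rw [sub_ne_zero, Ne, div_eq_one_iff_eq (pow_ne_zero 2 ht)]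
      exact fun h => h4 h.symm
    · have hl : m * lR 1 * m⁻¹ * (lR 1)⁻¹ ∈ N := by
        have := mul_mem hmN (hN.conj_mem _ (inv_mem hmN) (lR 1))
        simpa only [mul_assoc] using this
      have e : m * lR 1 = lR ((t ^ 2)⁻¹ / t ^ 2) * m := by
        apply ext_sl <;> simp [mul_00, mul_01, mul_10, mul_11, lR_val, hm00, hm01, hm10, hm11]
        field_simp
        ring
      rwa [e, mul_inv_cancel_right, lR_inv, lR_mul, ← sub_eq_add_neg] at hl

/-- A normal subgroup of `SL₂(F)` which is not scalar contains a transvection. -/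
theorem exists_upp_of_normal {N : Subgroup SLF} (hN : N.Normal) (h2 : (2 : F) ≠ 0) {t : F}
    (ht : t ≠ 0) (ht2 : t ^ 2 ≠ 1) {g : SLF} (hg : g ∈ N) (hz : ¬ IsZ g) :
    ∃ x, x ≠ 0 ∧ uR x ∈ N := by
  suffices h : ∃ x, x ≠ 0 ∧ lR x ∈ N by
    obtain ⟨x, hx, hxN⟩ := h
    exact ⟨-x, neg_ne_zero.2 hx, uR_mem_of_lR hN hxN⟩
  -- first make the lower left entry non-zero
  obtain ⟨g, hg, hc⟩ : ∃ g : SLF, g ∈ N ∧ (g : MF) 1 0 ≠ 0 := by
    by_contra hno
    push Not at hno
    obtain ⟨w, hw, -⟩ := two_sided (1 : F) one_ne_zero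
    have hwi : ((w⁻¹ : SLF) : MF) = !![0, -1; 1, 0] := by
      rw [Matrix.SpecialLinearGroup.coe_inv, hw, Matrix.adjugate_fin_two]; simp
    have h10 := hno g hg
    have h01 : (g : MF) 0 1 = 0 := by
      have := hno _ (hN.conj_mem _ hg w)
      simpa [mul_10, mul_11, hw, hwi] using this
    refine hz ⟨h01, h10, ?_⟩
    have := hno _ (hN.conj_mem _ hg (lR 1))
    rw [lR_inv] at this
    simp [mul_10, mul_11, lR_val, h01, h10] at this
    linear_combination this
  by_cases hT : (g : MF) 0 0 + (g : MF) 1 1 = 0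
  swap
  · exact normal_step hN h2 ht ht2 hg hc hT
  set c := (g : MF) 1 0 with hcd
  obtain ⟨x, hx0, hx⟩ : ∃ x : F, x ≠ 0 ∧ 2 + c ^ 2 * x ^ 2 ≠ 0 := by
    by_contra hno
    push Not at hno
    have e1 := hno 1 one_ne_zero
    have e2 := hno t ht
    refine ht2 ((mul_right_inj' (pow_ne_zero 2 hc)).1 ?_)
    linear_combination e2 - e1
  have hm : uR x * g * (uR x)⁻¹ * g⁻¹ ∈ N := mul_mem (hN.conj_mem _ hg _) (inv_mem hg)
  have hdet := det_eq g
  rw [← hcd] at hdet
  have hgi : ((g⁻¹ : SLF) : MF) =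
      !![(g : MF) 1 1, -(g : MF) 0 1; -c, (g : MF) 0 0] := by
    rw [Matrix.SpecialLinearGroup.coe_inv, Matrix.adjugate_fin_two]
  refine normal_step hN h2 ht ht2 hm ?_ ?_
  · rw [uR_inv]
    simp [mul_10, mul_11, uR_val, hgi, ← hcd]
    ring_nf
    simp [hc, hx0]
  · intro hh
    refine hx ?_
    rw [uR_inv] at hh
    simp [mul_00, mul_01, mul_10, mul_11, uR_val, hgi, ← hcd] at hh
    linear_combination hh - (2 : F) * hdet

/-- A conjugation invariant additive group of traceless matrices contains a nilpotent element. -/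
theorem exists_upp_of_add {L : AddSubgroup MF} (h2 : (2 : F) ≠ 0)
    (htr : ∀ X ∈ L, X 0 0 + X 1 1 = 0)
    (hconj : ∀ (y : SLF), ∀ X ∈ L, (y : MF) * X * ((y⁻¹ : SLF) : MF) ∈ L) {X : MF} (hX : X ∈ L)
    (hX0 : X ≠ 0) : ∃ x, x ≠ 0 ∧ !![0, x; 0, 0] ∈ L := by
  have hu : ∀ Y ∈ L, !![Y 1 0, Y 1 1 - Y 0 0 - Y 1 0; 0, -Y 1 0] ∈ L := by
    intro Y hY
    have := L.sub_mem (hconj (uR 1) Y hY) hY
    convert this using 1
    rw [uR_inv]
    apply ext4 <;> simp [uR_val, Matrix.mul_apply, Matrix.vecMul, dotProduct, Fin.sum_univ_two] <;> ring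
  by_cases hc : X 1 0 = 0
  · by_cases ha : X 0 0 = 0
    · refine ⟨X 0 1, fun hb => hX0 ?_, ?_⟩
      · have := htr X hX
        apply ext4 <;> simp [hc, ha, hb]
        rw [ha, zero_add] at this; exact this
      · convert hX using 1
        have := htr X hX
        rw [ha, zero_add] at this
        apply ext4 <;> simp [hc, ha, this]
    · refine ⟨-(2 * X 0 0), neg_ne_zero.2 (mul_ne_zero h2 ha), ?_⟩
      convert hu X hX using 1
      have := htr X hX
      apply ext4 <;> simp [hc]
      linear_combination -this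
  · have h1 := hu X hX
    have h2' := hu _ h1
    refine ⟨-(2 * X 1 0), neg_ne_zero.2 (mul_ne_zero h2 hc), ?_⟩
    convert h2' using 1
    apply ext4 <;> simp
    ring

theorem eq_top_grp {k : Type*} [Field k] [Algebra k F] [FiniteDimensional k F] (h2 : (2 : k) ≠ 0)
    (h3 : Nat.card k ≠ 3) {α : F} (hα : α ≠ 0)
    (hgen : Algebra.adjoin k ({α} : Set F) = ⊤) :
    Subgroup.closure (Set.range (fun c : k => uR (algebraMap k F c)) ∪
      Set.range (fun c : k => lR (algebraMap k F c * α))) = ⊤ := by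
  have hgen' : IntermediateField.adjoin k ({α} : Set F) = ⊤ := by
    rw [eq_top_iff]
    intro x _
    have : x ∈ Algebra.adjoin k ({α} : Set F) := hgen ▸ Algebra.mem_top
    exact IntermediateField.algebra_adjoin_le_adjoin k {α} this
  have : DicksonAlpha.grp (k := k) α = ⊤ := by
    cases finite_or_infinite k with
    | inl hf =>
      haveI : Finite F := Module.finite_of_finite k
      exact DicksonAlpha.finite_case h2 h3 hgen' hα
    | inr hi => exact DicksonAlpha.infinite_case α h2 hgen' hα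
  exact this

theorem exists_sq_ne_one {k : Type*} [Field k] (h2 : (2 : k) ≠ 0) (h3 : Nat.card k ≠ 3) :
    ∃ t : k, t ≠ 0 ∧ t ^ 2 ≠ 1 := by
  classical
  by_contra hno
  push Not at hno
  have hall : ∀ t : k, t = 0 ∨ t = 1 ∨ t = -1 := by
    intro t
    by_cases h : t = 0
    · exact Or.inl h
    · exact Or.inr (sq_eq_one_iff.1 (hno t h))
  have h1 : (1 : k) ≠ -1 := fun e => h2 (by linear_combination e)
  refine h3 ?_
  have e : (Set.univ : Set k) = {0, 1, -1} := by
    ext t; simpa using hall t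
  rw [← Set.ncard_univ, e]
  exact Set.ncard_eq_three.2 ⟨0, 1, -1, zero_ne_one, (neg_ne_zero.2 one_ne_zero).symm, h1, rfl⟩

/-- `SL₂(F)` is perfect. -/
theorem lcs_eq_top (h2 : (2 : F) ≠ 0) {t : F} (ht : t ≠ 0) (ht2 : t ^ 2 ≠ 1) (n : ℕ) :
    Subgroup.lowerCentralSeries (⊤ : Subgroup SLF) n = ⊤ := by
  induction n with
  | zero => exact Subgroup.lowerCentralSeries_zero _
  | succ n ih =>
    have hne : t ^ 2 - 1 ≠ 0 := sub_ne_zero.2 ht2
    rw [Subgroup.lowerCentralSeries_succ, ih]
    refine DicksonAlpha.top_of_all (fun x => ?_) fun x => ?_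
    · show uR x ∈ _
      have : tor t ht * uR (x / (t ^ 2 - 1)) * (tor t ht)⁻¹ * (uR (x / (t ^ 2 - 1)))⁻¹ = uR x := by
        rw [tor_conj_uR, uR_inv, uR_mul]; congr 1; field_simp; ring
      exact this ▸ Subgroup.commutator_mem_commutator (Subgroup.mem_top _) (Subgroup.mem_top _)
    · show lR x ∈ _
      have hne' : (t ^ 2)⁻¹ - 1 ≠ 0 := sub_ne_zero.2 (by simpa using ht2)
      have : tor t ht * lR (x / ((t ^ 2)⁻¹ - 1)) * (tor t ht)⁻¹ * (lR (x / ((t ^ 2)⁻¹ - 1)))⁻¹ = lR x := by
        rw [tor_conj_lR, lR_inv, lR_mul]; congr 1; field_simp; ring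
      exact this ▸ Subgroup.commutator_mem_commutator (Subgroup.mem_top _) (Subgroup.mem_top _)

end FieldLemmas

section Main

variable {k : Type*} [Field k]

/-- The group generated by the two root groups. -/
def rootGrp (k : Type*) [Field k] {R : Type*} [CommRing R] [Algebra k R] (μ : R) :
    Subgroup (Matrix.SpecialLinearGroup (Fin 2) R) :=
  Subgroup.closure (Set.range (fun c : k => uR (algebraMap k R c)) ∪
    Set.range (fun c : k => lR (algebraMap k R c * μ)))

theorem uR_mem_rootGrp {R : Type*} [CommRing R] [Algebra k R] (μ : R) (c : k) :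
    uR (algebraMap k R c) ∈ rootGrp k μ := Subgroup.subset_closure (Or.inl ⟨c, rfl⟩)

theorem lR_mem_rootGrp {R : Type*} [CommRing R] [Algebra k R] (μ : R) (c : k) :
    lR (algebraMap k R c * μ) ∈ rootGrp k μ := Subgroup.subset_closure (Or.inr ⟨c, rfl⟩)

theorem isUnit_two {R : Type*} [CommRing R] [Algebra k R] (h2 : (2 : k) ≠ 0) :
    IsUnit (2 : R) := by
  have := (isUnit_iff_ne_zero.2 h2).map (algebraMap k R)
  rwa [map_ofNat] at this

theorem map_rootGrp {R S : Type*} [CommRing R] [Algebra k R] [CommRing S] [Algebra k S]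
    (f : R →ₐ[k] S) (μ : R) :
    (rootGrp k μ).map (Matrix.SpecialLinearGroup.map (n := Fin 2) (f : R →+* S)) =
      rootGrp k (f μ) := by
  rw [rootGrp, MonoidHom.map_closure, rootGrp]
  congr 1
  rw [Set.image_union, ← Set.range_comp, ← Set.range_comp]
  congr 1 <;> refine congrArg Set.range (funext fun c => ?_)
  · simp [map_uR]
  · simp [map_lR]

theorem field_rootGrp {F : Type*} [Field F] [Algebra k F] [FiniteDimensional k F] (h2 : (2 : k) ≠ 0)
    (h3 : Nat.card k ≠ 3) {μ : F} (hμ : μ ≠ 0) (hgen : Algebra.adjoin k ({μ} : Set F) = ⊤) :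
    rootGrp k μ = ⊤ :=
  eq_top_grp h2 h3 hμ hgen

/-- The residue map of the root group is onto when the kernel is an ideal with field quotient. -/
theorem exists_lift {R F : Type*} [CommRing R] [Algebra k R] [Field F] [Algebra k F]
    [FiniteDimensional k F] (h2 : (2 : k) ≠ 0) (h3 : Nat.card k ≠ 3) (f : R →ₐ[k] F)
    (hf : Function.Surjective f) {μ : R} (hμ : IsUnit μ)
    (hgen : Algebra.adjoin k ({μ} : Set R) = ⊤) (y : Matrix.SpecialLinearGroup (Fin 2) F) :
    ∃ x ∈ rootGrp k μ, Matrix.SpecialLinearGroup.map (f : R →+* F) x = y := by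
  have hgen' : Algebra.adjoin k ({f μ} : Set F) = ⊤ := by
    rw [← Set.image_singleton, Algebra.adjoin_image, hgen, Algebra.map_top, AlgHom.range_eq_top]
    exact hf
  have : y ∈ rootGrp k (f μ) := by
    rw [field_rootGrp h2 h3 (hμ.map f).ne_zero hgen']; exact Subgroup.mem_top y
  rw [← map_rootGrp] at this
  exact this

set_option maxHeartbeats 1600000 in
/-- An injective residue map (up to scalars) forces the algebra to be a field. -/
theorem isField_of_ker {R F : Type*} [CommRing R] [Nontrivial R] [Algebra k R] [Field F]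
    [Algebra k F] [FiniteDimensional k F] (h2 : (2 : k) ≠ 0) (h3 : Nat.card k ≠ 3) (f : R →ₐ[k] F)
    (hf : Function.Surjective f) {μ : R} (hμ : IsUnit μ)
    (hgen : Algebra.adjoin k ({μ} : Set R) = ⊤)
    (hker : ∀ x ∈ rootGrp k μ, Matrix.SpecialLinearGroup.map (f : R →+* F) x = 1 → IsZ x) :
    IsField R := by
  classical
  have h2R : IsUnit (2 : R) := isUnit_two h2
  have h2F : (2 : F) ≠ 0 := (isUnit_two (R := F) h2).ne_zero
  haveI : NeZero (2 : F) := ⟨h2F⟩
  set φ := Matrix.SpecialLinearGroup.map (n := Fin 2) (f : R →+* F) with hφ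
  have hmu : ∀ r, φ (uR r) = uR (f r) := fun r => map_uR _ r
  have hml : ∀ r, φ (lR r) = lR (f r) := fun r => map_lR _ r
  have hfμ : f μ ≠ 0 := (hμ.map f).ne_zero
  have hone : (uR (1 : R)) ∈ rootGrp k μ := by simpa using uR_mem_rootGrp (k := k) μ 1
  have hlam : (lR μ) ∈ rootGrp k μ := by simpa using lR_mem_rootGrp (k := k) μ 1
  -- lifts of transvections are unique up to sign
  have hU : ∀ a : F, ∃ r : R, f r = a ∧ uR r ∈ rootGrp k μ := by
    intro a
    obtain ⟨x, hx, hxa⟩ := exists_lift h2 h3 f hf hμ hgen (uR (a / 2))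
    have hc : x * uR 1 = uR 1 * x := commute_of_isZ h2R <| hker _
      (mul_mem (mul_mem (mul_mem hx hone) (inv_mem hx)) (inv_mem hone)) (by
        rw [map_mul, map_mul, map_mul, map_inv, map_inv, hxa, hmu, map_one,
          uR_inv, uR_inv, uR_mul, uR_mul, uR_mul, ← uR_zero]
        congr 1; ring)
    obtain ⟨h10, hd⟩ := shape_of_commute_uR hc
    refine ⟨2 * (x : Matrix (Fin 2) (Fin 2) R) 0 0 * (x : Matrix (Fin 2) (Fin 2) R) 0 1, ?_,
      by rw [← sq_of_upper h10 hd]; exact mul_mem hx hx⟩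
    refine uR_injective (R := F) ((hmu _).symm.trans ?_)
    rw [← sq_of_upper h10 hd, map_mul, hxa, uR_mul, add_halves]
  have hL : ∀ a : F, ∃ r : R, f r = a ∧ lR r ∈ rootGrp k μ := by
    intro a
    obtain ⟨x, hx, hxa⟩ := exists_lift h2 h3 f hf hμ hgen (lR (a / 2))
    have hc : x * lR μ = lR μ * x := commute_of_isZ' h2R <| hker _
      (mul_mem (mul_mem (mul_mem hx hlam) (inv_mem hx)) (inv_mem hlam)) (by
        rw [map_mul, map_mul, map_mul, map_inv, map_inv, hxa, hml,
          lR_inv, lR_inv, lR_mul, lR_mul, lR_mul, ← lR_zero]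
        congr 1; ring)
    obtain ⟨h01, hd⟩ := shape_of_commute_lR hμ hc
    refine ⟨2 * (x : Matrix (Fin 2) (Fin 2) R) 0 0 * (x : Matrix (Fin 2) (Fin 2) R) 1 0, ?_,
      by rw [← sq_of_lower h01 hd]; exact mul_mem hx hx⟩
    have := hml (2 * (x : Matrix (Fin 2) (Fin 2) R) 0 0 * (x : Matrix (Fin 2) (Fin 2) R) 1 0)
    rw [← sq_of_lower h01 hd, map_mul, hxa, lR_mul, add_halves] at this
    simpa [lR_val] using (congrArg (fun y : Matrix.SpecialLinearGroup (Fin 2) F =>
      (y : Matrix (Fin 2) (Fin 2) F) 1 0) this).symm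
  have huU : ∀ r r' : R, uR r ∈ rootGrp k μ → uR r' ∈ rootGrp k μ → f r = f r' → r = r' := by
    intro r r' hr hr' he
    have hz := hker _ (mul_mem hr (inv_mem hr')) (by
      rw [map_mul, map_inv, hmu, hmu, he, mul_inv_cancel])
    rw [uR_inv, uR_mul] at hz
    simpa [IsZ, uR_val, ← sub_eq_add_neg, sub_eq_zero] using hz.1
  have hlL : ∀ r r' : R, lR r ∈ rootGrp k μ → lR r' ∈ rootGrp k μ → f r = f r' → r = r' := by
    intro r r' hr hr' he
    have hz := hker _ (mul_mem hr (inv_mem hr')) (by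
      rw [map_mul, map_inv, hml, hml, he, mul_inv_cancel])
    rw [lR_inv, lR_mul] at hz
    simpa [IsZ, lR_val, ← sub_eq_add_neg, sub_eq_zero] using hz.2.1
  choose ψ hψf hψ using hU
  choose χ hχf hχ using hL
  have hψadd : ∀ a b, ψ (a + b) = ψ a + ψ b := fun a b =>
    huU _ _ (hψ _) (uR_mul (ψ a) (ψ b) ▸ mul_mem (hψ a) (hψ b)) (by rw [map_add, hψf, hψf, hψf])
  have hψk : ∀ c : k, ψ (algebraMap k F c) = algebraMap k R c := fun c =>
    huU _ _ (hψ _) (uR_mem_rootGrp μ c) (by rw [hψf, f.commutes])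
  have hψ1 : ψ 1 = 1 := by simpa using hψk 1
  -- the Weyl elements
  have hW : ∀ a : F, a ≠ 0 → 1 + ψ a * χ (-a⁻¹) = 0 ∧
      ∀ x : F, χ (-a⁻¹) * ψ x = χ (-x / a ^ 2) * ψ a := by
    intro a ha
    set w := uR (ψ a) * lR (χ (-a⁻¹)) * uR (ψ a) with hw
    have hwm : w ∈ rootGrp k μ := mul_mem (mul_mem (hψ a) (hχ _)) (hψ a)
    have hmw : φ w = uR a * lR (-a⁻¹) * uR a := by
      rw [hw, map_mul, map_mul, hmu, hml, hψf, hχf]
    have key : ∀ x : F, w * uR (ψ x) = lR (χ (-x / a ^ 2)) * w := by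
      intro x
      have hmem : w * uR (ψ x) * w⁻¹ * (lR (χ (-x / a ^ 2)))⁻¹ ∈ rootGrp k μ :=
        mul_mem (mul_mem (mul_mem hwm (hψ x)) (inv_mem hwm)) (inv_mem (hχ _))
      have hz := hker _ hmem (by
        rw [map_mul, map_mul, map_mul, map_inv, map_inv, hmw, hmu, hml, hψf, hχf,
          mul_inv_eq_one, mul_inv_eq_iff_eq_mul]
        apply ext_sl <;> simp [mul_00, mul_01, mul_10, mul_11, uR_val, lR_val, ha] <;>
          field_simp <;> ring)
      set z := w * uR (ψ x) * w⁻¹ * (lR (χ (-x / a ^ 2)))⁻¹ with hzd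
      have e : w * uR (ψ x) * w⁻¹ = z * lR (χ (-x / a ^ 2)) := by rw [hzd]; group
      have htr : Matrix.trace ((w * uR (ψ x) * w⁻¹ : Matrix.SpecialLinearGroup (Fin 2) R) :
          Matrix (Fin 2) (Fin 2) R) = 2 := by
        rw [Matrix.SpecialLinearGroup.coe_mul, Matrix.SpecialLinearGroup.coe_mul,
          Matrix.trace_mul_cycle, ← Matrix.SpecialLinearGroup.coe_mul, inv_mul_cancel,
          Matrix.SpecialLinearGroup.coe_one, one_mul, uR_val, Matrix.trace_fin_two]
        norm_num
      rw [e, Matrix.trace_fin_two, mul_00, mul_11, hz.1, hz.2.1, lR_val] at htr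
      simp [← hz.2.2] at htr
      have hz1 : (z : Matrix (Fin 2) (Fin 2) R) 0 0 = 1 :=
        h2R.mul_left_cancel (by rw [mul_one, two_mul]; exact htr)
      have h1 : z = 1 := by apply ext_sl <;> simp [hz.1, hz.2.1, hz1, ← hz.2.2]
      rw [h1, one_mul, mul_inv_eq_iff_eq_mul] at e
      exact e
    have h00 : 1 + ψ a * χ (-a⁻¹) = 0 := by
      have := congrArg (fun y : Matrix.SpecialLinearGroup (Fin 2) R =>
        (y : Matrix (Fin 2) (Fin 2) R) 0 1) (key 1)
      simp [hw, mul_00, mul_01, mul_10, mul_11, uR_val, lR_val, hψ1] at this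
      linear_combination this
    refine ⟨h00, fun x => ?_⟩
    have := congrArg (fun y : Matrix.SpecialLinearGroup (Fin 2) R =>
      (y : Matrix (Fin 2) (Fin 2) R) 1 1) (key x)
    simp [hw, mul_00, mul_01, mul_10, mul_11, uR_val, lR_val] at this
    linear_combination this + χ (-x / a ^ 2) * ψ a * h00
  have hχ1 : χ (-1) = -1 := by
    have := (hW 1 one_ne_zero).1
    rw [hψ1, one_mul, inv_one] at this
    linear_combination this
  have hχψ : ∀ x, χ (-x) = -ψ x := by
    intro x
    have := (hW 1 one_ne_zero).2 x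
    rw [inv_one, hχ1, one_pow, div_one, hψ1, mul_one] at this
    linear_combination -this
  have hmulinv : ∀ a x, ψ (x * a ^ 2) = ψ x * ψ (a ^ 2) := by
    intro a x
    by_cases ha : a = 0
    · have h0 : ψ 0 = 0 := by simpa using hψk 0
      simp [ha, h0]
    have e1 := (hW a⁻¹ (inv_ne_zero ha)).2 x
    have e2 := (hW a⁻¹ (inv_ne_zero ha)).2 1
    rw [inv_inv, neg_div, hχψ, hχψ] at e1 e2
    rw [hψ1] at e2
    have hu : IsUnit (ψ a⁻¹) := by
      have := (hW a⁻¹ (inv_ne_zero ha)).1
      exact IsUnit.of_mul_eq_one (-χ (-(a⁻¹)⁻¹)) (by linear_combination -this)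
    have e : x / a⁻¹ ^ 2 = x * a ^ 2 := by field_simp
    have e' : (1 : F) / a⁻¹ ^ 2 = a ^ 2 := by field_simp
    rw [e] at e1
    rw [e'] at e2
    refine hu.mul_left_cancel ?_
    linear_combination e1 - ψ x * e2
  have hψneg : ∀ b, ψ (-b) = -ψ b := fun b => by
    have h0 : ψ 0 = 0 := by simpa using hψk 0
    have := hψadd b (-b)
    rw [add_neg_cancel, h0] at this
    linear_combination -this
  have hψmul : ∀ x b, ψ (x * b) = ψ x * ψ b := by
    intro x b
    have e : b = ((b + 1) / 2) ^ 2 + -(((b - 1) / 2) ^ 2) := by field_simp; ring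
    rw [e, mul_add, hψadd, hψadd, mul_neg, hψneg, hψneg, hmulinv, hmulinv]
    ring
  let Ψ : F →ₐ[k] R :=
    { toFun := ψ
      map_one' := hψ1
      map_mul' := hψmul
      map_zero' := by simpa using hψk 0
      map_add' := hψadd
      commutes' := hψk }
  have hμr : Ψ (f μ) = μ := by
    have e := hlL _ _ (hχ (f μ)) hlam (hχf _)
    have := hχψ (-f μ)
    rw [neg_neg, e, hψneg, neg_neg] at this
    exact this.symm
  have hsurj : Function.Surjective Ψ := by
    intro r
    have hr : r ∈ Algebra.adjoin k ({μ} : Set R) := hgen ▸ Algebra.mem_top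
    exact (Algebra.adjoin_le (S := Ψ.range) (by simpa using ⟨f μ, hμr⟩)) hr
  exact MulEquiv.isField (Field.toIsField F)
    (RingEquiv.ofBijective (Ψ : F →+* R) ⟨(Ψ : F →+* R).injective, hsurj⟩).symm.toMulEquiv

theorem lcs_mono_map {G H : Type*} [Group G] [Group H] (f : G →* H) (K : Subgroup G) (n : ℕ) :
    (Subgroup.lowerCentralSeries K n).map f = Subgroup.lowerCentralSeries (K.map f) n := by
  induction n with
  | zero => simp
  | succ n ih =>
    rw [Subgroup.lowerCentralSeries_succ, Subgroup.lowerCentralSeries_succ, Subgroup.map_commutator,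
      ih]

theorem lcs_le {G : Type*} [Group G] (K : Subgroup G) (n : ℕ) :
    Subgroup.lowerCentralSeries K n ≤ K := by
  induction n with
  | zero => simp
  | succ n ih =>
    rw [Subgroup.lowerCentralSeries_succ]
    exact (Subgroup.commutator_le).2 fun a ha b hb =>
      mul_mem (mul_mem (mul_mem (ih ha) hb) (inv_mem (ih ha))) (inv_mem hb)

theorem lcs_conj {G : Type*} [Group G] (K : Subgroup G) (n : ℕ) {g h : G} (hg : g ∈ K)
    (hh : h ∈ Subgroup.lowerCentralSeries K n) :
    g * h * g⁻¹ ∈ Subgroup.lowerCentralSeries K n := by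
  have hK : K.map (MulAut.conj g).toMonoidHom = K := by
    refine le_antisymm ?_ fun x hx => ⟨g⁻¹ * x * g, mul_mem (mul_mem (inv_mem hg) hx) hg, ?_⟩
    · rintro _ ⟨x, hx, rfl⟩
      exact mul_mem (mul_mem hg hx) (inv_mem hg)
    · simp [mul_assoc]
  have := lcs_mono_map (MulAut.conj g).toMonoidHom K n
  rw [hK] at this
  exact this.le ⟨h, hh, rfl⟩

theorem lcs_scale {R : Type*} [CommRing R] [Algebra k R] (μ : R) (n : ℕ) {r : R}
    (hr : uR r ∈ Subgroup.lowerCentralSeries (rootGrp k μ) n) (c : k) :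
    uR (algebraMap k R c * r) ∈ Subgroup.lowerCentralSeries (rootGrp k μ) n := by
  by_cases hc : c = 0
  · simp [hc, uR_zero, one_mem]
  set cu : Rˣ := Units.map (algebraMap k R : k →* R) (Units.mk0 c hc) with hcu
  have hK : (rootGrp k μ).map (scale cu) ≤ rootGrp k μ := by
    rw [Subgroup.map_le_iff_le_comap, rootGrp, Subgroup.closure_le]
    rintro _ (⟨d, rfl⟩ | ⟨d, rfl⟩)
    · show scale cu (uR (algebraMap k R d)) ∈ rootGrp k μ
      rw [scale_uR]
      simpa [hcu, map_mul] using uR_mem_rootGrp μ (c * d)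
    · show scale cu (lR (algebraMap k R d * μ)) ∈ rootGrp k μ
      rw [scale_lR, ← mul_assoc]
      simpa [hcu, map_mul] using lR_mem_rootGrp μ (c⁻¹ * d)
  have h1 : scale cu (uR r) ∈ Subgroup.lowerCentralSeries ((rootGrp k μ).map (scale cu)) n := by
    rw [← lcs_mono_map]; exact ⟨_, hr, rfl⟩
  have h2 : Subgroup.lowerCentralSeries ((rootGrp k μ).map (scale cu)) n ≤
      Subgroup.lowerCentralSeries (rootGrp k μ) n := by
    clear h1 hr
    induction n with
    | zero => simpa using hK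
    | succ n ih =>
      rw [Subgroup.lowerCentralSeries_succ, Subgroup.lowerCentralSeries_succ]
      exact Subgroup.commutator_mono ih hK
  rw [scale_uR] at h1
  exact h2 h1

set_option maxHeartbeats 3200000 in
theorem exists_transvection_aux (h2 : (2 : k) ≠ 0) (h3 : Nat.card k ≠ 3) (n : ℕ) (m : ℕ) :
    ∀ (R : Type _) [CommRing R] [Nontrivial R] [Algebra k R] [FiniteDimensional k R] (μ : R),
      Module.finrank k R ≤ m → IsUnit μ → Algebra.adjoin k ({μ} : Set R) = ⊤ →
      IsField R ∨ ∃ r : R, r ≠ 0 ∧ ¬ IsUnit r ∧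
        uR r ∈ Subgroup.lowerCentralSeries (rootGrp k μ) n := by
  classical
  induction m with
  | zero =>
    intro R _ _ _ _ μ hm
    exact absurd hm (by simpa using Module.finrank_pos.ne')
  | succ m ih =>
    intro R _ _ _ _ μ hm hμ hgen
    by_cases hfield : IsField R
    · exact Or.inl hfield
    right
    have h2R : IsUnit (2 : R) := isUnit_two h2
    obtain ⟨t, ht, ht2⟩ := exists_sq_ne_one h2 h3
    -- a minimal ideal
    let fr : R → ℕ := fun x =>
      Module.finrank k ↥((Ideal.span ({x} : Set R)).restrictScalars k)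
    obtain ⟨j, hj0, hjmin⟩ : ∃ j : R, j ≠ 0 ∧ ∀ x : R, x ≠ 0 → fr j ≤ fr x := by
      obtain ⟨j, hj, hje⟩ := Nat.find_spec (p := fun d => ∃ j : R, j ≠ 0 ∧ fr j = d)
        ⟨fr 1, 1, one_ne_zero, rfl⟩
      exact ⟨j, hj, fun x hx => hje ▸ Nat.find_min' _ ⟨x, hx, rfl⟩⟩
    have hgenj : ∀ x : R, x * j ≠ 0 → ∃ r, r * (x * j) = j := by
      intro x hx
      have hle : (Ideal.span ({x * j} : Set R)).restrictScalars k ≤
          (Ideal.span ({j} : Set R)).restrictScalars k := fun y hy => by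
        obtain ⟨r, rfl⟩ := Ideal.mem_span_singleton'.1 hy
        exact Ideal.mem_span_singleton'.2 ⟨r * x, by ring⟩
      have := Submodule.eq_of_le_of_finrank_le hle (hjmin _ hx)
      have hj : j ∈ (Ideal.span ({x * j} : Set R)).restrictScalars k :=
        this ▸ Ideal.mem_span_singleton_self j
      exact Ideal.mem_span_singleton'.1 hj
    set J : Ideal R := Ideal.span {j} with hJ
    let P : Ideal R :=
      { carrier := {x | x * j = 0}
        add_mem' := fun {a b} ha hb => by simp_all [add_mul]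
        zero_mem' := zero_mul j
        smul_mem' := fun r x hx => by simp_all [mul_assoc] }
    have hP : ∀ x, x ∈ P ↔ x * j = 0 := fun x => Iff.rfl
    have hPmax : P.IsMaximal := by
      rw [Ideal.isMaximal_iff]
      refine ⟨fun h => hj0 (by simpa using (hP 1).1 h), fun Q x hPQ hxP hxQ => ?_⟩
      obtain ⟨r, hr⟩ := hgenj x hxP
      have h1 : 1 - r * x ∈ Q := hPQ ((hP _).2 (by linear_combination -hr))
      simpa using Q.add_mem h1 (Q.mul_mem_left r hxQ)
    haveI := hPmax
    letI : Field (R ⧸ P) := Ideal.Quotient.field P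
    haveI : FiniteDimensional k (R ⧸ P) :=
      Module.Finite.of_surjective (Ideal.Quotient.mkₐ k P).toLinearMap Ideal.Quotient.mk_surjective
    set π := Ideal.Quotient.mkₐ k P with hπ
    have hπs : Function.Surjective π := Ideal.Quotient.mk_surjective
    have hπ0 : ∀ x, π x = 0 ↔ x ∈ P := fun x => Ideal.Quotient.eq_zero_iff_mem
    set φ := Matrix.SpecialLinearGroup.map (n := Fin 2) (π : R →+* R ⧸ P) with hφ
    have h2F : (2 : R ⧸ P) ≠ 0 := (isUnit_two (R := R ⧸ P) h2).ne_zero
    set tF : R ⧸ P := algebraMap k (R ⧸ P) t with htF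
    have htF0 : tF ≠ 0 := (map_ne_zero _).2 ht
    have htF2 : tF ^ 2 ≠ 1 := fun h => ht2 ((algebraMap k (R ⧸ P)).injective (by simpa [htF] using h))
    set Γ := Subgroup.lowerCentralSeries (rootGrp k μ) n with hΓ
    have hmapK : (rootGrp k μ).map φ = ⊤ := by
      rw [eq_top_iff]
      intro y _
      obtain ⟨x, hx, hxy⟩ := exists_lift h2 h3 π hπs hμ hgen y
      exact ⟨x, hx, hxy⟩
    obtain ⟨d, hd, hdt⟩ : ∃ d ∈ Γ, φ d = tor tF htF0 := by
      have := lcs_mono_map φ (rootGrp k μ) n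
      rw [hmapK, lcs_eq_top h2F htF0 htF2] at this
      obtain ⟨d, hd, he⟩ : tor tF htF0 ∈ (Subgroup.lowerCentralSeries (rootGrp k μ) n).map φ :=
        this ▸ Subgroup.mem_top _
      exact ⟨d, hd, he⟩
    have hJmem : ∀ {a : R}, a ∈ J ↔ ∃ r, r * j = a := fun {a} => Ideal.mem_span_singleton'
    have hJP : ∀ {a x : R}, a ∈ J → x ∈ P → x * a = 0 := fun {a x} ha hx => by
      obtain ⟨r, rfl⟩ := hJmem.1 ha
      linear_combination r * (hP x).1 hx
    have hcong : ∀ (a : R) (x y : R), a ∈ J → π x = π y → x * a = y * a := fun a x y ha hxy => by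
      have h := hJP (x := x - y) ha ((hπ0 _).1 (by rw [map_sub, hxy, sub_self]))
      linear_combination h
    have hbotfield : P = ⊥ → IsField R := fun h => by
      refine ⟨exists_pair_ne R, mul_comm, fun {x} hx => ?_⟩
      have hxP : x * j ≠ 0 := fun e => hx (by
        have : x ∈ P := (hP x).2 e
        rwa [h, Ideal.mem_bot] at this)
      obtain ⟨r, hr⟩ := hgenj x hxP
      have h1 : 1 - r * x ∈ P := (hP _).2 (by linear_combination -hr)
      rw [h, Ideal.mem_bot] at h1
      exact ⟨r, by linear_combination -h1⟩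
    -- the congruence subgroup modulo the minimal ideal
    by_cases hcase : ∀ x ∈ rootGrp k μ,
        Matrix.SpecialLinearGroup.map (n := Fin 2) (Ideal.Quotient.mk J) x = 1 → IsZ x
    swap
    · push Not at hcase
      obtain ⟨g, hg, hgJ, hgZ⟩ := hcase
      let NJ : Subgroup (Matrix.SpecialLinearGroup (Fin 2) R) :=
        rootGrp k μ ⊓ (Matrix.SpecialLinearGroup.map (n := Fin 2) (Ideal.Quotient.mk J)).ker
      have hgN : g ∈ NJ := ⟨hg, hgJ⟩
      have hent : ∀ x ∈ NJ, ∀ i l : Fin 2,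
          (x : Matrix (Fin 2) (Fin 2) R) i l - (1 : Matrix (Fin 2) (Fin 2) R) i l ∈ J := by
        intro x hx i l
        rw [← Ideal.Quotient.eq]
        have h := congrArg (fun y : Matrix.SpecialLinearGroup (Fin 2) (R ⧸ J) =>
          (y : Matrix (Fin 2) (Fin 2) (R ⧸ J)) i l) (MonoidHom.mem_ker.1 hx.2)
        simp only [map_apply', Matrix.SpecialLinearGroup.coe_one] at h
        rw [h]
        by_cases hil : i = l <;> (first | (subst hil; simp) | simp [hil])
      suffices hup : ∃ r : R, r ∈ J ∧ r ≠ 0 ∧ uR r ∈ rootGrp k μ by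
        obtain ⟨r, hrJ, hr0, hr⟩ := hup
        refine ⟨(algebraMap k R t ^ 2 - 1) * r, ?_, fun hu => ?_, ?_⟩
        · rw [Ne, IsUnit.mul_right_eq_zero]
          · exact hr0
          · have := (isUnit_iff_ne_zero.2 (sub_ne_zero.2 ht2)).map (algebraMap k R)
            simpa using this
        · obtain ⟨r', hr'⟩ := hJmem.1 hrJ
          refine hfield ?_
          have hju : IsUnit j := isUnit_of_mul_isUnit_right (hr' ▸ isUnit_of_mul_isUnit_right hu)
          have hPbot : P = ⊥ := (Submodule.eq_bot_iff _).2 fun x hx =>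
            (hju.mul_left_eq_zero).1 ((hP x).1 hx)
          exact hbotfield hPbot
        · have hdm : d * uR r * d⁻¹ * (uR r)⁻¹ ∈ Γ := by
            rw [mul_assoc d, mul_assoc d]
            exact mul_mem hd (lcs_conj _ n hr (inv_mem hd))
          suffices he : d * uR r = uR (algebraMap k R t ^ 2 * r) * d by
            rwa [he, mul_inv_cancel_right, uR_inv, uR_mul, ← sub_eq_add_neg,
              show algebraMap k R t ^ 2 * r - r = (algebraMap k R t ^ 2 - 1) * r by ring] at hdm
          have hent' : ∀ i l, π ((d : Matrix (Fin 2) (Fin 2) R) i l) =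
              (!![tF, 0; 0, tF⁻¹] : Matrix (Fin 2) (Fin 2) (R ⧸ P)) i l := fun i l => by
            have := congrArg (fun y : Matrix.SpecialLinearGroup (Fin 2) (R ⧸ P) =>
              (y : Matrix (Fin 2) (Fin 2) (R ⧸ P)) i l) hdt
            simpa [hφ, map_apply', tor_val] using this
          have e00 := hcong r _ (algebraMap k R t) hrJ (by
            rw [hent' 0 0, AlgHom.commutes]; simp [htF])
          have e11 := hcong r _ (algebraMap k R t⁻¹) hrJ (by
            rw [hent' 1 1, AlgHom.commutes]; simp [htF])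
          have e10 := hcong r _ 0 hrJ (by rw [hent' 1 0, map_zero]; simp)
          rw [zero_mul] at e10
          have htt : algebraMap k R t * algebraMap k R t⁻¹ = 1 := by
            rw [← map_mul, mul_inv_cancel₀ ht, map_one]
          apply ext_sl <;> simp [mul_00, mul_01, mul_10, mul_11, uR_val]
          · linear_combination (algebraMap k R t ^ 2) * e10
          · linear_combination e00 - algebraMap k R t ^ 2 * e11 - algebraMap k R t * r * htt
          · linear_combination e10
      by_cases hjj : j * j = 0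
      · -- additive case
        have hJJ : ∀ {a b : R}, a ∈ J → b ∈ J → a * b = 0 := fun {a b} ha hb => by
          obtain ⟨x, rfl⟩ := hJmem.1 ha
          obtain ⟨y, rfl⟩ := hJmem.1 hb
          linear_combination x * y * hjj
        let L : AddSubgroup (Matrix (Fin 2) (Fin 2) (R ⧸ P)) :=
          { carrier := {X | ∃ x ∈ NJ, ∃ Y : Matrix (Fin 2) (Fin 2) R,
              (x : Matrix (Fin 2) (Fin 2) R) = 1 + j • Y ∧ Y.map π = X}
            zero_mem' := ⟨1, one_mem _, 0, by simp, by simp⟩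
            add_mem' := by
              rintro _ _ ⟨x, hx, Y, hxY, rfl⟩ ⟨y, hy, Y', hyY, rfl⟩
              refine ⟨x * y, mul_mem hx hy, Y + Y', ?_, by ext i l; simp⟩
              rw [Matrix.SpecialLinearGroup.coe_mul, hxY, hyY]
              simp only [add_mul, mul_add, one_mul, mul_one, smul_mul_smul_comm, hjj, zero_smul,
                add_zero, smul_add]
              abel
            neg_mem' := by
              rintro _ ⟨x, hx, Y, hxY, rfl⟩
              refine ⟨x⁻¹, inv_mem hx, -Y, ?_, by ext i l; simp⟩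
              have h1 : (x : Matrix (Fin 2) (Fin 2) R) * (1 + j • -Y) = 1 := by
                rw [hxY]
                simp only [add_mul, mul_add, one_mul, mul_one, smul_mul_smul_comm, hjj,
                  zero_smul, add_zero]
                rw [smul_neg]
                abel
              calc ((x⁻¹ : Matrix.SpecialLinearGroup (Fin 2) R) : Matrix (Fin 2) (Fin 2) R)
                  = ((x⁻¹ : Matrix.SpecialLinearGroup (Fin 2) R) : Matrix (Fin 2) (Fin 2) R) *
                    ((x : Matrix (Fin 2) (Fin 2) R) * (1 + j • -Y)) := by rw [h1, mul_one]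
                _ = _ := by
                  rw [← mul_assoc, ← Matrix.SpecialLinearGroup.coe_mul, inv_mul_cancel,
                    Matrix.SpecialLinearGroup.coe_one, one_mul] }
        obtain ⟨Y, hY⟩ : ∃ Y : Matrix (Fin 2) (Fin 2) R,
            (g : Matrix (Fin 2) (Fin 2) R) = 1 + j • Y := by
          choose Y hY using fun i l => hJmem.1 (hent g hgN i l)
          refine ⟨Matrix.of Y, ?_⟩
          ext i l
          simp only [Matrix.add_apply, Matrix.smul_apply, Matrix.of_apply, smul_eq_mul]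
          rw [mul_comm, hY i l]; ring
        obtain ⟨x, hx0, y, hy, Y', hy', hY'⟩ := exists_upp_of_add (L := L) h2F
          (by
            rintro _ ⟨x, -, Y, hxY, rfl⟩
            have hdet := det_eq x
            rw [hxY] at hdet
            simp at hdet
            rw [Matrix.map_apply, Matrix.map_apply, ← map_add, hπ0, hP]
            linear_combination hdet - (Y 0 0 * Y 1 1 - Y 0 1 * Y 1 0) * hjj)
          (by
            rintro y _ ⟨x, hx, Y, hxY, rfl⟩
            obtain ⟨b, hb, rfl⟩ : y ∈ (rootGrp k μ).map φ := hmapK ▸ Subgroup.mem_top y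
            replace hb : b ∈ rootGrp k μ := hb
            refine ⟨b * x * b⁻¹, Subgroup.mem_inf.2 ⟨mul_mem (mul_mem hb hx.1) (inv_mem hb),
              (MonoidHom.normal_ker _).conj_mem _ hx.2 b⟩,
              (b : Matrix (Fin 2) (Fin 2) R) * Y *
                ((b⁻¹ : Matrix.SpecialLinearGroup (Fin 2) R) : Matrix (Fin 2) (Fin 2) R), ?_, ?_⟩
            · rw [Matrix.SpecialLinearGroup.coe_mul, Matrix.SpecialLinearGroup.coe_mul, hxY,
                mul_add, mul_one, add_mul, mul_smul_comm, smul_mul_assoc,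
                ← Matrix.SpecialLinearGroup.coe_mul, mul_inv_cancel,
                Matrix.SpecialLinearGroup.coe_one]
            · rw [Matrix.map_mul, Matrix.map_mul, ← map_inv]; rfl)
          (X := Y.map π) ⟨g, hgN, Y, hY, rfl⟩ (by
            intro h0
            refine hgZ ?_
            have : g = 1 := Subtype.ext (by
              rw [hY, Matrix.SpecialLinearGroup.coe_one, add_eq_left]
              ext i l
              have := congrFun (congrFun h0 i) l
              rw [Matrix.map_apply, Matrix.zero_apply, hπ0, hP] at this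
              simpa [mul_comm] using this)
            subst this
            simp [IsZ])
        have hent0 : ∀ i l, π (Y' i l) = (!![0, x; 0, 0] : Matrix (Fin 2) (Fin 2) (R ⧸ P)) i l :=
          fun i l => by rw [← hY']; rfl
        refine ⟨Y' 0 1 * j, hJmem.2 ⟨_, rfl⟩, fun h => hx0 ?_, ?_⟩
        · have := hent0 0 1
          rw [(hπ0 _).2 ((hP _).2 h)] at this
          simpa using this.symm
        · have e : uR (Y' 0 1 * j) = y := by
            have hz : ∀ i l, (!![0, x; 0, 0] : Matrix (Fin 2) (Fin 2) (R ⧸ P)) i l = 0 →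
                j * Y' i l = 0 := fun i l h => by
              rw [mul_comm]; exact (hP _).1 ((hπ0 _).1 ((hent0 i l).trans h))
            apply ext_sl <;> simp [hy', uR_val, hz, mul_comm]
          exact e ▸ hy.1
      · -- idempotent case
        have hjP : j ∉ P := hjj
        have hJP0 : ∀ {a : R}, a ∈ J → a ∈ P → a = 0 := fun {a} ha haP => by
          obtain ⟨r, rfl⟩ := hJmem.1 ha
          rcases hPmax.isPrime.mem_or_mem haP with h | h
          · exact (hP r).1 h
          · exact absurd h hjP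
        have hinj : ∀ x ∈ NJ, φ x = 1 → x = 1 := by
          intro x hx hx1
          refine Subtype.ext (Matrix.ext fun i l => sub_eq_zero.1 (hJP0 (hent x hx i l) ?_))
          rw [← hπ0, map_sub, sub_eq_zero]
          have := congrArg (fun y : Matrix.SpecialLinearGroup (Fin 2) (R ⧸ P) =>
            (y : Matrix (Fin 2) (Fin 2) (R ⧸ P)) i l) hx1
          simp only [hφ, map_apply', Matrix.SpecialLinearGroup.coe_one] at this
          refine this.trans ?_
          by_cases hil : i = l <;> (first | (subst hil; simp) | simp [hil])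
        have hN : (NJ.map φ).Normal := ⟨fun x hx y => by
          obtain ⟨a, ha, rfl⟩ := hx
          obtain ⟨b, hb, rfl⟩ : y ∈ (rootGrp k μ).map φ := hmapK ▸ Subgroup.mem_top y
          replace hb : b ∈ rootGrp k μ := hb
          exact ⟨b * a * b⁻¹, Subgroup.mem_inf.2 ⟨mul_mem (mul_mem hb ha.1) (inv_mem hb),
            (MonoidHom.normal_ker _).conj_mem _ ha.2 b⟩, by simp⟩⟩
        have hgZ' : ¬ IsZ (φ g) := by
          rintro ⟨h1, h2', h3'⟩
          refine hgZ ⟨hJP0 (by simpa using hent g hgN 0 1) ((hπ0 _).1 h1),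
            hJP0 (by simpa using hent g hgN 1 0) ((hπ0 _).1 h2'), ?_⟩
          refine sub_eq_zero.1 (hJP0 ?_ ((hπ0 _).1 ?_))
          · simpa using J.sub_mem (hent g hgN 0 0) (hent g hgN 1 1)
          · rw [map_sub, sub_eq_zero]; exact h3'
        obtain ⟨x, hx0, y, hy, hyx⟩ := exists_upp_of_normal hN h2F htF0 htF2 ⟨g, hgN, rfl⟩ hgZ'
        have hent0 : ∀ i l, π ((y : Matrix (Fin 2) (Fin 2) R) i l) =
            ((uR x : Matrix.SpecialLinearGroup (Fin 2) (R ⧸ P)) :
              Matrix (Fin 2) (Fin 2) (R ⧸ P)) i l :=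
          fun i l => congrArg (fun z : Matrix.SpecialLinearGroup (Fin 2) (R ⧸ P) =>
            (z : Matrix (Fin 2) (Fin 2) (R ⧸ P)) i l) hyx
        refine ⟨(y : Matrix (Fin 2) (Fin 2) R) 0 1, by simpa using hent y hy 0 1, fun h => hx0 ?_,
          ?_⟩
        · have := hent0 0 1
          rw [h, map_zero] at this
          simpa [uR_val] using this.symm
        · have hz : ∀ i l, ((i, l) ≠ ((0 : Fin 2), (1 : Fin 2))) →
              (y : Matrix (Fin 2) (Fin 2) R) i l = (1 : Matrix (Fin 2) (Fin 2) R) i l := by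
            intro i l hil
            refine sub_eq_zero.1 (hJP0 (hent y hy i l) ((hπ0 _).1 ?_))
            rw [map_sub, sub_eq_zero, hent0 i l]
            fin_cases i <;> fin_cases l <;> simp at hil ⊢ <;> simp [uR_val]
          have e : uR ((y : Matrix (Fin 2) (Fin 2) R) 0 1) = y := by
            apply ext_sl <;> simp [uR_val, hz]
          exact e ▸ hy.1
    -- the quotient by the minimal ideal
    have hJtop : J ≠ ⊤ := fun h => by
      have hju : IsUnit j := Ideal.span_singleton_eq_top.1 h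
      have hPbot : P = ⊥ := (Submodule.eq_bot_iff _).2 fun x hx =>
        (hju.mul_left_eq_zero).1 ((hP x).1 hx)
      exact hfield (hbotfield hPbot)
    haveI : Nontrivial (R ⧸ J) := Ideal.Quotient.nontrivial_iff.2 hJtop
    haveI : FiniteDimensional k (R ⧸ J) :=
      Module.Finite.of_surjective (Ideal.Quotient.mkₐ k J).toLinearMap Ideal.Quotient.mk_surjective
    set ρ := Ideal.Quotient.mkₐ k J with hρ
    have hρs : Function.Surjective ρ := Ideal.Quotient.mk_surjective
    have hgenJ : Algebra.adjoin k ({ρ μ} : Set (R ⧸ J)) = ⊤ := by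
      rw [← Set.image_singleton, Algebra.adjoin_image, hgen, Algebra.map_top, AlgHom.range_eq_top]
      exact hρs
    have hlt : Module.finrank k (R ⧸ J) ≤ m := by
      have h := Submodule.finrank_quotient_add_finrank (J.restrictScalars k)
      have hpos : 0 < Module.finrank k ↥(J.restrictScalars k) :=
        Module.finrank_pos_iff_exists_ne_zero.2
          ⟨⟨j, Ideal.mem_span_singleton_self j⟩, fun e => hj0 (congrArg Subtype.val e)⟩
      have e : Module.finrank k (R ⧸ J) = Module.finrank k (R ⧸ J.restrictScalars k) :=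
        (Submodule.Quotient.restrictScalarsEquiv k J).symm.finrank_eq
      omega
    rcases ih (R ⧸ J) (ρ μ) hlt (hμ.map ρ) hgenJ with hF | ⟨r, hr0, hru, hr⟩
    · haveI : J.IsMaximal := Ideal.Quotient.maximal_of_isField J hF
      letI : Field (R ⧸ J) := Ideal.Quotient.field J
      exact absurd (isField_of_ker h2 h3 ρ hρs hμ hgen hcase) hfield
    set φJ := Matrix.SpecialLinearGroup.map (n := Fin 2) (ρ : R →+* R ⧸ J) with hφJ
    rw [← map_rootGrp, ← lcs_mono_map] at hr
    obtain ⟨x, hx, hxr⟩ := hr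
    have hone : (uR (1 : R)) ∈ rootGrp k μ := by simpa using uR_mem_rootGrp (k := k) μ 1
    have hc : x * uR 1 = uR 1 * x := commute_of_isZ h2R <| hcase _
      (mul_mem (mul_mem (mul_mem (lcs_le _ n hx) hone) (inv_mem (lcs_le _ n hx))) (inv_mem hone)) (by
        show φJ _ = 1
        rw [map_mul, map_mul, map_mul, map_inv, map_inv, hxr, hφJ, map_uR, uR_inv, uR_inv, uR_mul,
          uR_mul, uR_mul, ← uR_zero]
        congr 1; ring)
    obtain ⟨h10, hdd⟩ := shape_of_commute_uR hc
    refine ⟨2 * (x : Matrix (Fin 2) (Fin 2) R) 0 0 * (x : Matrix (Fin 2) (Fin 2) R) 0 1, ?_, ?_,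
      by rw [← sq_of_upper h10 hdd]; exact mul_mem hx hx⟩
    · intro h
      have := congrArg φJ (sq_of_upper h10 hdd)
      rw [map_mul, hxr, h, uR_zero, map_one, uR_mul, ← uR_zero, ← two_mul] at this
      exact hr0 ((isUnit_two (R := R ⧸ J) h2).mul_right_eq_zero.1 (uR_injective this))
    · intro hu
      have := congrArg φJ (sq_of_upper h10 hdd)
      rw [map_mul, hxr, hφJ, map_uR, uR_mul, ← two_mul] at this
      exact hru (isUnit_of_mul_isUnit_right ((uR_injective this) ▸ hu.map (ρ : R →+* R ⧸ J)))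

/-- Dichotomy for a finite algebra generated by a unit. -/
theorem field_or_transvection {R : Type*} [CommRing R] [Nontrivial R] [Algebra k R]
    [FiniteDimensional k R] (h2 : (2 : k) ≠ 0) (h3 : Nat.card k ≠ 3) {μ : R} (hμ : IsUnit μ)
    (hgen : Algebra.adjoin k ({μ} : Set R) = ⊤) (n : ℕ) :
    IsField R ∨ ∃ r : R, r ≠ 0 ∧ ¬ IsUnit r ∧
      ∀ c : k, uR (algebraMap k R c * r) ∈ Subgroup.lowerCentralSeries (rootGrp k μ) n :=
  (exists_transvection_aux h2 h3 n _ R μ le_rfl hμ hgen).imp id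
    fun ⟨r, h1, h2', h3'⟩ => ⟨r, h1, h2', lcs_scale μ n h3'⟩

theorem rootGrp_eq_top {F : Type*} [Field F] [Algebra k F] [FiniteDimensional k F]
    (h2 : (2 : k) ≠ 0) (h3 : Nat.card k ≠ 3) {μ : F} (hμ : μ ≠ 0)
    (hgen : Algebra.adjoin k ({μ} : Set F) = ⊤) (n : ℕ) :
    rootGrp k μ = ⊤ ∧ Subgroup.lowerCentralSeries (rootGrp k μ) n = ⊤ := by
  have h := field_rootGrp h2 h3 hμ hgen
  obtain ⟨t, ht, ht2⟩ := exists_sq_ne_one h2 h3
  refine ⟨h, h.symm ▸ lcs_eq_top ((isUnit_two (R := F) h2).ne_zero)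
    ((map_ne_zero (algebraMap k F)).2 ht) (fun e => ht2 ((algebraMap k F).injective (by simpa using e))) n⟩

end Main

end Cfsg.Agent.QuadPair
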