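import Cfsg.Agent.Lib.QuadPair.Class2
import Cfsg.Agent.S5059

/-!
The root subgroups of a quadratic pair form a set of abstract root subgroups.
-/

set_option autoImplicit false

namespace Cfsg.Agent.QuadPair

open UniFamily

section Transfer

variable {H : Type*} [Group H] {G₀ A B : Subgroup H}

theorem map_conjBy (A' : Subgroup G₀) (g : G₀) :
    (Cfsg.conjBy A' g).map G₀.subtype = Cfsg.conjBy (A'.map G₀.subtype) (g : H) := by
  rw [Cfsg.conjBy, Cfsg.conjBy, Subgroup.map_map, Subgroup.map_map]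
  congr 1

theorem map_subgroupOf' (hA : A ≤ G₀) : (A.subgroupOf G₀).map G₀.subtype = A :=
  Subgroup.map_subgroupOf_eq_of_le hA

theorem subgroupOf_comm_bot (h : ⁅A, B⁆ = ⊥) : ⁅A.subgroupOf G₀, B.subgroupOf G₀⁆ = ⊥ :=
  comm_bot_of_forall fun a ha b hb =>
    Subtype.ext (forall_of_comm_bot h _ (Subgroup.mem_subgroupOf.1 ha) _ (Subgroup.mem_subgroupOf.1 hb))

theorem subgroupOf_isMulCommutative (h : IsMulCommutative A) :
    IsMulCommutative (A.subgroupOf G₀) :=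
  ⟨⟨fun a b => Subtype.ext (Subtype.ext (by
    have e := congrArg Subtype.val
      (h.is_comm.comm ⟨_, Subgroup.mem_subgroupOf.1 a.2⟩ ⟨_, Subgroup.mem_subgroupOf.1 b.2⟩)
    simpa using e))⟩⟩

theorem subgroupOf_cond (hA : A ≤ G₀) (hB : B ≤ G₀) (h : Cfsg.RankOneCondition A B) :
    Cfsg.RankOneCondition (A.subgroupOf G₀) (B.subgroupOf G₀) := by
  intro a ha ha1
  obtain ⟨b, hb, hb1, hc⟩ := h (a : H) (Subgroup.mem_subgroupOf.1 ha) (fun e => ha1 (Subtype.ext e))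
  refine ⟨⟨b, hB hb⟩, hb, fun e => hb1 (congrArg Subtype.val e), ?_⟩
  apply Subgroup.map_injective G₀.subtype_injective
  rw [map_conjBy, map_conjBy, map_subgroupOf' hA, map_subgroupOf' hB]
  exact hc

theorem subgroupOf_rankOne (hA : A ≤ G₀) (hB : B ≤ G₀) (h : Cfsg.IsRankOnePair A B) :
    Cfsg.IsRankOnePair (A.subgroupOf G₀) (B.subgroupOf G₀) := by
  haveI := h.nilpotent_left
  haveI := h.nilpotent_right
  exact ⟨fun e => h.ne (by rw [← map_subgroupOf' hA, ← map_subgroupOf' hB, e]),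
    Group.nilpotent_of_mulEquiv (Subgroup.subgroupOfEquivOfLe hA).symm,
    Group.nilpotent_of_mulEquiv (Subgroup.subgroupOfEquivOfLe hB).symm,
    subgroupOf_cond hA hB h.cond_left, subgroupOf_cond hB hA h.cond_right⟩

theorem subgroupOf_commCase {S : Set (Subgroup H)} (hA : A ≤ G₀) (hB : B ≤ G₀)
    (h : Cfsg.RootCommutatorCase S A B) :
    Cfsg.RootCommutatorCase ((fun C : Subgroup H => C.subgroupOf G₀) '' S)
      (A.subgroupOf G₀) (B.subgroupOf G₀) := by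
  obtain ⟨h1, h2, h3, h4⟩ := h
  have hcomm : ⁅A.subgroupOf G₀, B.subgroupOf G₀⁆.map G₀.subtype = ⁅A, B⁆ := by
    rw [Subgroup.map_commutator, map_subgroupOf' hA, map_subgroupOf' hB]
  refine ⟨⟨⁅A, B⁆, h1, ?_⟩, fun c hc x hx => Subtype.ext ?_, fun a ha ha1 => ?_, fun b hb hb1 => ?_⟩
  · exact (congrArg (fun C => C.subgroupOf G₀) hcomm.symm).trans
      (Subgroup.comap_map_eq_self_of_injective G₀.subtype_injective _)
  · refine h2 _ (hcomm ▸ ⟨c, hc, rfl⟩) _ ?_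
    have := Subgroup.map_sup (A.subgroupOf G₀) (B.subgroupOf G₀) G₀.subtype
    rw [map_subgroupOf' hA, map_subgroupOf' hB] at this
    exact this ▸ ⟨x, hx, rfl⟩
  · apply Subgroup.map_injective G₀.subtype_injective
    rw [hcomm, ← h3 (a : H) ha fun e => ha1 (Subtype.ext e), MonoidHom.map_closure]
    congr 1
    ext y
    constructor
    · rintro ⟨_, ⟨b, hb, rfl⟩, rfl⟩; exact ⟨_, hb, rfl⟩
    · rintro ⟨b, hb, rfl⟩; exact ⟨_, ⟨⟨b, hB hb⟩, hb, rfl⟩, rfl⟩
  · apply Subgroup.map_injective G₀.subtype_injective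
    rw [hcomm, ← h4 (b : H) hb fun e => hb1 (Subtype.ext e), MonoidHom.map_closure]
    congr 1
    ext y
    constructor
    · rintro ⟨_, ⟨a, ha, rfl⟩, rfl⟩; exact ⟨_, ha, rfl⟩
    · rintro ⟨a, ha, rfl⟩; exact ⟨_, ⟨⟨a, hA ha⟩, ha, rfl⟩, rfl⟩

end Transfer

section SL2

variable (k : Type*) [Field k]

theorem upper_eq_closure :
    Cfsg.upperUnipotentSL2 k = Subgroup.closure (Set.range (uR : k → Matrix.SpecialLinearGroup (Fin 2) k)) := by
  rw [Cfsg.upperUnipotentSL2]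
  congr 1
  ext g
  constructor
  · rintro ⟨h1, h2, h3⟩
    exact ⟨(g : Matrix (Fin 2) (Fin 2) k) 0 1, ext_sl (by simp [uR_val, h2]) (by simp [uR_val])
      (by simp [uR_val, h1]) (by simp [uR_val, h3])⟩
  · rintro ⟨c, rfl⟩; simp [uR_val]

theorem lower_eq_closure :
    Cfsg.lowerUnipotentSL2 k = Subgroup.closure (Set.range (lR : k → Matrix.SpecialLinearGroup (Fin 2) k)) := by
  rw [Cfsg.lowerUnipotentSL2]
  congr 1
  ext g
  constructor
  · rintro ⟨h1, h2, h3⟩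
    exact ⟨(g : Matrix (Fin 2) (Fin 2) k) 1 0, ext_sl (by simp [lR_val, h2]) (by simp [lR_val, h1])
      (by simp [lR_val]) (by simp [lR_val, h3])⟩
  · rintro ⟨c, rfl⟩; simp [lR_val]

theorem unitriangular_sup (h2 : (2 : k) ≠ 0) (h3 : Nat.card k ≠ 3) :
    Cfsg.upperUnipotentSL2 k ⊔ Cfsg.lowerUnipotentSL2 k = ⊤ := by
  have h := (rootGrp_eq_top (k := k) (F := k) h2 h3 (one_ne_zero (α := k))
    (Subsingleton.elim _ _) 0).1
  rw [upper_eq_closure, lower_eq_closure, ← Subgroup.closure_union, ← h, rootGrp]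
  simp only [Algebra.algebraMap_self, RingHom.id_apply, mul_one]

theorem three_lt_card (h2 : (2 : k) ≠ 0) (h3 : Nat.card k ≠ 3) : 3 < ENat.card k := by
  rcases finite_or_infinite k with hf | hi
  · rw [ENat.card_eq_coe_natCard]
    have h1 : 1 < Nat.card k := Finite.one_lt_card
    have hne2 : Nat.card k ≠ 2 := by
      intro hc
      classical
      haveI := Fintype.ofFinite k
      rw [Nat.card_eq_fintype_card] at hc
      have := FiniteField.cast_card_eq_zero k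
      rw [hc] at this
      exact h2 (by exact_mod_cast this)
    exact_mod_cast (by omega : 3 < Nat.card k)
  · rw [ENat.card_eq_top_of_infinite]; exact_mod_cast ENat.coe_lt_top 3

end SL2

universe v

variable {k : Type v} [Field k] {M : Type v} [AddCommGroup M] [Module k M] [FiniteDimensional k M]

local notation "GLM" => LinearMap.GeneralLinearGroup k M

variable {G : Subgroup (LinearMap.GeneralLinearGroup k M)}
variable {σ τ : LinearMap.GeneralLinearGroup k M}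
variable (hk2 : ringChar k ≠ 2) (hk3 : Nat.card k ≠ 3) (hG : Cfsg.IsQuadraticPair G)
include hk2 hk3 hG

theorem rootClass {ρ : GLM} (hρ : ρ ∈ Cfsg.minimalQuadraticElements G) : IsRootClass G ρ :=
  ⟨hρ, (Cfsg.Agent.S5059.result hk2 hk3 hG hρ).1⟩

theorem rootClass_comm {ρ : GLM} (hρ : ρ ∈ Cfsg.minimalQuadraticElements G) :
    IsMulCommutative (Cfsg.sameActionSubgroup G ρ) :=
  (Cfsg.Agent.S5059.result hk2 hk3 hG hρ).2.1

/-- The three cases for two root subgroups. -/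
theorem trichotomy {A B : Subgroup GLM} (hA : A ∈ Cfsg.quadraticRootSubgroups G)
    (hB : B ∈ Cfsg.quadraticRootSubgroups G) :
    ⁅A, B⁆ = ⊥ ∨ Cfsg.IsRankOnePair A B ∨
      Cfsg.RootCommutatorCase (Cfsg.quadraticRootSubgroups G) A B := by
  obtain ⟨σ, hσ, rfl⟩ := hA
  obtain ⟨τ, hτ, rfl⟩ := hB
  have h2 : (2 : k) ≠ 0 := Ring.two_ne_zero hk2
  set E := Cfsg.sameActionSubgroup G σ
  set F := Cfsg.sameActionSubgroup G τ
  by_cases hu : Cfsg.IsUnipotentOn (E ⊔ F)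
  · rcases commutator_case h2 hk3 (fun _ h => rootClass hk2 hk3 hG h) hG
      (fun _ h => rootClass_comm hk2 hk3 hG h) hσ hτ rfl rfl hu with h | ⟨h, he, hf, -, hc, -⟩
    · exact Or.inl h
    · exact Or.inr (Or.inr ⟨h, fun c hc' x hx => forall_of_comm_bot hc c
        (Subgroup.commutator_mono le_sup_left le_sup_right hc') x hx, he, hf⟩)
  · obtain ⟨hS, hz⟩ := split_of_not_unipotent h2 hk3 (rootClass hk2 hk3 hG hσ) (rootClass hk2 hk3 hG hτ) hu
    exact Or.inr (Or.inl (rankOne_of_split h2 hk3 (rootClass hk2 hk3 hG hσ) (rootClass hk2 hk3 hG hτ)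
      hS (rootClass_comm hk2 hk3 hG hσ) (rootClass_comm hk2 hk3 hG hτ)
      (fun _ h => rootClass hk2 hk3 hG h) hz).1)

/-- Every root subgroup has a rank one partner. -/
theorem exists_rankOne {A : Subgroup GLM} (hA : A ∈ Cfsg.quadraticRootSubgroups G) :
    ∃ B ∈ Cfsg.quadraticRootSubgroups G, Cfsg.IsRankOnePair A B := by
  obtain ⟨σ, hσ, rfl⟩ := hA
  have h2 : (2 : k) ≠ 0 := Ring.two_ne_zero hk2
  obtain ⟨τ, hτ, hz⟩ := exists_partner h2 hk3 (fun _ h => rootClass hk2 hk3 hG h) hG hσ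
  have hu : ¬ Cfsg.IsUnipotentOn (Cfsg.sameActionSubgroup G σ ⊔ Cfsg.sameActionSubgroup G τ) :=
    fun h => hz (deg_of_unipotent h σ (class_self hσ) τ (class_self hτ))
  obtain ⟨hS, hall⟩ := split_of_not_unipotent h2 hk3 (rootClass hk2 hk3 hG hσ) (rootClass hk2 hk3 hG hτ) hu
  exact ⟨_, ⟨τ, hτ, rfl⟩, (rankOne_of_split h2 hk3 (rootClass hk2 hk3 hG hσ) (rootClass hk2 hk3 hG hτ)
      hS (rootClass_comm hk2 hk3 hG hσ) (rootClass_comm hk2 hk3 hG hτ)
      (fun _ h => rootClass hk2 hk3 hG h) hall).1⟩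

/-- A rank one pair of root subgroups does not generate a unipotent group. -/
theorem not_unipotent_of_rankOne (hσ : σ ∈ Cfsg.minimalQuadraticElements G)
    (hτ : τ ∈ Cfsg.minimalQuadraticElements G)
    (h : Cfsg.IsRankOnePair (Cfsg.sameActionSubgroup G σ) (Cfsg.sameActionSubgroup G τ)) :
    ¬ Cfsg.IsUnipotentOn (Cfsg.sameActionSubgroup G σ ⊔ Cfsg.sameActionSubgroup G τ) := by
  intro hu
  set E := Cfsg.sameActionSubgroup G σ with hE
  set F := Cfsg.sameActionSubgroup G τ with hF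
  have hσE : σ ∈ E := Subgroup.subset_closure (class_self hσ)
  have hτF : τ ∈ F := Subgroup.subset_closure (class_self hτ)
  obtain ⟨b, hb, -, hc⟩ := h.cond_left σ hσE (mem_ne_one hσ)
  suffices h0 : ⁅E, F⁆ = ⊥ by
    have hEF := forall_of_comm_bot h0
    refine h.ne ?_
    have eE : Cfsg.conjBy E b⁻¹ = E := by
      ext y
      constructor
      · rintro ⟨x, hx, rfl⟩
        show b⁻¹ * x * b⁻¹⁻¹ ∈ E
        rw [← hEF x hx b⁻¹ (F.inv_mem hb), mul_inv_cancel_right]; exact hx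
      · intro hy
        refine ⟨y, hy, ?_⟩
        show b⁻¹ * y * b⁻¹⁻¹ = y
        rw [← hEF y hy b⁻¹ (F.inv_mem hb), mul_inv_cancel_right]
    have eF : Cfsg.conjBy F σ⁻¹ = F := by
      ext y
      constructor
      · rintro ⟨x, hx, rfl⟩
        show σ⁻¹ * x * σ⁻¹⁻¹ ∈ F
        rw [hEF σ⁻¹ (E.inv_mem hσE) x hx, mul_inv_cancel_right]; exact hx
      · intro hy
        refine ⟨y, hy, ?_⟩
        show σ⁻¹ * y * σ⁻¹⁻¹ = y
        rw [hEF σ⁻¹ (E.inv_mem hσE) y hy, mul_inv_cancel_right]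
    rw [← eE, hc, eF]
  rcases commutator_case (Ring.two_ne_zero hk2) hk3 (fun _ h => rootClass hk2 hk3 hG h) hG
      (fun _ h => rootClass_comm hk2 hk3 hG h) hσ hτ rfl rfl hu with h0 | ⟨-, -, hf, -, h3, -⟩
  · exact h0
  · have hmem : b⁻¹ * σ * b⁻¹⁻¹ ∈ Cfsg.conjBy F σ⁻¹ := hc ▸ ⟨σ, hσE, rfl⟩
    obtain ⟨y, hy, hyeq⟩ := hmem
    change σ⁻¹ * y * σ⁻¹⁻¹ = b⁻¹ * σ * b⁻¹⁻¹ at hyeq
    set X := E ⊔ F
    have hσX : σ ∈ X := (le_sup_left : E ≤ X) hσE
    have hτX : τ ∈ X := (le_sup_right : F ≤ X) hτF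
    have hd1 := Subgroup.commutator_mem_commutator (H₁ := X) (H₂ := X) (inv_mem hσX)
      (inv_mem ((le_sup_right : F ≤ X) hb))
    have hd2 := Subgroup.commutator_mem_commutator (H₁ := X) (H₂ := X)
      (inv_mem ((le_sup_right : F ≤ X) hy)) (inv_mem hσX)
    rw [commutatorElement_def, inv_inv, inv_inv] at hd1 hd2
    set d1 := σ⁻¹ * b⁻¹ * σ * b with hd1d
    set d2 := y⁻¹ * σ⁻¹ * y * σ with hd2d
    have e : σ = y * (d2 * d1⁻¹) := by
      have e1 : σ * d1 = y * d2 := by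
        rw [hd1d, hd2d]
        calc σ * (σ⁻¹ * b⁻¹ * σ * b) = b⁻¹ * σ * b⁻¹⁻¹ := by group
          _ = σ⁻¹ * y * σ⁻¹⁻¹ := hyeq.symm
          _ = y * (y⁻¹ * σ⁻¹ * y * σ) := by group
      rw [← mul_assoc, ← e1, mul_inv_cancel_right]
    have hcd : d2 * d1⁻¹ * τ = τ * (d2 * d1⁻¹) :=
      forall_of_comm_bot h3 _ (mul_mem hd2 (inv_mem hd1)) τ hτX
    have hyτ : y * τ = τ * y :=
      congrArg Subtype.val ((rootClass_comm hk2 hk3 hG hτ).is_comm.comm ⟨y, hy⟩ ⟨τ, hτF⟩)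
    have hcom : σ * τ = τ * σ := by
      rw [e, mul_assoc, hcd, ← mul_assoc, hyτ, mul_assoc]
    exact comm_bot_of_commute (Ring.two_ne_zero hk2) hk3 (fun _ h => rootClass hk2 hk3 hG h)
      hσ hτ (class_self hσ) (class_self hτ) (zc_of_commute hcom)

/-- Every rank one pair of root subgroups contains the root groups of a copy of `SL₂(k)`. -/
theorem psl2_sub {A B : Subgroup GLM} (hA : A ∈ Cfsg.quadraticRootSubgroups G)
    (hB : B ∈ Cfsg.quadraticRootSubgroups G) (h : Cfsg.IsRankOnePair A B) :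
    ∃ A₀ B₀ : Subgroup GLM, A₀ ≤ A ∧ B₀ ≤ B ∧
      ∃ (k₁ : Type v) (_ : Field k₁), 3 < ENat.card k₁ ∧ Cfsg.IsPSL2PairOver k₁ A₀ B₀ := by
  obtain ⟨σ, hσ, rfl⟩ := hA
  obtain ⟨τ, hτ, rfl⟩ := hB
  have h2 : (2 : k) ≠ 0 := Ring.two_ne_zero hk2
  obtain ⟨-, hz⟩ := split_of_not_unipotent h2 hk3 (rootClass hk2 hk3 hG hσ) (rootClass hk2 hk3 hG hτ)
    (not_unipotent_of_rankOne hk2 hk3 hG hσ hτ h)
  obtain ⟨g, hg, -, ψ, hψ, hψd⟩ :=
    partner_full h2 hk3 hσ hτ (hz σ (class_self hσ) τ (class_self hτ)).1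
  refine ⟨(Cfsg.upperUnipotentSL2 k).map ψ, (Cfsg.lowerUnipotentSL2 k).map ψ, ?_, ?_, k, inferInstance,
    three_lt_card k h2 hk3, ψ, ?_, ?_, rfl, rfl⟩
  · rw [upper_eq_closure, MonoidHom.map_closure, Subgroup.closure_le]
    rintro _ ⟨_, ⟨c, rfl⟩, rfl⟩
    rw [show ψ (uR c) = el (dev σ) (sq_zero hσ) c from
      Units.ext (by rw [el_val, coe_dev (ψ (uR c)), (hψd c).1])]
    exact el_mem_sameAction hσ c
  · rw [lower_eq_closure, MonoidHom.map_closure, Subgroup.closure_le]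
    rintro _ ⟨_, ⟨c, rfl⟩, rfl⟩
    rw [show ψ (lR c) = el (dev g) (sq_zero hg.1) c from
      Units.ext (by rw [el_val, coe_dev (ψ (lR c)), (hψd c).2]), ← sameAction_eq hg]
    exact el_mem_sameAction hg.1 c
  · rw [← Subgroup.map_sup, unitriangular_sup k h2 hk3, MonoidHom.range_eq_map]
  · rw [(MonoidHom.ker_eq_bot_iff ψ).2 hψ]
    exact bot_le

/-- The subgroup generated by the root subgroups. -/
theorem sigma_le_G : (⨆ B ∈ Cfsg.quadraticRootSubgroups G, B) ≤ G :=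
  iSup₂_le fun _ ⟨σ, _, h⟩ => h ▸ sameAction_le_G G σ

omit hk2 hk3 hG in
theorem conj_mem_sigma {A : Subgroup GLM} (hA : A ∈ Cfsg.quadraticRootSubgroups G) {g : GLM}
    (hg : g ∈ G) : Cfsg.conjBy A g ∈ Cfsg.quadraticRootSubgroups G := by
  obtain ⟨σ, hσ, rfl⟩ := hA
  exact ⟨_, conj_minimal hg hσ, conj_sameAction hg σ⟩

/-- Any family of root subgroups closed under its own conjugation and under commutators is a set
of abstract root subgroups of the group it generates. -/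
theorem rootSubgroupSet_of {S : Set (Subgroup GLM)} (hS : S ⊆ Cfsg.quadraticRootSubgroups G)
    (hconj : ∀ A ∈ S, ∀ g ∈ ⨆ B ∈ S, B, Cfsg.conjBy A g ∈ S)
    (hcomm : ∀ A ∈ S, ∀ B ∈ S, ⁅A, B⁆ ∈ Cfsg.quadraticRootSubgroups G → ⁅A, B⁆ ∈ S) :
    Cfsg.IsRootSubgroupSet ((fun A : Subgroup GLM => A.subgroupOf (⨆ B ∈ S, B)) '' S) := by
  set G₀ := ⨆ B ∈ S, B with hG₀
  have hle : ∀ A ∈ S, A ≤ G₀ := fun A hA => le_iSup₂_of_le A hA le_rfl
  refine ⟨?_, ?_, ?_, ?_, ?_⟩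
  · rintro _ ⟨A, hA, rfl⟩
    obtain ⟨σ, hσ, rfl⟩ := hS hA
    exact subgroupOf_isMulCommutative (rootClass_comm hk2 hk3 hG hσ)
  · rintro _ ⟨A, hA, rfl⟩ hbot
    obtain ⟨σ, hσ, rfl⟩ := hS hA
    have h := map_subgroupOf' (hle _ hA)
    rw [show (Cfsg.sameActionSubgroup G σ).subgroupOf G₀ = ⊥ from hbot, Subgroup.map_bot] at h
    exact mem_ne_one hσ (Subgroup.mem_bot.1 (h ▸ Subgroup.subset_closure (class_self hσ)))
  · apply Subgroup.map_injective G₀.subtype_injective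
    rw [← MonoidHom.range_eq_map, Subgroup.range_subtype, iSup_image]
    simp only [Subgroup.map_iSup]
    exact iSup_congr fun A => iSup_congr fun hA => map_subgroupOf' (hle A hA)
  · rintro _ ⟨A, hA, rfl⟩ g
    refine ⟨_, hconj A hA g g.2, ?_⟩
    apply Subgroup.map_injective G₀.subtype_injective
    rw [map_conjBy, map_subgroupOf' (hle A hA)]
    exact map_subgroupOf' (hle _ (hconj A hA g g.2))
  · rintro _ ⟨A, hA, rfl⟩ _ ⟨B, hB, rfl⟩
    rcases trichotomy hk2 hk3 hG (hS hA) (hS hB) with h | h | h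
    · exact Or.inl (subgroupOf_comm_bot h)
    · exact Or.inr (Or.inl (subgroupOf_rankOne (hle A hA) (hle B hB) h))
    · exact Or.inr (Or.inr (subgroupOf_commCase (S := S) (hle A hA) (hle B hB)
        ⟨hcomm A hA B hB h.1, h.2⟩))

end Cfsg.Agent.QuadPair
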