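import Cfsg.Agent.Lib.QuadPair.Degenerate

/-!
A non-degenerate pair of root subgroups: the partner of an element, uniqueness, and the central
involution.
-/

set_option autoImplicit false

namespace Cfsg.Agent.QuadPair

open UniFamily

variable {k : Type*} [Field k] {M : Type*} [AddCommGroup M] [Module k M]

local notation "GLM" => LinearMap.GeneralLinearGroup k M
local notation "EndM" => M →ₗ[k] M

variable {G : Subgroup (LinearMap.GeneralLinearGroup k M)}

theorem class_self {σ : GLM} (hσ : σ ∈ Cfsg.minimalQuadraticElements G) :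
    σ ∈ Cfsg.sameActionClass G σ := ⟨hσ, rfl, rfl⟩

theorem mem_ne_one {σ : GLM} (hσ : σ ∈ Cfsg.minimalQuadraticElements G) : σ ≠ 1 := by
  rintro rfl
  exact dev_ne_zero hσ dev_one

theorem mem_class_of_mem {σ x : GLM}
    (hA : (Cfsg.sameActionSubgroup G σ : Set GLM) = Cfsg.sameActionClass G σ ∪ {1})
    (hx : x ∈ Cfsg.sameActionSubgroup G σ) (h1 : x ≠ 1) : x ∈ Cfsg.sameActionClass G σ := by
  have h : x ∈ (Cfsg.sameActionSubgroup G σ : Set GLM) := hx
  rw [hA] at h
  exact h.resolve_right fun e => h1 e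

theorem el_mem_sameAction {σ : GLM} (hσ : σ ∈ Cfsg.minimalQuadraticElements G) (c : k) :
    el (dev σ) (sq_zero hσ) c ∈ Cfsg.sameActionSubgroup G σ := by
  rcases eq_or_ne c 0 with rfl | hc
  · have e : el (dev σ) (sq_zero hσ) (0 : k) = 1 := Units.ext (by simp [el_val])
    rw [e]; exact one_mem _
  refine Subgroup.subset_closure ?_
  set g : GLM := el (dev σ) (sq_zero hσ) c with hg
  have hd : dev g = c • dev σ := dev_el _ _ _
  have hr : LinearMap.range (dev g) = LinearMap.range (dev σ) := by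
    rw [hd, LinearMap.range_smul _ _ hc]
  have hq : g ∈ Cfsg.quadraticElements G := by
    refine mem_quadratic (el_mem hσ c) ?_ ?_ fun d => ⟨_, el_mem hσ (d * c), ?_⟩
    · rw [hd, smul_mul_smul_comm, sq_zero hσ, smul_zero]
    · rw [hd]; exact smul_ne_zero hc (dev_ne_zero hσ)
    · rw [dev_el, hd, smul_smul]
  refine ⟨⟨hq, fun τ hτ => le_of_eq_of_le ?_ (hσ.2 τ hτ)⟩, ?_, hr⟩
  · show Module.finrank k (LinearMap.range (dev g)) = Module.finrank k (LinearMap.range (dev σ))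
    rw [hr]
  · show LinearMap.ker (dev g) = LinearMap.ker (dev σ)
    rw [hd, LinearMap.ker_smul _ _ hc]

theorem uR_conj_lR {R : Type*} [CommRing R] :
    (lR (1 : R))⁻¹ * uR 1 * lR 1 = (uR 1)⁻¹ * (lR 1)⁻¹ * uR 1 := by
  simp only [lR_inv, uR_inv]
  apply ext_sl <;>
    simp [mul_00, mul_01, mul_10, mul_11, uR_val, lR_val] <;> ring

/-- The matrix `-1`. -/
def negOne {R : Type*} [CommRing R] : Matrix.SpecialLinearGroup (Fin 2) R :=
  ⟨!![-1, 0; 0, -1], by simp [Matrix.det_fin_two]⟩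

theorem negOne_val {R : Type*} [CommRing R] :
    ((negOne : Matrix.SpecialLinearGroup (Fin 2) R) : Matrix (Fin 2) (Fin 2) R) = !![-1, 0; 0, -1] := rfl

theorem negOne_sq {R : Type*} [CommRing R] :
    (negOne : Matrix.SpecialLinearGroup (Fin 2) R) * negOne = 1 := by
  apply ext_sl <;> simp [negOne_val, mul_00, mul_01, mul_10, mul_11]

variable [FiniteDimensional k M]

section NonDegenerate

variable {σ τ : LinearMap.GeneralLinearGroup k M}

/-- Each vector of `range s + range t` has coordinates. -/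
theorem Split.coords {s t : EndM} (hS : Split s t) (ht : t * t = 0)
    (ν : Module.End k (LinearMap.range s)) (hν : Function.Surjective ν)
    {m : M} (hm : m ∈ LinearMap.range s ⊔ LinearMap.range t) :
    ∃ w₁ w₂ : LinearMap.range s, (w₁ : M) + t (ν w₂ : LinearMap.range s) = m := by
  obtain ⟨x, hx, _, ⟨m', rfl⟩, rfl⟩ := Submodule.mem_sup.1 hm
  obtain ⟨c, b, hc, hb, rfl⟩ := Submodule.codisjoint_iff_exists_add_eq.1 hS.compl.codisjoint m'
  obtain ⟨v, hv, _, ⟨u, rfl⟩, rfl⟩ := Submodule.mem_sup.1 hb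
  obtain ⟨w₂, hw₂⟩ := hν ⟨v, hv⟩
  refine ⟨⟨x, hx⟩, w₂, ?_⟩
  have h1 : t c = 0 := hc.2
  have h2 : t (t u) = 0 := LinearMap.congr_fun ht u
  rw [hw₂, map_add, map_add, h1, h2, zero_add, add_zero]

variable (hk2 : (2 : k) ≠ 0) (hk3 : Nat.card k ≠ 3)
include hk2 hk3

/-- Every element has a partner in the opposite class, and the scalar families of the two form the
root groups of a copy of `SL₂` over the ground field. -/
theorem partner_full {a : GLM} (ha : a ∈ Cfsg.minimalQuadraticElements G)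
    (hτ : τ ∈ Cfsg.minimalQuadraticElements G) (hz : ¬ IsNilpotent (zz (dev a) (dev τ))) :
    ∃ g ∈ Cfsg.sameActionClass G τ, g⁻¹ * a * g = a⁻¹ * g⁻¹ * a ∧
      ∃ ψ : Matrix.SpecialLinearGroup (Fin 2) k →* GLM, Function.Injective ψ ∧
        ∀ c : k, dev (ψ (uR c)) = c • dev a ∧ dev (ψ (lR c)) = c • dev g := by
  classical
  have hstr := structure_theorem hk2 hk3 ha hτ hz
  set s := dev a with hs
  set t := dev τ with ht
  obtain ⟨hS, ν, Λ, H, hfield, -, hHG, hν, hfix, -, -, huniq, -, φ, hφ, hφa, -⟩ := hstr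
  set R := Algebra.adjoin k ({Λ} : Set (Module.End k (LinearMap.range s))) with hR
  have hfam : ∀ c : k, (∀ m ∈ LinearMap.ker s ⊓ LinearMap.ker t,
      dev (φ (lR (algebraMap k R c))) m = 0) ∧
      ∀ w₁ w₂ : LinearMap.range s, dev (φ (lR (algebraMap k R c))) ((w₁ : M) + t (ν w₂ : LinearMap.range s))
        = c • t (ν w₁ : LinearMap.range s) := by
    intro c
    refine ⟨fun m hm => ?_, fun w₁ w₂ => ?_⟩
    · rw [dev_apply, hfix _ (hφ _).1 m hm, sub_self]
    · rw [dev_apply, (hφ _).2 w₁ w₂]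
      simp [lR_val, Module.algebraMap_end_apply]
  set g := φ (lR (1 : R)) with hg
  have h1 := hfam 1
  simp only [map_one, one_smul] at h1
  obtain ⟨hgC, hgW⟩ := h1
  have hdec : ∀ m : M, ∃ (c : M) (w₁ w₂ : LinearMap.range s),
      c ∈ LinearMap.ker s ⊓ LinearMap.ker t ∧ c + ((w₁ : M) + t (ν w₂ : LinearMap.range s)) = m := by
    intro m
    obtain ⟨c, b, hc, hb, rfl⟩ := Submodule.codisjoint_iff_exists_add_eq.1 hS.compl.codisjoint m
    obtain ⟨w₁, w₂, hw⟩ := hS.coords (sq_zero hτ) ν hν.2 hb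
    exact ⟨c, w₁, w₂, hc, by rw [hw]⟩
  have hrange : LinearMap.range (dev g) = LinearMap.range t := by
    refine le_antisymm ?_ ?_
    · rintro _ ⟨m, rfl⟩
      obtain ⟨c, w₁, w₂, hc, rfl⟩ := hdec m
      rw [map_add, hgC c hc, hgW, zero_add]; exact ⟨_, rfl⟩
    · rintro _ ⟨m, rfl⟩
      obtain ⟨c, w₁, w₂, hc, rfl⟩ := hdec m
      obtain ⟨w, hw⟩ := hν.2 w₁
      refine ⟨(w : M) + t (ν 0 : LinearMap.range s), ?_⟩
      have e1 : t c = 0 := hc.2
      have e2 : t (t ((ν w₂ : LinearMap.range s) : M)) = 0 := LinearMap.congr_fun (sq_zero hτ) _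
      rw [hgW, hw, map_add, map_add, e1, e2, zero_add, add_zero]
  have hker : LinearMap.ker (dev g) = LinearMap.ker t := by
    refine le_antisymm (fun m hm => ?_) ?_
    · obtain ⟨c, w₁, w₂, hc, rfl⟩ := hdec m
      rw [LinearMap.mem_ker, map_add, hgC c hc, hgW, zero_add] at hm
      have h0 : ((ν w₁ : LinearMap.range s) : M) = 0 := by
        rw [← Submodule.mem_bot k, ← hS.left]; exact ⟨(ν w₁).2, hm⟩
      have hw : w₁ = 0 := hν.1 (by rw [Subtype.ext h0 (a1 := ν w₁) (a2 := 0), map_zero])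
      rw [LinearMap.mem_ker, map_add, map_add, hw]
      have e2 : t (t ((ν w₂ : LinearMap.range s) : M)) = 0 := LinearMap.congr_fun (sq_zero hτ) _
      simp [e2, show t c = 0 from hc.2]
    · rw [hS.ker_right]
      refine sup_le (fun m hm => hgC m hm) ?_
      rintro _ ⟨m, rfl⟩
      obtain ⟨w₁, w₂, hw⟩ := hS.coords (sq_zero hτ) ν hν.2
        (Submodule.mem_sup_right ⟨m, rfl⟩ : t m ∈ LinearMap.range s ⊔ LinearMap.range t)
      have hw₁ : (w₁ : M) = 0 := by
        rw [← Submodule.mem_bot k, ← hS.left]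
        refine ⟨w₁.2, ?_⟩
        have h := congrArg t hw
        rw [map_add] at h
        simpa [← Module.End.mul_apply, sq_zero hτ, ht] using h
      rw [LinearMap.mem_ker, ← hw, hgW, Subtype.ext hw₁ (a1 := w₁) (a2 := 0), map_zero]
      simp
  have hfamg : ∀ c : k, dev (φ (lR (algebraMap k R c))) = c • dev g := fun c => by
    refine LinearMap.ext fun m => ?_
    obtain ⟨d, w₁, w₂, hd, rfl⟩ := hdec m
    rw [LinearMap.smul_apply, map_add (dev (φ (lR (algebraMap k R c)))) d, map_add (dev g) d,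
      (hfam c).1 d hd, (hfam c).2, hgC d hd, hgW, zero_add, zero_add]
  have hu : ∀ c : k, ∀ w₁ w₂ : LinearMap.range s,
      dev (φ (uR (algebraMap k R c))) ((w₁ : M) + t (ν w₂ : LinearMap.range s))
        = c • (w₂ : M) := fun c w₁ w₂ => by
    rw [dev_apply, (hφ _).2 w₁ w₂]
    simp [uR_val, Module.algebraMap_end_apply]
  have hfamu : ∀ c : k, dev (φ (uR (algebraMap k R c))) = c • dev a := fun c => by
    have h1 : ∀ w₁ w₂ : LinearMap.range s,
        s ((w₁ : M) + t (ν w₂ : LinearMap.range s)) = w₂ := fun w₁ w₂ => by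
      have h := hu 1 w₁ w₂
      rwa [map_one, hφa, one_smul] at h
    refine LinearMap.ext fun m => ?_
    obtain ⟨d, w₁, w₂, hd, rfl⟩ := hdec m
    rw [LinearMap.smul_apply, map_add (dev (φ (uR (algebraMap k R c)))) d, hu,
      dev_apply (φ (uR (algebraMap k R c))) d, hfix _ (hφ _).1 d hd, sub_self,
      map_add s d, LinearMap.mem_ker.1 hd.1, h1, zero_add, zero_add]
  haveI : Nontrivial R := hfield.nontrivial
  have hinj : Function.Injective (φ.comp (Matrix.SpecialLinearGroup.map (algebraMap k R))) := by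
    intro A B h
    have h' : φ (Matrix.SpecialLinearGroup.map (algebraMap k R) A) =
        φ (Matrix.SpecialLinearGroup.map (algebraMap k R) B) := h
    have e := huniq _ _ _ (hφ (Matrix.SpecialLinearGroup.map (algebraMap k R) A)).2
      (by rw [h']; exact (hφ _).2)
    have key : ∀ i j : Fin 2, (A : Matrix (Fin 2) (Fin 2) k) i j = (B : Matrix (Fin 2) (Fin 2) k) i j :=
      fun i j => (algebraMap k R).injective
        (((map_apply' _ A i j).symm.trans (congrArg (fun x : Matrix.SpecialLinearGroup (Fin 2) R =>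
          (x : Matrix (Fin 2) (Fin 2) R) i j) e)).trans (map_apply' _ B i j))
    exact ext_sl (key 0 0) (key 0 1) (key 1 0) (key 1 1)
  have hgq : g ∈ Cfsg.quadraticElements G := by
    refine mem_quadratic (hHG (hφ _).1) ?_ ?_ fun c => ⟨_, hHG (hφ (lR (algebraMap k R c))).1, hfamg c⟩
    · refine LinearMap.ext fun m => ?_
      have hmem : dev g m ∈ LinearMap.ker t := by
        obtain ⟨x, hx⟩ := hrange.le ⟨m, rfl⟩
        rw [LinearMap.mem_ker, ← hx]; exact LinearMap.congr_fun (sq_zero hτ) x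
      rw [Module.End.mul_apply, LinearMap.zero_apply]
      exact hker.ge hmem
    · intro h
      refine dev_ne_zero hτ (LinearMap.range_eq_bot.1 ?_)
      rw [← ht, ← hrange, h, LinearMap.range_zero]
  refine ⟨g, ⟨⟨hgq, fun x hx => le_of_eq_of_le ?_ (hτ.2 x hx)⟩, hker, hrange⟩, ?_,
    φ.comp (Matrix.SpecialLinearGroup.map (algebraMap k R)), hinj, fun c => ⟨?_, ?_⟩⟩
  · show Module.finrank k (LinearMap.range (dev g)) = Module.finrank k (LinearMap.range t)
    rw [hrange]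
  · have h := congrArg φ (uR_conj_lR (R := R))
    simp only [map_mul, map_inv, hφa, ← hg] at h
    exact h
  · rw [MonoidHom.comp_apply, map_uR]; exact hfamu c
  · rw [MonoidHom.comp_apply, map_lR]; exact hfamg c

theorem partner {a : GLM} (ha : a ∈ Cfsg.minimalQuadraticElements G)
    (hτ : τ ∈ Cfsg.minimalQuadraticElements G) (hz : ¬ IsNilpotent (zz (dev a) (dev τ))) :
    ∃ g ∈ Cfsg.sameActionClass G τ, g⁻¹ * a * g = a⁻¹ * g⁻¹ * a :=
  let ⟨g, hg, he, _⟩ := partner_full hk2 hk3 ha hτ hz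
  ⟨g, hg, he⟩


omit hk2 hk3

end NonDegenerate

/-- An element of `E(τ)` normalizing `E(σ)` is trivial, for a split pair. -/
theorem eq_one_of_normalizes {σ τ x : GLM} (hσ : σ ∈ Cfsg.minimalQuadraticElements G)
    (hτ : τ ∈ Cfsg.minimalQuadraticElements G)
    (hB : (Cfsg.sameActionSubgroup G τ : Set GLM) = Cfsg.sameActionClass G τ ∪ {1})
    (h : LinearMap.range (dev σ) ⊓ LinearMap.ker (dev τ) = ⊥)
    (hx : x ∈ Cfsg.sameActionSubgroup G τ)
    (hc : x * σ * x⁻¹ ∈ Cfsg.sameActionClass G σ) : x = 1 := by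
  by_contra hx1
  obtain ⟨-, hxk, hxr⟩ := mem_class_of_mem hB hx hx1
  change LinearMap.ker (dev x) = LinearMap.ker (dev τ) at hxk
  change LinearMap.range (dev x) = LinearMap.range (dev τ) at hxr
  have hr : (LinearMap.range (dev σ)).map (x : EndM) = LinearMap.range (dev σ) := by
    rw [← range_conj, ← dev_conj]; exact hc.2.2
  refine dev_ne_zero hσ (LinearMap.range_eq_bot.1 (eq_bot_iff.2 fun v hv => ?_))
  have h1 : dev x v ∈ LinearMap.range (dev σ) := by
    rw [dev_apply]; exact Submodule.sub_mem _ (hr.le ⟨v, hv, rfl⟩) hv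
  have h2 : dev x v ∈ LinearMap.ker (dev τ) := by
    obtain ⟨u, hu⟩ := hxr.le ⟨v, rfl⟩
    rw [LinearMap.mem_ker, ← hu]; exact LinearMap.congr_fun (sq_zero hτ) u
  have h3 : dev x v = 0 := by
    rw [← Submodule.mem_bot k, ← h]; exact ⟨h1, h2⟩
  rw [← h]
  exact ⟨hv, hxk.le h3⟩

end Cfsg.Agent.QuadPair

namespace Cfsg.Agent.QuadPair

open UniFamily

universe v

variable {k : Type v} [Field k] {M : Type v} [AddCommGroup M] [Module k M] [FiniteDimensional k M]

/-- `E(σ)` as a class, and its commutativity. -/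
def IsRootClass (G : Subgroup (LinearMap.GeneralLinearGroup k M))
    (σ : LinearMap.GeneralLinearGroup k M) : Prop :=
  σ ∈ Cfsg.minimalQuadraticElements G ∧
    (Cfsg.sameActionSubgroup G σ : Set (LinearMap.GeneralLinearGroup k M)) =
      Cfsg.sameActionClass G σ ∪ {1}

variable {G : Subgroup (LinearMap.GeneralLinearGroup k M)} {σ τ : LinearMap.GeneralLinearGroup k M}

theorem split_of_not_unipotent (hk2 : (2 : k) ≠ 0) (hk3 : Nat.card k ≠ 3)
    (hσ : IsRootClass G σ) (hτ : IsRootClass G τ)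
    (h : ¬ Cfsg.IsUnipotentOn (Cfsg.sameActionSubgroup G σ ⊔ Cfsg.sameActionSubgroup G τ)) :
    Split (dev σ) (dev τ) ∧
      ∀ a ∈ Cfsg.sameActionClass G σ, ∀ b ∈ Cfsg.sameActionClass G τ,
        ¬ IsNilpotent (zz (dev a) (dev b)) ∧ ¬ IsNilpotent (zz (dev b) (dev a)) := by
  obtain ⟨a, ha, b, hb, hab⟩ : ∃ a ∈ Cfsg.sameActionClass G σ, ∃ b ∈ Cfsg.sameActionClass G τ,
      ¬ IsNilpotent (zz (dev a) (dev b)) := by
    by_contra hno
    push Not at hno
    exact h (unipotent_classes hk2 hσ.1 hτ.1 hσ.2 hτ.2 hno)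
  have hS := (structure_theorem hk2 hk3 ha.1 hb.1 hab).1
  have hak : LinearMap.ker (dev a) = LinearMap.ker (dev σ) := ha.2.1
  have har : LinearMap.range (dev a) = LinearMap.range (dev σ) := ha.2.2
  have hbk : LinearMap.ker (dev b) = LinearMap.ker (dev τ) := hb.2.1
  have hbr : LinearMap.range (dev b) = LinearMap.range (dev τ) := hb.2.2
  obtain ⟨h1, h2, h3, h4, h5⟩ := hS
  rw [har, hbk] at h1
  rw [hbr, hak] at h2
  rw [hak, hbk, har] at h3
  rw [hak, hbk, hbr] at h4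
  rw [hak, hbk, har, hbr] at h5
  refine ⟨⟨h1, h2, h3, h4, h5⟩, fun x hx y hy => ?_⟩
  have e1 : LinearMap.range (dev x) ⊓ LinearMap.ker (dev y) = ⊥ := by
    rw [show LinearMap.range (dev x) = LinearMap.range (dev σ) from hx.2.2,
      show LinearMap.ker (dev y) = LinearMap.ker (dev τ) from hy.2.1, h1]
  have e2 : LinearMap.range (dev y) ⊓ LinearMap.ker (dev x) = ⊥ := by
    rw [show LinearMap.range (dev y) = LinearMap.range (dev τ) from hy.2.2,
      show LinearMap.ker (dev x) = LinearMap.ker (dev σ) from hx.2.1, h2]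
  exact ⟨not_nilpotent_of_left (sq_zero hx.1) (dev_ne_zero hx.1) e1 e2,
    not_nilpotent_of_left (sq_zero hy.1) (dev_ne_zero hy.1) e2 e1⟩

theorem partner_conj (hk2 : (2 : k) ≠ 0) (hk3 : Nat.card k ≠ 3)
    (hσ : IsRootClass G σ) (hτ : IsRootClass G τ) {a : LinearMap.GeneralLinearGroup k M}
    (ha : a ∈ Cfsg.sameActionClass G σ) (hz : ¬ IsNilpotent (zz (dev a) (dev τ))) :
    ∃ g ∈ Cfsg.sameActionSubgroup G τ, g ≠ 1 ∧ g⁻¹ * a * g = a⁻¹ * g⁻¹ * a ∧
      Cfsg.conjBy (Cfsg.sameActionSubgroup G σ) g⁻¹ = Cfsg.conjBy (Cfsg.sameActionSubgroup G τ) a⁻¹ := by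
  obtain ⟨g, hg, hgeq⟩ := partner hk2 hk3 ha.1 hτ.1 hz
  refine ⟨g, Subgroup.subset_closure hg, mem_ne_one hg.1, hgeq, ?_⟩
  have hgi : g⁻¹ ∈ Cfsg.sameActionClass G τ :=
    mem_class_of_mem hτ.2 (inv_mem (Subgroup.subset_closure hg))
      (inv_ne_one.2 (mem_ne_one hg.1))
  rw [← sameAction_eq ha, ← sameAction_eq hgi, conj_sameAction (inv_mem hg.1.1.1),
    conj_sameAction (inv_mem ha.1.1.1), inv_inv, inv_inv, hgeq]

theorem rankOne_of_split (hk2 : (2 : k) ≠ 0) (hk3 : Nat.card k ≠ 3)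
    (hσ : IsRootClass G σ) (hτ : IsRootClass G τ) (hS : Split (dev σ) (dev τ))
    (hA : IsMulCommutative (Cfsg.sameActionSubgroup G σ))
    (hB : IsMulCommutative (Cfsg.sameActionSubgroup G τ))
    (hcl : ∀ ρ ∈ Cfsg.minimalQuadraticElements G, IsRootClass G ρ)
    (hz : ∀ a ∈ Cfsg.sameActionClass G σ, ∀ b ∈ Cfsg.sameActionClass G τ,
        ¬ IsNilpotent (zz (dev a) (dev b)) ∧ ¬ IsNilpotent (zz (dev b) (dev a))) :
    Cfsg.IsSpecialRankOnePair (Cfsg.sameActionSubgroup G σ) (Cfsg.sameActionSubgroup G τ) := by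
  have nilp : ∀ {A : Subgroup (LinearMap.GeneralLinearGroup k M)}, IsMulCommutative A →
      Group.IsNilpotent A := fun {A} h => by
    letI : CommGroup A := { (inferInstance : Group A) with mul_comm := h.is_comm.comm }
    exact CommGroup.isNilpotent
  refine ⟨⟨fun h => ?_, nilp hA, nilp hB, fun a ha ha1 => ?_, fun b hb hb1 => ?_⟩, ?_⟩
  · have hm : σ ∈ Cfsg.sameActionSubgroup G τ := h ▸ Subgroup.subset_closure (class_self hσ.1)
    have hr : LinearMap.range (dev σ) = LinearMap.range (dev τ) :=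
      (mem_class_of_mem hτ.2 hm (mem_ne_one hσ.1)).2.2
    refine dev_ne_zero hσ.1 (LinearMap.range_eq_bot.1 (eq_bot_iff.2 fun v hv => ?_))
    rw [← hS.left]
    refine ⟨hv, ?_⟩
    obtain ⟨u, rfl⟩ := hr.le hv
    exact LinearMap.congr_fun (sq_zero hτ.1) u
  · have hac := mem_class_of_mem hσ.2 ha ha1
    obtain ⟨g, hg, hg1, -, hc⟩ := partner_conj hk2 hk3 hσ hτ hac (hz a hac τ (class_self hτ.1)).1
    exact ⟨g, hg, hg1, hc⟩
  · have hbc := mem_class_of_mem hτ.2 hb hb1
    obtain ⟨g, hg, hg1, -, hc⟩ := partner_conj hk2 hk3 hτ hσ hbc (hz σ (class_self hσ.1) b hbc).2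
    exact ⟨g, hg, hg1, hc⟩
  intro a ha ha1 b hb hb1 hab
  have hac := mem_class_of_mem hσ.2 ha ha1
  obtain ⟨g, hg, hg1, hgeq, hgc⟩ := partner_conj hk2 hk3 hσ hτ hac (hz a hac τ (class_self hτ.1)).1
  suffices hgb : g * b⁻¹ = 1 by rw [← mul_inv_eq_one.1 hgb]; exact hgeq
  have hbG : b ∈ G := (mem_class_of_mem hτ.2 hb hb1).1.1.1
  have hgG : g ∈ G := (mem_class_of_mem hτ.2 hg hg1).1.1.1
  refine eq_one_of_normalizes hσ.1 hτ.1 hτ.2 hS.left (mul_mem hg (inv_mem hb)) ?_
  have h := hab.trans hgc.symm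
  rw [conj_sameAction (inv_mem hbG), conj_sameAction (inv_mem hgG)] at h
  have hm₁ := conj_minimal (inv_mem hbG) hσ.1
  have hm₂ := conj_minimal (inv_mem hgG) hσ.1
  have hc := conj_class hgG (mem_class_of_mem (hcl _ hm₂).2
    (h ▸ Subgroup.subset_closure (class_self hm₁)) (mem_ne_one hm₁))
  simpa [mul_assoc] using hc

theorem involution (hk2 : (2 : k) ≠ 0) (hk3 : Nat.card k ≠ 3)
    (hσ : IsRootClass G σ) (hτ : IsRootClass G τ)
    (hz : ¬ IsNilpotent (zz (dev σ) (dev τ))) :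
    (∃! i : LinearMap.GeneralLinearGroup k M,
        i ∈ Cfsg.sameActionSubgroup G σ ⊔ Cfsg.sameActionSubgroup G τ ∧ i ≠ 1 ∧ i * i = 1 ∧
        (∀ x ∈ Cfsg.sameActionSubgroup G σ ⊔ Cfsg.sameActionSubgroup G τ, i * x = x * i) ∧
        (∀ m ∈ Cfsg.commutatorSubmodule (Cfsg.sameActionSubgroup G σ ⊔ Cfsg.sameActionSubgroup G τ),
          (i : M →ₗ[k] M) m = -m) ∧
        (∀ m ∈ Cfsg.fixedSubmodule (Cfsg.sameActionSubgroup G σ ⊔ Cfsg.sameActionSubgroup G τ),
          (i : M →ₗ[k] M) m = m)) ∧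
      IsCompl (Cfsg.fixedSubmodule (Cfsg.sameActionSubgroup G σ ⊔ Cfsg.sameActionSubgroup G τ))
        (Cfsg.commutatorSubmodule (Cfsg.sameActionSubgroup G σ ⊔ Cfsg.sameActionSubgroup G τ)) := by
  have hstr := structure_theorem hk2 hk3 hσ.1 hτ.1 hz
  set s := dev σ with hs
  set t := dev τ with ht
  obtain ⟨hS, ν, Λ, H, hfield, hH, -, hν, hfix, -, -, -, -, φ, hφ, -⟩ := hstr
  set X := Cfsg.sameActionSubgroup G σ ⊔ Cfsg.sameActionSubgroup G τ with hX
  set C := LinearMap.ker s ⊓ LinearMap.ker t with hC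
  set M1 := LinearMap.range s ⊔ LinearMap.range t with hM1
  have hHX : H ≤ X := by
    rw [hH, Subgroup.closure_le, scalarFamily_eq hσ.1, scalarFamily_eq hτ.1]
    rintro _ (⟨c, rfl⟩ | ⟨c, rfl⟩)
    · exact (le_sup_left : _ ≤ X) (el_mem_sameAction hσ.1 c)
    · exact (le_sup_right : _ ≤ X) (el_mem_sameAction hτ.1 c)
  have hXT : ∀ x ∈ X, (∀ m ∈ C, (x : M →ₗ[k] M) m = m) ∧ ∀ m, dev x m ∈ M1 := by
    let T : Subgroup (LinearMap.GeneralLinearGroup k M) :=
      { carrier := {x | (∀ m ∈ C, (x : M →ₗ[k] M) m = m) ∧ ∀ m, dev x m ∈ M1}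
        one_mem' := ⟨fun m _ => rfl, fun m => by simp [dev_one]⟩
        mul_mem' := fun {x y} hx hy => ⟨fun m hm => by
            rw [Units.val_mul, Module.End.mul_apply, hy.1 m hm, hx.1 m hm], fun m => by
            rw [dev_mul, LinearMap.add_apply, LinearMap.add_apply, Module.End.mul_apply]
            exact add_mem (add_mem (hx.2 _) (hx.2 _)) (hy.2 _)⟩
        inv_mem' := fun {x} hx => ⟨fun m hm => by
            conv_lhs => rw [← hx.1 m hm]
            exact LinearMap.congr_fun x.inv_mul m, fun m => by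
            have h := M1.neg_mem (hx.2 ((x⁻¹ : _).val m))
            have e : (x : M →ₗ[k] M) ((x⁻¹ : _).val m) = m := LinearMap.congr_fun x.mul_inv m
            rw [dev_apply, e, neg_sub] at h
            rwa [dev_apply]⟩ }
    refine fun x hx => (sup_le (?_ : _ ≤ T) ?_ : X ≤ T) hx <;>
      refine (Subgroup.closure_le T).2 fun y hy => ?_
    · exact ⟨fun m hm => sub_eq_zero.1 ((hy.2.1).ge hm.1),
        fun m => Submodule.mem_sup_left (hy.2.2.le ⟨m, rfl⟩)⟩
    · exact ⟨fun m hm => sub_eq_zero.1 ((hy.2.1).ge hm.2),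
        fun m => Submodule.mem_sup_right (hy.2.2.le ⟨m, rfl⟩)⟩
  have hσX : σ ∈ X := (le_sup_left : _ ≤ X) (Subgroup.subset_closure (class_self hσ.1))
  have hτX : τ ∈ X := (le_sup_right : _ ≤ X) (Subgroup.subset_closure (class_self hτ.1))
  have hfixed : Cfsg.fixedSubmodule X = C := by
    refine le_antisymm (le_inf ?_ ?_) (le_iInf₂ fun x hx m hm => ?_)
    · exact iInf₂_le σ hσX
    · exact iInf₂_le τ hτX
    · exact sub_eq_zero.2 ((hXT x hx).1 m hm)
  have hcomm : Cfsg.commutatorSubmodule X = M1 := by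
    refine le_antisymm (iSup₂_le fun x hx => ?_) (sup_le ?_ ?_)
    · rintro _ ⟨m, rfl⟩; exact (hXT x hx).2 m
    · exact le_iSup₂_of_le σ hσX le_rfl
    · exact le_iSup₂_of_le τ hτX le_rfl
  rw [hfixed, hcomm]
  let R := Algebra.adjoin k ({Λ} : Set (Module.End k (LinearMap.range s)))
  set n : Matrix.SpecialLinearGroup (Fin 2) R := negOne with hn
  have hnn : n * n = 1 := negOne_sq
  have hiC : ∀ m ∈ C, (φ n : M →ₗ[k] M) m = m := fun m hm => hfix _ (hφ n).1 m hm
  have hiM : ∀ m ∈ M1, (φ n : M →ₗ[k] M) m = -m := by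
    intro m hm
    obtain ⟨w₁, w₂, rfl⟩ := hS.coords (sq_zero hτ.1) ν hν.2 hm
    rw [(hφ n).2 w₁ w₂]
    simp [hn, negOne_val]
    abel
  have hdec : ∀ {i j : LinearMap.GeneralLinearGroup k M},
      (∀ m ∈ C, (i : M →ₗ[k] M) m = (j : M →ₗ[k] M) m) →
      (∀ m ∈ M1, (i : M →ₗ[k] M) m = (j : M →ₗ[k] M) m) → i = j := by
    intro i j h0 h1
    refine Units.ext (LinearMap.ext fun m => ?_)
    obtain ⟨c, b, hc, hb, rfl⟩ := Submodule.codisjoint_iff_exists_add_eq.1 hS.compl.codisjoint m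
    rw [map_add, map_add, h0 c hc, h1 b hb]
  refine ⟨⟨φ n, ⟨hHX (hφ n).1, fun h => ?_, by rw [← map_mul, hnn, map_one], fun x hx => ?_, hiM, hiC⟩,
    fun j hj => hdec (fun m hm => by rw [hj.2.2.2.2.2 m hm, hiC m hm])
      (fun m hm => by rw [hj.2.2.2.2.1 m hm, hiM m hm])⟩, hS.compl⟩
  · refine dev_ne_zero hσ.1 (LinearMap.ext fun m => ?_)
    have h1 := hiM (s m) (Submodule.mem_sup_left ⟨m, rfl⟩)
    rw [h, Units.val_one, Module.End.one_apply, eq_neg_iff_add_eq_zero, ← two_smul k] at h1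
    exact (smul_eq_zero.1 h1).resolve_left hk2
  · obtain ⟨hxC, hxM⟩ := hXT x hx
    refine hdec (fun m hm => ?_) fun m hm => ?_
    · simp only [Units.val_mul, Module.End.mul_apply, hxC m hm, hiC m hm]
    · have hxm : (x : M →ₗ[k] M) m ∈ M1 := by
        have := M1.add_mem (hxM m) hm
        rwa [dev_apply, sub_add_cancel] at this
      simp only [Units.val_mul, Module.End.mul_apply, hiM m hm, hiM _ hxm, map_neg]

end Cfsg.Agent.QuadPair
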